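import Cfsg.Agent.E8A.Fix.Jor
import Cfsg.Agent.S1054

/-!
# The boxes LINE and FIX (helper43)

* `le_of_norm`, `stab_le` : a maximal subgroup contains the subgroups it normalizes and the stabilizers of the vectors
  on which it acts by signs;
* `line_of : BOREL → JORD → CANON → KEMPF → TORUS → RED2 → LINE`;
* `abel_perm` : an abelian subgroup of `S_n` has order at most `3 ^ (n / 3)`;
* `fix_of : LINE → FIX`.
-/

set_option autoImplicit false
set_option maxRecDepth 100000

namespace Cfsg.Agent.E8A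

open Cfsg Cfsg.Lie Matrix
open Cfsg.Agent.H952.F4 (MaxAlt)

universe u

section

variable {F : Type u} [Field F]

theorem simple8 : IsSimpleGroup (G8 F) ∧ ¬ IsMulCommutative (G8 F) :=
  Cfsg.Agent.S1054.result (F := F) chevE8 (by simp)

theorem not_comm8 : ¬ ∀ x y : G8 F, x * y = y * x := fun h => simple8.2 ⟨⟨h⟩⟩

theorem finite8 [Finite F] : Finite (G8 F) :=
  Finite.of_injective (fun g : G8 F => mx g) mx_injective

/-- a maximal subgroup contains the proper nontrivial subgroups which it normalizes -/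
theorem le_of_norm {H R : Subgroup (G8 F)} (hH : IsCoatom H) (h0 : R ≠ ⊥) (h1 : R ≠ ⊤)
    (hn : ∀ h ∈ H, ∀ x ∈ R, h * x * h⁻¹ ∈ R) : R ≤ H := by
  have h2 : H ≤ Subgroup.normalizer (R : Set (G8 F)) := by
    intro h hh
    rw [Subgroup.mem_normalizer_iff]
    refine fun x => ⟨hn h hh x, fun hx => ?_⟩
    have h3 := hn h⁻¹ (inv_mem hh) _ hx
    rwa [show h⁻¹ * (h * x * h⁻¹) * h⁻¹⁻¹ = x by group] at h3
  rcases h2.eq_or_lt with h3 | h3
  · rw [h3]
    exact Subgroup.le_normalizer
  · exfalso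
    have h4 : R.Normal := Subgroup.normalizer_eq_top_iff.1 (hH.2 _ h3)
    have := (simple8 (F := F)).1
    rcases h4.eq_bot_or_eq_top with h5 | h5
    · exact h0 h5
    · exact h1 h5

theorem ne_top_of_pgroup [Finite F] {p : ℕ} [Fact p.Prime] {R : Subgroup (G8 F)} (h : IsPGroup p ↥R) : R ≠ ⊤ := by
  rintro rfl
  have := (simple8 (F := F)).1
  have := finite8 (F := F)
  have h1 : IsPGroup p (G8 F) := h.of_equiv Subgroup.topEquiv
  have h2 := h1.center_nontrivial
  rcases (inferInstance : (Subgroup.center (G8 F)).Normal).eq_bot_or_eq_top with h3 | h3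
  · rw [h3] at h2
    exact not_subsingleton ↥(⊥ : Subgroup (G8 F)) inferInstance
  · exact not_comm8 fun x y => Subgroup.mem_center_iff.1 (h3 ▸ Subgroup.mem_top y) x

/-- a maximal subgroup which acts on a vector by signs contains the stabilizer -/
theorem stab_le {H : Subgroup (G8 F)} (hH : IsCoatom H) {s : L8 F} (hs : s ≠ 0)
    (h : ∀ g ∈ H, act g s = s ∨ act g s = -s) : stab s ≤ H := by
  let P : Subgroup (G8 F) :=
    { carrier := {g | act g s = s ∨ act g s = -s}
      one_mem' := Or.inl (act_one s)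
      mul_mem' := fun {a b} ha hb => by
        show act (a * b) s = s ∨ act (a * b) s = -s
        rw [act_mul]
        rcases ha with ha | ha <;> rcases hb with hb | hb <;> simp [ha, hb, act_neg]
      inv_mem' := fun {a} ha => by
        show act a⁻¹ s = s ∨ act a⁻¹ s = -s
        rcases ha with ha | ha
        · exact Or.inl (inv_mem (show a ∈ stab s from ha))
        · refine Or.inr ?_
          have h1 := act_inv a s
          rw [ha, act_neg] at h1
          exact neg_eq_iff_eq_neg.1 h1 }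
  have hP : ∀ g, g ∈ P ↔ act g s = s ∨ act g s = -s := fun _ => Iff.rfl
  have h1 : H ≤ P := h
  rcases h1.eq_or_lt with h2 | h2
  · rw [h2]
    exact fun g hg => Or.inl hg
  · exfalso
    have h3 : ∀ g, act g s = s ∨ act g s = -s := fun g => (hP g).1 (hH.2 _ h2 ▸ Subgroup.mem_top g)
    have h4 : (stab s).Normal := ⟨fun a ha g => by
      rw [mem_stab] at ha ⊢
      rw [act_mul, act_mul]
      rcases h3 g⁻¹ with h5 | h5
      · rw [h5, ha, ← h5, act_inv']
        exact h5.symm
      · rw [h5, act_neg, ha, ← h5, act_inv']⟩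
    have := (simple8 (F := F)).1
    rcases h4.eq_bot_or_eq_top with h5 | h5
    · have h6 : ∀ g : G8 F, g * g = 1 := by
        intro g
        rw [← Subgroup.mem_bot, ← h5, mem_stab, act_mul]
        rcases h3 g with h7 | h7 <;> simp [h7, act_neg]
      refine not_comm8 (F := F) fun x y => ?_
      have h7 : ∀ g : G8 F, g⁻¹ = g := fun g => inv_eq_of_mul_eq_one_right (h6 g)
      rw [← h7 (x * y), _root_.mul_inv_rev, h7, h7]
    · exact hs (nofix fun g => mem_stab.1 (h5 ▸ Subgroup.mem_top g))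

theorem Jor.neg {x : L8 F} (hx : Jor x) : Jor (-x) :=
  ⟨fun r hr => by rw [Pi.neg_apply, hx.1 r hr, neg_zero], fun r hr => by
    rw [← rl_vec, rl_neg, rl_vec, hx.2 r (neg_ne_zero.1 hr), neg_zero]⟩

theorem mp0_neg (v : L8 F) : mp0 (-v) = -mp0 v := mp_neg _ v

theorem mp0_ne_zero {v : L8 F} (hv : v ≠ 0) : mp0 v ≠ 0 := fun h => hv (mp0_injective (h.trans (mp_zero _).symm))

/-- the semisimple part of a rational vector is rational -/
theorem exists_ss [Finite F] (hC : CANON.{u}) {v : L8 F} {g : G8 (Kb F)} (hx : Jor (act g (mp0 v))) :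
    ∃ s : L8 F, act g (mp0 s) = tp (act g (mp0 v)) ∧ (∀ h : G8 F, act h v = v → act h s = s) ∧
      ∀ h : G8 F, act h v = -v → act h s = -s := by
  obtain ⟨x, hxe⟩ : ∃ x, x = act g (mp0 v) := ⟨_, rfl⟩
  rw [← hxe] at hx ⊢
  have h1 : frq x = act (sg g) (mp0 v) := by rw [hxe, frq_act, frq_mp0]
  have h2 : Jor (frq x) := by rw [frq_eq]; exact (jor_mp _).2 hx
  have h3 := hC _ (frq x) x (g * (sg g)⁻¹) h2 hx (by rw [h1, act_mul, act_inv, hxe])
  have h4 : frq (act g⁻¹ (tp x)) = act g⁻¹ (tp x) := by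
    have e : frq (tp x) = tp (frq x) := by rw [frq_eq, frq_eq, tp_mp]
    rw [frq_act, e, map_inv]
    conv_rhs => rw [← h3, act_mul, act_inv]
  obtain ⟨s, hs⟩ := fix_L h4
  have h5 : act g (mp0 s) = tp x := by rw [hs, act_inv']
  refine ⟨s, h5, fun h hh => ?_, fun h hh => ?_⟩
  · have h6 := hC _ x x (g * emb0 h * g⁻¹) hx hx (by
      rw [hxe, act_mul, act_mul, act_inv, act_emb0, hh])
    rw [← h5, act_mul, act_mul, act_inv, act_emb0] at h6
    exact mp0_injective (act_injective g h6)
  · have h6 := hC _ x (-x) (g * emb0 h * g⁻¹) hx hx.neg (by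
      rw [hxe, act_mul, act_mul, act_inv, act_emb0, hh, mp0_neg, act_neg])
    rw [tp_neg, ← h5, act_mul, act_mul, act_inv, act_emb0, ← act_neg, ← mp0_neg] at h6
    exact mp0_injective (act_injective g h6)

end

/-- **LINE** -/
theorem line_of (hB : BOREL.{u}) (hJ : JORD.{u}) (hC : CANON.{u}) (hK : KEMPF.{u}) (hT : TORUS.{u})
    (hR : RED2.{u}) : LINE.{u} := by
  intro F _ _ p _ _ H hH v hv hsign
  obtain ⟨g₁, hg₁⟩ := hB (Kb F) (mp0 v)
  obtain ⟨g₂, hg₂⟩ := hJ _ _ hg₁
  rw [← act_mul] at hg₂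
  obtain ⟨g, hg⟩ : ∃ g, g = g₂ * g₁ := ⟨_, rfl⟩
  rw [← hg] at hg₂
  obtain ⟨s, hs, hs1, hs2⟩ := exists_ss hC hg₂
  by_cases h0 : s = 0
  · left
    have hN : InN (act g (mp0 v)) := ⟨hg₂.1, fun i => by
      rw [← tp_inl (act g (mp0 v)), ← hs, h0, show mp0 (0 : L8 F) = 0 from mp_zero _, act_zero, Pi.zero_apply]⟩
    obtain ⟨R, hR0, hRp, hRn⟩ := hK F p (Submodule.span (Kb F) {mp0 v}) (by
        rw [Ne, Submodule.span_singleton_eq_bot]
        exact mp0_ne_zero hv) (fun w hw => by
        obtain ⟨c, rfl⟩ := Submodule.mem_span_singleton.1 hw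
        rw [frq_eq, mp_smul, ← frq_eq, frq_mp0]
        exact Submodule.smul_mem _ _ (Submodule.mem_span_singleton_self _)) ⟨g, fun w hw => by
        obtain ⟨c, rfl⟩ := Submodule.mem_span_singleton.1 hw
        rw [act_smul]
        exact inN_iff.2 (Submodule.smul_mem _ _ (inN_iff.1 hN))⟩
    have hn : ∀ h ∈ H, ∀ x ∈ R, h * x * h⁻¹ ∈ R := fun h hh => hRn h fun w hw => by
      obtain ⟨c, rfl⟩ := Submodule.mem_span_singleton.1 hw
      rw [act_smul, act_emb0]
      refine Submodule.smul_mem _ _ ?_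
      rcases hsign h hh with e | e
      · rw [e]
        exact Submodule.mem_span_singleton_self _
      · rw [e, mp0_neg]
        exact neg_mem (Submodule.mem_span_singleton_self _)
    exact ⟨R, hR0, le_of_norm hH hR0 (ne_top_of_pgroup hRp) hn, Or.inl hRp, hn⟩
  · have hsg : ∀ h ∈ H, act h s = s ∨ act h s = -s := fun h hh => (hsign h hh).imp (hs1 h) (hs2 h)
    have hle := stab_le hH h0 hsg
    have hss : ∃ g : G8 (Kb F), InT (act g (mp0 s)) := ⟨g, by rw [hs]; exact inT_tp _⟩
    by_cases hq : Nat.card F = 2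
    · have h2 : (2 : F) = 0 := by
        have := Fintype.ofFinite F
        have h3 := FiniteField.cast_card_eq_zero F
        rw [← Nat.card_eq_fintype_card, hq] at h3
        exact_mod_cast h3
      have hneg : -s = s := by
        rw [neg_eq_iff_add_eq_zero, ← two_smul F, h2, zero_smul]
      have he : H = stab s := le_antisymm (fun h hh => by
        have h3 := hsg h hh
        rw [hneg, or_self] at h3
        exact h3) hle
      rcases hR F hq s h0 hss with ⟨Z, h1, h3, h4, h5⟩ | h1 | h1 | ⟨v', h1, h3, h4⟩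
      · left
        rw [he]
        exact ⟨Z, h1, h3, Or.inr h4, h5⟩
      · exact Or.inr (Or.inr ⟨hq, Or.inl (he ▸ h1)⟩)
      · exact Or.inr (Or.inr ⟨hq, Or.inr (Or.inl (he ▸ h1))⟩)
      · have he' : H = stab v' := le_antisymm (he ▸ h3) (stab_le hH h1 fun h hh => Or.inl (h3 (he ▸ hh)))
        exact Or.inr (Or.inr ⟨hq, Or.inr (Or.inr (he' ▸ h4))⟩)
    · obtain ⟨S, h1, h2, h3⟩ := hT F p s hss
      exact Or.inr (Or.inl ⟨hq, S, h1.trans hle, h2, h3⟩)

/-! ### FIX -/

theorem cube_le (k : ℕ) : k ^ 3 ≤ 3 ^ k := by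
  rcases Nat.lt_or_ge k 3 with h | h
  · interval_cases k <;> norm_num
  · induction k, h using Nat.le_induction with
    | base => norm_num
    | succ k hk ih =>
      have h1 : (k + 1) ^ 3 ≤ 3 * k ^ 3 := by
        obtain ⟨m, rfl⟩ := Nat.exists_eq_add_of_le hk
        nlinarith [Nat.zero_le m, Nat.zero_le (m ^ 2), Nat.zero_le (m ^ 3)]
      rw [pow_succ 3 k]
      omega

theorem abel_perm_aux {X : Type} [Fintype X] [DecidableEq X] (m : ℕ) : ∀ (T : Finset X) (B : Subgroup (Equiv.Perm X)),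
    T.card = m → (∀ x ∈ B, ∀ y ∈ B, x * y = y * x) → (∀ b ∈ B, ∀ x, x ∉ T → b x = x) → Nat.card ↥B ^ 3 ≤ 3 ^ m := by
  induction m using Nat.strong_induction_on with
  | _ m ih =>
    intro T B hT hc hf
    rcases T.eq_empty_or_nonempty with rfl | ⟨x, hx⟩
    · have h1 : B = ⊥ := by
        rw [eq_bot_iff]
        intro b hb
        rw [Subgroup.mem_bot]
        exact Equiv.ext fun x => hf b hb x (Finset.notMem_empty x)
      rw [h1, Subgroup.card_bot, one_pow]
      exact Nat.one_le_pow _ _ (by norm_num)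
    · classical
      let O : Finset X := (MulAction.orbit ↥B x).toFinset
      have hO : ∀ y, y ∈ O ↔ ∃ b ∈ B, b x = y := fun y => by
        rw [Set.mem_toFinset]
        exact ⟨fun ⟨b, hb⟩ => ⟨b, b.2, hb⟩, fun ⟨b, hb, e⟩ => ⟨⟨b, hb⟩, e⟩⟩
      have hOT : O ⊆ T := by
        intro y hy
        obtain ⟨b, hb, rfl⟩ := (hO y).1 hy
        by_contra h
        have h1 := b.injective (hf b hb _ h)
        rw [h1] at h
        exact h hx
      have hxO : x ∈ O := (hO x).2 ⟨1, one_mem _, rfl⟩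
      have hpos : 0 < O.card := Finset.card_pos.2 ⟨x, hxO⟩
      have hle : O.card ≤ m := hT ▸ Finset.card_le_card hOT
      have h1 := ih (m - O.card) (by omega) (T \ O) ((MulAction.stabilizer ↥B x).map B.subtype)
        (by rw [Finset.card_sdiff_of_subset hOT, hT])
        (by
          rintro _ ⟨a, -, rfl⟩ _ ⟨b, -, rfl⟩
          exact hc _ a.2 _ b.2)
        (by
          rintro _ ⟨a, ha, rfl⟩ y hy
          by_cases h2 : y ∈ T
          · have h3 : y ∈ O := by
              by_contra h3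
              exact hy (Finset.mem_sdiff.2 ⟨h2, h3⟩)
            obtain ⟨b, hb, rfl⟩ := (hO y).1 h3
            have h4 : (a : Equiv.Perm X) x = x := ha
            show ((a : Equiv.Perm X) * b) x = b x
            rw [hc _ a.2 _ hb, Equiv.Perm.mul_apply, h4]
          · exact hf _ a.2 y h2)
      rw [Subgroup.card_map_of_injective B.subtype_injective] at h1
      have h2 : (MulAction.stabilizer ↥B x).index = O.card := by
        rw [MulAction.index_stabilizer, Set.ncard_eq_toFinset_card']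
      rw [← (MulAction.stabilizer ↥B x).card_mul_index, h2, mul_pow]
      calc _ ≤ 3 ^ (m - O.card) * 3 ^ O.card := Nat.mul_le_mul h1 (cube_le _)
        _ = 3 ^ m := by rw [← pow_add, Nat.sub_add_cancel hle]

/-- abelian subgroups of the symmetric groups -/
theorem abel_perm {n : ℕ} {B : Subgroup (Equiv.Perm (Fin n))} (hc : ∀ x ∈ B, ∀ y ∈ B, x * y = y * x) :
    Nat.card ↥B ^ 3 ≤ 3 ^ n :=
  abel_perm_aux n Finset.univ B (by simp) hc fun _ _ x hx => absurd (Finset.mem_univ x) hx

section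

variable {G : Type u} [Group G] {H : Subgroup G} {n : ℕ} {φ : ↥(alternatingGroup (Fin n)) →* G}

theorem two_mul_card_alt (hn : 5 ≤ n) : 2 * Nat.card ↥(alternatingGroup (Fin n)) = n.factorial := by
  have : Nontrivial (Fin n) := Fin.nontrivial_iff_two_le.2 (by omega)
  rw [two_mul_nat_card_alternatingGroup, Nat.card_perm, Nat.card_eq_fintype_card, Fintype.card_fin]

theorem maxAlt_card (hM : MaxAlt H n φ) :
    φ.range.relIndex H * Nat.card ↥(alternatingGroup (Fin n)) = Nat.card ↥H := by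
  rw [← (φ.range.subgroupOf H).index_mul_card, Nat.card_congr (Subgroup.subgroupOfEquivOfLe hM.le).toEquiv,
    ← Nat.card_congr (MonoidHom.ofInjective hM.inj).toEquiv]
  rfl

theorem maxAlt_index (hM : MaxAlt H n φ) (hn : 5 ≤ n) : φ.range.relIndex H ≤ if n = 6 then 4 else 2 := by
  have h1 := maxAlt_card hM
  have h2 := two_mul_card_alt hn
  have h3 := hM.card
  have h4 : 0 < Nat.card ↥(alternatingGroup (Fin n)) := Nat.card_pos
  split_ifs at h3 ⊢ with h
  · subst h
    have h5 : Nat.card ↥(alternatingGroup (Fin 6)) = 360 := by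
      have : (6 : ℕ).factorial = 720 := by decide
      omega
    rw [h5] at h1
    omega
  · rw [← h1, ← h2] at h3
    exact Nat.le_of_mul_le_mul_right h3 h4

theorem maxAlt_abel [Finite G] (hM : MaxAlt H n φ) {S : Subgroup G} (hS : S ≤ H)
    (hc : ∀ x ∈ S, ∀ y ∈ S, x * y = y * x) :
    ∃ k, k ^ 3 ≤ 3 ^ n ∧ Nat.card ↥S ≤ φ.range.relIndex H * k := by
  refine ⟨Nat.card ↥((S.comap φ).map (alternatingGroup (Fin n)).subtype), abel_perm ?_, ?_⟩
  · rintro _ ⟨a, ha, rfl⟩ _ ⟨b, hb, rfl⟩
    have h1 : a * b = b * a := hM.inj (by rw [map_mul, map_mul]; exact hc _ ha _ hb)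
    exact congrArg Subtype.val h1
  · rw [Subgroup.card_map_of_injective (Subgroup.subtype_injective _), ← Subgroup.card_map_of_injective hM.inj,
      Subgroup.map_comap_eq, ← (φ.range.subgroupOf S).index_mul_card]
    refine Nat.mul_le_mul (Subgroup.relIndex_le_of_le_right hS Subgroup.index_ne_zero_of_finite) (le_of_eq ?_)
    rw [← Subgroup.inf_subgroupOf_right]
    exact Nat.card_congr (Subgroup.subgroupOfEquivOfLe inf_le_right).toEquiv

theorem maxAlt_min [Finite G] (hM : MaxAlt H n φ) (hn : 5 ≤ n) {p : ℕ} [Fact p.Prime] {R : Subgroup G} (h0 : R ≠ ⊥)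
    (hle : R ≤ H) (h : IsPGroup p ↥R ∨ ∀ x ∈ R, ∀ y ∈ R, x * y = y * x) (hn' : ∀ h ∈ H, ∀ x ∈ R, h * x * h⁻¹ ∈ R) :
    False := by
  have h1 := hM.min R hle hn' h0
  have h4 : 4 ≤ Nat.card (Fin n) := by rw [Nat.card_eq_fintype_card, Fintype.card_fin]; omega
  rcases h with h | h
  · have h2 : IsPGroup p ↥(alternatingGroup (Fin n)) := (h.to_le h1).of_equiv (MonoidHom.ofInjective hM.inj).symm
    have : Nontrivial ↥(alternatingGroup (Fin n)) := alternatingGroup.nontrivial_of_three_le_card (by omega)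
    have h3 := h2.center_nontrivial
    rw [alternatingGroup.center_eq_bot h4] at h3
    exact not_subsingleton ↥(⊥ : Subgroup ↥(alternatingGroup (Fin n))) inferInstance
  · have h2 : IsMulCommutative ↥(alternatingGroup (Fin n)) := ⟨⟨fun a b => hM.inj (by
      rw [map_mul, map_mul]
      exact h _ (h1 ⟨a, rfl⟩) _ (h1 ⟨b, rfl⟩))⟩⟩
    have h3 := alternatingGroup.isMulCommutative_iff_card_le_three.1 h2
    omega

end

/-- a common eigenvector with signs in the fixed space -/
theorem exists_sign {F : Type u} [Field F] [Finite F] {H A : Subgroup (G8 F)}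
    (hn : ∀ h ∈ H, ∀ a ∈ A, h * a * h⁻¹ ∈ A) (hsq : ∀ h ∈ H, h * h ∈ A) {v : L8 F} (hv : v ≠ 0)
    (hf : A ≤ stab v) : ∃ w : L8 F, w ≠ 0 ∧ A ≤ stab w ∧ ∀ h ∈ H, act h w = w ∨ act h w = -w := by
  classical
  have := finite8 (F := F)
  have h1 : ∀ h ∈ H, ∀ w, A ≤ stab w → A ≤ stab (act h w) := by
    intro h hh w hw a ha
    have h2 := hw (hn h⁻¹ (inv_mem hh) a ha)
    rw [mem_stab] at h2 ⊢
    conv_rhs => rw [← h2]
    rw [← act_mul, ← act_mul]
    congr 1
    group
  have h2 : ∀ h ∈ H, ∀ w, A ≤ stab w → act h (act h w) = w := fun h hh w hw => by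
    rw [← act_mul]
    exact hw (hsq h hh)
  have h3 : ∀ x ∈ H, ∀ y ∈ H, ∀ w, A ≤ stab w → act x (act y w) = act y (act x w) := by
    intro x hx y hy w hw
    have h4 := h2 _ (mul_mem hx hy) w hw
    rw [act_mul, act_mul] at h4
    have h5 := h1 x hx _ (h1 y hy w hw)
    conv_rhs => rw [← h4]
    rw [h2 x hx _ (h1 y hy _ h5), h2 y hy _ h5]
  have h4 : ∀ s : Finset (G8 F), (∀ h ∈ s, h ∈ H) →
      ∃ w : L8 F, w ≠ 0 ∧ A ≤ stab w ∧ ∀ h ∈ s, act h w = w ∨ act h w = -w := by
    intro s
    induction s using Finset.induction_on with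
    | empty => exact fun _ => ⟨v, hv, hf, fun h hh => absurd hh (Finset.notMem_empty h)⟩
    | insert x s _ ih =>
      intro hs
      obtain ⟨w, hw0, hwA, hw⟩ := ih fun h hh => hs h (Finset.mem_insert_of_mem hh)
      have hx := hs x (Finset.mem_insert_self x s)
      by_cases h5 : w + act x w = 0
      · refine ⟨w, hw0, hwA, fun h hh => ?_⟩
        rcases Finset.mem_insert.1 hh with rfl | hh
        · exact Or.inr (eq_neg_of_add_eq_zero_right h5)
        · exact hw h hh
      · refine ⟨w + act x w, h5, fun a ha => ?_, fun h hh => ?_⟩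
        · rw [mem_stab, act_add, show act a w = w from hwA ha, show act a (act x w) = act x w from h1 x hx w hwA ha]
        · rcases Finset.mem_insert.1 hh with rfl | hh
          · left
            rw [act_add, h2 h hx w hwA, add_comm]
          · rw [act_add, h3 h (hs h (Finset.mem_insert_of_mem hh)) x hx w hwA]
            rcases hw h hh with e | e
            · left
              rw [e]
            · right
              rw [e, act_neg, neg_add]
  obtain ⟨w, h5, h6, h7⟩ := h4 (Set.toFinite (H : Set (G8 F))).toFinset fun h hh => by simpa using hh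
  exact ⟨w, h5, h6, fun h hh => h7 h (by simpa using hh)⟩

theorem not_dvd_fact (i : ℕ) (h0 : i ≠ 0) (h4 : i ≤ 4) : ¬ 31 ∣ i * (18 : ℕ).factorial ∧ ¬ 127 ∣ i * (18 : ℕ).factorial ∧
    ¬ 2 ^ 24 ∣ i * (18 : ℕ).factorial := by
  have h : ∀ j : Fin 5, j.val ≠ 0 → ¬ 31 ∣ j.val * (18 : ℕ).factorial ∧ ¬ 127 ∣ j.val * (18 : ℕ).factorial ∧
    ¬ 2 ^ 24 ∣ j.val * (18 : ℕ).factorial := by decide +kernel
  exact h ⟨i, by omega⟩ h0

/-- **FIX** -/
theorem fix_of (hL : LINE.{u}) : FIX.{u} := by
  intro F _ _ H n φ hM h5 h18 h3 v hv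
  by_contra hv0
  have := finite8 (F := F)
  obtain ⟨p, hp, hch⟩ := exists_char F
  have := Fact.mk hp
  obtain ⟨w, hw0, -, hw⟩ := exists_sign hM.norm hM.sq hv0 (by
    rintro _ ⟨a, rfl⟩
    exact hv a)
  have hi := maxAlt_index hM h5
  rcases hL F p H hM.coatom w hw0 hw with ⟨R, h1, h2, h4, h6⟩ | ⟨hq, S, h1, h2, h4⟩ | ⟨-, h1⟩
  · exact maxAlt_min hM h5 h1 h2 h4 h6
  · obtain ⟨k, hk, h6⟩ := maxAlt_abel hM h1 h2
    have hq1 : 1 < Nat.card F := Finite.one_lt_card
    have h7 := h4.trans h6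
    by_cases hq3 : Nat.card F = 3
    · rw [hq3] at h7
      have h8 : k ^ 3 ≤ 3 ^ 13 := hk.trans (Nat.pow_le_pow_right (by norm_num) (h3 hq3))
      split_ifs at hi with h9
      · rw [h9] at hk
        have h10 : k ≤ 9 := by
          by_contra hc
          have := Nat.pow_le_pow_left (show 10 ≤ k by omega) 3
          omega
        have := Nat.mul_le_mul hi h10
        omega
      · have h10 : k ≤ 116 := by
          by_contra hc
          have := Nat.pow_le_pow_left (show 117 ≤ k by omega) 3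
          omega
        have := Nat.mul_le_mul hi h10
        omega
    · have h8 : 3 ^ 8 ≤ (Nat.card F - 1) ^ 8 := Nat.pow_le_pow_left (by omega) 8
      have h9 : k ^ 3 ≤ 3 ^ 18 := hk.trans (Nat.pow_le_pow_right (by norm_num) h18)
      have h10 : k ≤ 729 := by
        by_contra hc
        have := Nat.pow_le_pow_left (show 730 ≤ k by omega) 3
        omega
      have h11 : φ.range.relIndex H ≤ 4 := by split_ifs at hi <;> omega
      have := Nat.mul_le_mul h11 h10
      omega
  · have h11 : φ.range.relIndex H ≤ 4 := by split_ifs at hi <;> omega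
    have h12 : φ.range.relIndex H ≠ 0 := Subgroup.index_ne_zero_of_finite
    have h13 : Nat.card ↥H ∣ φ.range.relIndex H * (18 : ℕ).factorial := by
      rw [← maxAlt_card hM]
      refine Nat.mul_dvd_mul_left _ (Dvd.dvd.trans ?_ (Nat.factorial_dvd_factorial h18))
      rw [← two_mul_card_alt h5]
      exact Nat.dvd_mul_left _ _
    have h14 := not_dvd_fact _ h12 h11
    rcases h1 with h1 | h1 | h1
    · exact h14.1 (h1.trans h13)
    · exact h14.2.1 (h1.trans h13)
    · exact h14.2.2 (h1.trans h13)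

end Cfsg.Agent.E8A
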