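import Cfsg.Agent.E8A.Fix.FrmDefs
import Cfsg.Agent.H720.TorusReal

/-!
# Toral vectors (helper44)

* `lvH` : `lv · v` as an additive map; `exists_inT`, `inT_ext` : toral vectors are the additive maps `Q8 →+ K`;
* `act_xc`, `mx_TT` : the action of the root elements on toral vectors, the matrices of the torus;
* `M0_le`, `TT_le` : `M0 h` and the torus fix `h`;
* `inT_rp`, `lv_rp` : the representatives of the Weyl group act on the toral vectors.
-/

set_option autoImplicit false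
set_option linter.unusedSectionVars false
set_option maxRecDepth 20000

namespace Cfsg.Agent.E8A.Frm

open Cfsg Cfsg.Lie CoxeterSystem Matrix
open Cfsg.Agent.ChevalleyStructure Cfsg.Agent.ChevalleyStructure.Elts
open Cfsg.Agent.ChevalleyStructure.CoxeterGeom Cfsg.Agent.ChevalleyStructure.CoxeterGeomTypes
open Cfsg.Agent.ChevalleyStructure.LieAut Cfsg.Agent.ChevalleyStructure.LieAbs Cfsg.Agent.ChevalleyStructure.JacMain
open Cfsg.Agent.Tits.Roots Cfsg.Agent.Nodes.Reps Cfsg.Agent.Nodes.BNOf Cfsg.Agent.Nodes.RGDChev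
open Cfsg.Agent.KFacts.RgdChevCoord Cfsg.Agent.BpExc.TowChev Cfsg.Agent.H129.TorusChar
open Cfsg.Agent.H942.E8Tab (e8T)

universe u

variable {K : Type u} [Field K]

instance finW8 : Finite W8 := finite_W e8T cs8

/-! ### the additive map of a vector -/

theorem lv_add (a b : Q8) (v : L8 K) : lv (a + b) v = lv a v + lv b v := by
  unfold lv
  rw [← Finset.sum_add_distrib]
  refine Finset.sum_congr rfl fun i _ => ?_
  rw [pairing_add, Int.cast_add, add_mul]

/-- `lv · v` as an additive map -/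
def lvH (v : L8 K) : Q8 →+ K := AddMonoidHom.mk' (fun a => lv a v) fun a b => lv_add a b v

theorem lvH_apply (v : L8 K) (a : Q8) : lvH v a = lv a v := rfl

theorem lv_zero (v : L8 K) : lv 0 v = 0 := map_zero (lvH v)

theorem lv_neg (a : Q8) (v : L8 K) : lv (-a) v = -lv a v := map_neg (lvH v) a

theorem lv_sub (a b : Q8) (v : L8 K) : lv (a - b) v = lv a v - lv b v := map_sub (lvH v) a b

theorem hom_ext {A : Type*} [AddCommGroup A] {f g : Q8 →+ A} (h : ∀ i, f (sr i) = g (sr i)) : f = g := by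
  refine AddMonoidHom.ext fun x => ?_
  rw [IsMC.eq_sum_sr x, map_sum, map_sum]
  exact Finset.sum_congr rfl fun i _ => by rw [map_zsmul, map_zsmul, h]

theorem lv_sr (i : Fin 8) (v : L8 K) :
    lv (sr i) v = ∑ j : Fin 8, ((cartanOf chevE8 8 j i : ℤ) : K) * v (Sum.inl j) := by
  unfold lv
  refine Finset.sum_congr rfl fun j _ => ?_
  congr 2
  unfold pairing
  rw [Finset.sum_eq_single i]
  · rw [sr_self, mul_one]
  · intro k _ hk
    rw [sr_ne hk, mul_zero]
  · intro h
    exact absurd (Finset.mem_univ i) h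

/-- the inverse of the Cartan matrix -/
def B8 : Fin 8 → Fin 8 → ℤ := ![![4, 5, 7, 10, 8, 6, 4, 2], ![5, 8, 10, 15, 12, 9, 6, 3],
    ![7, 10, 14, 20, 16, 12, 8, 4], ![10, 15, 20, 30, 24, 18, 12, 6], ![8, 12, 16, 24, 20, 15, 10, 5],
    ![6, 9, 12, 18, 15, 12, 8, 4], ![4, 6, 8, 12, 10, 8, 6, 3], ![2, 3, 4, 6, 5, 4, 3, 2]]

theorem invB8 : InvC chevE8 8 1 B8 := invC_E8

theorem invB8' : ∀ j m : Fin 8, ∑ i, cartanOf chevE8 8 j i * B8 i m = if j = m then 1 else 0 := by
  decide +kernel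

/-- every additive map comes from a toral vector -/
theorem exists_inT (μ : Q8 →+ K) : ∃ h : L8 K, InT h ∧ ∀ a, lv a h = μ a := by
  refine ⟨Sum.elim (fun j : Fin 8 => ∑ m : Fin 8, ((B8 m j : ℤ) : K) * μ (sr m)) (fun _ => 0), fun _ => rfl, ?_⟩
  intro a
  refine DFunLike.congr_fun (hom_ext (f := lvH _) (g := μ) fun i => ?_) a
  rw [lvH_apply, lv_sr]
  show ∑ j : Fin 8, ((cartanOf chevE8 8 j i : ℤ) : K) * ∑ m : Fin 8, ((B8 m j : ℤ) : K) * μ (sr m) = _
  simp only [Finset.mul_sum]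
  rw [Finset.sum_comm]
  have h1 : ∀ m : Fin 8, ∑ j : Fin 8, ((cartanOf chevE8 8 j i : ℤ) : K) * (((B8 m j : ℤ) : K) * μ (sr m)) =
      if m = i then μ (sr m) else 0 := by
    intro m
    have h2 := congrArg (fun z : ℤ => (z : K)) (invB8 m i)
    simp only [Int.cast_sum, Int.cast_mul, Nat.cast_one] at h2
    have h3 : ∑ j : Fin 8, ((cartanOf chevE8 8 j i : ℤ) : K) * (((B8 m j : ℤ) : K) * μ (sr m)) =
        (∑ j : Fin 8, ((B8 m j : ℤ) : K) * ((cartanOf chevE8 8 j i : ℤ) : K)) * μ (sr m) := by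
      rw [Finset.sum_mul]
      exact Finset.sum_congr rfl fun j _ => by ring
    rw [h3, h2]
    split_ifs <;> simp
  rw [Finset.sum_congr rfl fun m _ => h1 m, Finset.sum_ite_eq' Finset.univ i, if_pos (Finset.mem_univ i)]

theorem coord_eq (v : L8 K) (m : Fin 8) : v (Sum.inl m) = ∑ i : Fin 8, ((B8 i m : ℤ) : K) * lv (sr i) v := by
  simp only [lv_sr, Finset.mul_sum]
  rw [Finset.sum_comm]
  have h1 : ∀ j : Fin 8, ∑ i : Fin 8, ((B8 i m : ℤ) : K) * (((cartanOf chevE8 8 j i : ℤ) : K) * v (Sum.inl j)) =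
      if j = m then v (Sum.inl j) else 0 := by
    intro j
    have h2 := congrArg (fun z : ℤ => (z : K)) (invB8' j m)
    simp only [Int.cast_sum, Int.cast_mul] at h2
    have h3 : ∑ i : Fin 8, ((B8 i m : ℤ) : K) * (((cartanOf chevE8 8 j i : ℤ) : K) * v (Sum.inl j)) =
        (∑ i : Fin 8, ((cartanOf chevE8 8 j i : ℤ) : K) * ((B8 i m : ℤ) : K)) * v (Sum.inl j) := by
      rw [Finset.sum_mul]
      exact Finset.sum_congr rfl fun j _ => by ring
    rw [h3, h2]
    split_ifs <;> simp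
  rw [Finset.sum_congr rfl fun j _ => h1 j, Finset.sum_ite_eq' Finset.univ m, if_pos (Finset.mem_univ m)]

/-- toral vectors are determined by their values -/
theorem inT_ext {h h' : L8 K} (hh : InT h) (hh' : InT h') (e : ∀ i, lv (sr i) h = lv (sr i) h') : h = h' := by
  funext j
  rcases j with j | r
  · have h1 := coord_eq h j
    have h2 := coord_eq h' j
    rw [Finset.sum_congr rfl fun i _ => by rw [e i]] at h1
    exact h1.trans h2.symm
  · rw [hh r, hh' r]

theorem exists_idx {a : Q8} (ha : Rt a) : ∃ s : Fin chevE8.nroots, vec chevE8 8 s = a := by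
  obtain ⟨r, hr, rfl⟩ := (isRoot_iff e8T cs8 a).1 ha
  exact ⟨⟨r, hr⟩, rfl⟩

theorem rt_vec (s : Fin chevE8.nroots) : Rt (vec chevE8 8 s) := isRoot_vec e8T cs8 s.2

/-! ### root elements -/

/-- the root vector -/
def er (K : Type u) [Field K] (r : Fin chevE8.nroots) : L8 K := Pi.single (Sum.inr r) 1

theorem mx_xc (r : Fin chevE8.nroots) (t : K) : mx (xc e8T (vec chevE8 8 r) t) = chevE8.xMat K r t := by
  unfold mx
  rw [coe_xc e8T r.2, coe_xG, x_of_lt r.2]

theorem act_xc (r : Fin chevE8.nroots) (t : K) {h : L8 K} (hh : InT h) :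
    act (xc e8T (vec chevE8 8 r) t) h = h - (rv r h * t) • er K r := by
  unfold act
  rw [mx_xc]
  funext j
  rw [Matrix.mulVec, dotProduct, Fintype.sum_sum_type]
  have h1 : ∑ s : Fin chevE8.nroots, chevE8.xMat K r t j (Sum.inr s) * h (Sum.inr s) = 0 :=
    Finset.sum_eq_zero fun s _ => by rw [hh s, mul_zero]
  rw [h1, add_zero, Pi.sub_apply, Pi.smul_apply, smul_eq_mul]
  rcases j with j | u
  · have h2 : er K r (Sum.inl j) = 0 := Pi.single_eq_of_ne (by simp) _
    rw [h2, mul_zero, sub_zero, Finset.sum_eq_single j]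
    · show (if j = j then (1 : K) else 0) * _ = _
      rw [if_pos rfl, one_mul]
    · intro i _ hi
      show (if j = i then (1 : K) else 0) * _ = _
      rw [if_neg (Ne.symm hi), zero_mul]
    · intro h
      exact absurd (Finset.mem_univ j) h
  · rw [hh u, zero_sub]
    by_cases hu : u = r
    · subst hu
      have h2 : er K u (Sum.inr u) = 1 := Pi.single_eq_same _ _
      rw [h2, mul_one]
      unfold rv
      rw [Finset.sum_mul, ← Finset.sum_neg_distrib]
      refine Finset.sum_congr rfl fun i _ => ?_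
      show (if u = u then - (((chevE8.cartanSR.getD i.val #[]).getD u.val 0 : ℤ) : K) * t else 0) * _ = _
      rw [if_pos rfl]
      ring
    · have h2 : er K r (Sum.inr u) = 0 := Pi.single_eq_of_ne (fun e => hu (Sum.inr.inj e)) _
      rw [h2, mul_zero, neg_zero]
      refine Finset.sum_eq_zero fun i _ => ?_
      show (if u = r then - (((chevE8.cartanSR.getD i.val #[]).getD r.val 0 : ℤ) : K) * t else 0) * _ = _
      rw [if_neg hu, zero_mul]

theorem XX_le {h : L8 K} (hh : InT h) {a : Q8} (ha : a ∈ Phi0 h) : XX chevE8 8 K a ≤ stab h := by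
  obtain ⟨r, rfl⟩ := exists_idx ha.1
  intro y hy
  obtain ⟨t, rfl⟩ := (BpExc.HX.mem_XX_xc e8T r.2).1 hy
  rw [mem_stab, act_xc r t hh, ← lv_vec, ha.2, zero_mul, zero_smul, sub_zero]

theorem Sup_le_stab {h : L8 K} (hh : InT h) {S : Set Q8} (hS : S ⊆ Phi0 h) :
    RGD.Sup (XX chevE8 8 K) S ≤ stab h := RGD.Sup_le fun _ ha => XX_le hh (hS ha)

theorem M0_le {h : L8 K} (hh : InT h) : M0 h ≤ stab h := Sup_le_stab hh le_rfl

/-! ### the torus -/

theorem mx_TT {t : G8 K} (ht : t ∈ TT chevE8 K) :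
    mx t = Matrix.diagonal (Sum.elim (fun _ => (1 : K)) fun s : Fin chevE8.nroots => cX e8T t (vec chevE8 8 s)) := by
  have ht' := ht
  rw [Subgroup.mem_subgroupOf] at ht'
  obtain ⟨c, -, e, hact⟩ := H129.Tor.exists_c e8T ht'
  unfold mx
  rw [e]
  congr 1
  funext j
  rcases j with j | s
  · rfl
  · show _ = cX e8T t (vec chevE8 8 s)
    rw [cX_vec e8T ht s.2]
    symm
    apply ch_eq e8T s.2 ht
    apply Subtype.ext
    rw [Subgroup.coe_mul, Subgroup.coe_mul, Subgroup.coe_inv, coe_xc e8T s.2, coe_xc e8T s.2, hact s s.2, mul_one]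
    rfl

theorem act_TT_inl {t : G8 K} (ht : t ∈ TT chevE8 K) (v : L8 K) (i : Fin chevE8.rank) :
    act t v (Sum.inl i) = v (Sum.inl i) := by
  unfold act
  rw [mx_TT ht, Matrix.mulVec_diagonal]
  exact one_mul _

theorem act_TT_inr {t : G8 K} (ht : t ∈ TT chevE8 K) (v : L8 K) (s : Fin chevE8.nroots) :
    act t v (Sum.inr s) = cX e8T t (vec chevE8 8 s) * v (Sum.inr s) := by
  unfold act
  rw [mx_TT ht, Matrix.mulVec_diagonal]
  rfl

theorem TT_le {h : L8 K} (hh : InT h) : TT chevE8 K ≤ stab h := by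
  intro t ht
  rw [mem_stab]
  funext j
  rcases j with j | s
  · exact act_TT_inl ht h j
  · rw [act_TT_inr ht, hh s, mul_zero]

theorem inT_of_fixed [IsAlgClosed K] (p : ℕ) [Fact p.Prime] [CharP K p] {h : L8 K}
    (hh : ∀ t ∈ TT chevE8 K, act t h = h) : InT h := by
  obtain ⟨t, ht, h1, -⟩ := H720.TorusReal.exists_regular (k := K) e8T cs8 p invB8 one_ne_zero
  intro s
  have h2 := congrFun (hh t ht) (Sum.inr s)
  rw [act_TT_inr ht] at h2
  by_contra h3
  exact h1 _ (rt_vec s) (mul_right_cancel₀ h3 (h2.trans (one_mul _).symm))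

/-! ### brackets -/

theorem act_br (g : G8 K) (x y : L8 K) : act g (br x y) = br (act g x) (act g y) := by
  unfold br adm act
  rw [Matrix.mulVec_mulVec, Matrix.mulVec_mulVec]
  congr 1
  exact JacAll.group_mul_adv chevE8 (by simp) K g.1 g.2 x

theorem br_smul_right (x y : L8 K) (c : K) : br x (c • y) = c • br x y := Matrix.mulVec_smul _ _ _

theorem br_er {h : L8 K} (hh : InT h) (r : Fin chevE8.nroots) : br h (er K r) = rv r h • er K r := by
  unfold br adm adv er
  rw [Matrix.mulVec_single_one]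
  funext j
  show (∑ i, h i • adR chevE8 K i) j (Sum.inr r) = _
  rw [Matrix.sum_apply, Fintype.sum_sum_type]
  have h1 : ∑ s : Fin chevE8.nroots, (h (Sum.inr s) • adR chevE8 K (Sum.inr s)) j (Sum.inr r) = 0 :=
    Finset.sum_eq_zero fun s _ => by rw [hh s, zero_smul]; rfl
  rw [h1, add_zero, Pi.smul_apply, smul_eq_mul]
  unfold rv
  rw [Finset.sum_mul]
  refine Finset.sum_congr rfl fun i _ => ?_
  rw [Matrix.smul_apply, smul_eq_mul, adR_def, Matrix.map_apply, adA_inl]
  unfold adH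
  by_cases hj : j = Sum.inr r
  · subst hj
    rw [Matrix.diagonal_apply_eq, Pi.single_eq_same, mul_one, mul_comm]
    rfl
  · rw [Matrix.diagonal_apply_ne _ hj, Pi.single_eq_of_ne hj, map_zero, mul_zero, mul_zero]

theorem er_ne_zero (r : Fin chevE8.nroots) : er K r ≠ 0 := by
  intro h
  have h1 := congrFun h (Sum.inr r)
  unfold er at h1
  rw [Pi.single_eq_same] at h1
  exact one_ne_zero h1

theorem act_injective (g : G8 K) : Function.Injective (act g : L8 K → L8 K) := by
  intro x y h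
  rw [← act_inv g x, h, act_inv]

theorem act_sub (g : G8 K) (v w : L8 K) : act g (v - w) = act g v - act g w := Matrix.mulVec_sub _ _ _

/-- every root takes the value one at some toral vector -/
theorem exists_one {a : Q8} (ha : Rt a) : ∃ h : L8 K, InT h ∧ lv a h = 1 := by
  obtain ⟨u, i, rfl⟩ := ha
  let μ : Q8 →+ K := AddMonoidHom.mk' (fun x => ((rp8 u⁻¹ x i : ℤ) : K)) fun x y => by
    rw [map_add, Pi.add_apply, Int.cast_add]
  obtain ⟨h, h1, h2⟩ := exists_inT μ
  refine ⟨h, h1, ?_⟩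
  rw [h2]
  show ((rp8 u⁻¹ (rp8 u (sr i)) i : ℤ) : K) = 1
  rw [rep_inv_apply, sr_self, Int.cast_one]

/-! ### the Weyl group -/

section Weyl

variable [IsAlgClosed K] (p : ℕ) [Fact p.Prime] [CharP K p] (hk : LocFin K) {hN : NS8 K} {w : W8} {n : G8 K}

omit [IsAlgClosed K] in
theorem rp_TT (hn : Rp cs8 hN w n) {t : G8 K} (ht : t ∈ TT chevE8 K) : n * t * n⁻¹ ∈ TT chevE8 K :=
  (Subgroup.mem_normalizer_iff.1 hn.mem_normalizer t).1 ht

include p in
theorem inT_rp (hn : Rp cs8 hN w n) {h : L8 K} (hh : InT h) : InT (act n h) := by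
  refine inT_of_fixed p fun t ht => ?_
  have h1 := rp_TT hn.inv ht
  have h2 : t * n = n * (n⁻¹ * t * n⁻¹⁻¹) := by group
  rw [← act_mul, h2, act_mul, TT_le hh h1]

include p hk in
theorem act_er (hn : Rp cs8 hN w n) {r s : Fin chevE8.nroots} (hs : vec chevE8 8 s = rp8 w (vec chevE8 8 r)) :
    ∃ c : K, c ≠ 0 ∧ act n (er K r) = c • er K s := by
  have F := H720.TorusReal.fr_conj e8T cs8 hk p hn
  have h1 : xc e8T (vec chevE8 8 r) (1 : K) ∈ XX chevE8 8 K (vec chevE8 8 r) :=
    (BpExc.HX.mem_XX_xc e8T r.2).2 ⟨1, rfl⟩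
  have h2 := (F.map _ (rt_vec r) _).2 h1
  rw [BpExc.Fr.repAut_apply, ← hs] at h2
  obtain ⟨c, hc⟩ := (BpExc.HX.mem_XX_xc e8T s.2).1 h2
  rw [MulAut.conj_apply] at hc
  obtain ⟨h, hh, h3⟩ := exists_one (K := K) (rt_vec r)
  have h4 : act n (act (xc e8T (vec chevE8 8 r) (1 : K)) h) = act (xc e8T (vec chevE8 8 s) c) (act n h) := by
    rw [← hc, ← act_mul, ← act_mul]
    congr 1
    group
  rw [act_xc r 1 hh, act_xc s c (inT_rp p hn hh), ← lv_vec, h3, one_mul, one_smul, act_sub, sub_right_inj] at h4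
  refine ⟨_, fun h0 => ?_, h4⟩
  rw [h0, zero_smul, ← act_zero n] at h4
  exact er_ne_zero r (act_injective n h4)

include p hk in
theorem lv_rp (hn : Rp cs8 hN w n) {h : L8 K} (hh : InT h) (a : Q8) : lv (rp8 w a) (act n h) = lv a h := by
  refine DFunLike.congr_fun (hom_ext (f := (lvH (act n h)).comp (rp8 w).toAddMonoidHom) (g := lvH h) fun i => ?_) a
  obtain ⟨r, hr⟩ := exists_idx (isRoot_sr cs8 e8T.isCartan i)
  obtain ⟨s, hs⟩ := exists_idx ((rt_vec r).act w)
  obtain ⟨c, hc, h1⟩ := act_er p hk hn hs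
  show lv (rp8 w (sr i)) (act n h) = lv (sr i) h
  rw [← hr, ← hs, lv_vec, lv_vec]
  have h2 := act_br n h (er K r)
  rw [br_er hh, act_smul, h1, br_smul_right, br_er (inT_rp p hn hh), smul_smul, smul_smul] at h2
  have h3 := congrFun h2 (Sum.inr s)
  simp only [er, Pi.smul_apply, Pi.single_eq_same, smul_eq_mul, mul_one] at h3
  rw [mul_comm c] at h3
  exact (mul_right_cancel₀ hc h3).symm

end Weyl

end Cfsg.Agent.E8A.Frm
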