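import Cfsg.Agent.E8A.Fix.Basic2

/-!
# The boxes JORD and CANON (helper43)

* `jord : JORD` : the coordinates at the positive roots not vanishing on the toral part are removed one by one;
* `canon : CANON` : `ad x = D + N` with `D` diagonal, `N` nilpotent and commuting with `D`.
-/

set_option autoImplicit false
set_option maxRecDepth 100000

namespace Cfsg.Agent.E8A

open CoxeterSystem Cfsg Cfsg.Lie Cfsg.Lie.ChevalleyDatum Matrix
open Cfsg.Agent.ChevalleyStructure Cfsg.Agent.ChevalleyStructure.Elts Cfsg.Agent.ChevalleyStructure.CoxeterGeom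
  Cfsg.Agent.ChevalleyStructure.CoxeterGeomTypes
open Cfsg.Agent.Tits.Roots Cfsg.Agent.Nodes.RGDChev
open Cfsg.Agent.H942.E8Tab (e8T)
open Cfsg.Agent.H288.E8L (Q8 wt Rt act8 wt_inl wt_inr rt_vec vec_ne_zero exists_idx)

universe u

variable {K : Type u} [Field K]

/-! ### JORD -/

theorem sub_tp_mem {v : L8 K} (hv : InB v) : v - tp v ∈ LS K {a | 0 ≤ a ∧ a ≠ 0} := by
  intro i hi
  rcases i with i | r
  · exact absurd (sub_self _) hi
  · rw [Pi.sub_apply, tp_inr, sub_zero] at hi
    exact ⟨inB_iff.1 hv _ hi, vec_ne_zero r⟩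

/-- the action of a positive root element on the Borel subalgebra -/
theorem act_xr_B {v : L8 K} (hv : InB v) (r : Fin chevE8.nroots) (t : K) :
    act (xr r t) v - (v - (rv r v * t) • ee K (Sum.inr r)) ∈
      LS K {a | ∃ b : Q8, ∃ m : ℕ, (0 ≤ b ∧ b ≠ 0) ∧ 1 ≤ m ∧ a = b + (m : ℤ) • vec chevE8 8 r} := by
  have h1 := act_xr_sub (r := r)
    (A' := {a | ∃ b : Q8, ∃ m : ℕ, (0 ≤ b ∧ b ≠ 0) ∧ 1 ≤ m ∧ a = b + (m : ℤ) • vec chevE8 8 r})
    (fun a ha m hm => ⟨a, m, ha, hm, rfl⟩) t (sub_tp_mem hv)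
  have e : act (xr r t) v - (v - (rv r v * t) • ee K (Sum.inr r)) = act (xr r t) (v - tp v) - (v - tp v) := by
    rw [act_sub, act_xr_T r t (inT_tp v), rv_tp]
    abel
  rw [e]
  exact h1

theorem act_xr_B_apply {v : L8 K} (hv : InB v) {r : Fin chevE8.nroots} (hr : 120 ≤ r.val) (t : K) {i : chevE8.Idx}
    (hi : ∀ s : Fin chevE8.nroots, i = Sum.inr s → s.val ≤ r.val) :
    act (xr r t) v i = v i - (rv r v * t) * ee K (Sum.inr r) i := by
  have hr0 : 0 ≤ vec chevE8 8 r := (vec_nonneg_iff r).2 hr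
  have h1 := LS_zero (act_xr_B hv r t) (i := i) (by
    rintro ⟨b, m, hb, hm, e⟩
    obtain ⟨m, rfl⟩ := Nat.exists_eq_add_of_le hm
    have h2 : 0 ≤ (m : ℤ) • vec chevE8 8 r := smul_nonneg (Int.natCast_nonneg m) hr0
    have e2 : wt i = vec chevE8 8 r + (b + (m : ℤ) • vec chevE8 8 r) := by
      rw [e]
      push_cast
      rw [add_smul, one_smul]
      abel
    have h3 : vec chevE8 8 r ≤ wt i := by
      rw [e2]
      exact le_add_of_nonneg_right (add_nonneg hb.1 h2)
    rcases i with i | s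
    · exact vec_ne_zero r (le_antisymm h3 hr0)
    · have h4 : s = r := Fin.ext (le_antisymm (hi s rfl) (le_of_vec_le h3))
      rw [h4, wt_inr, left_eq_add] at e2
      refine hb.2 (le_antisymm ?_ hb.1)
      rw [eq_neg_of_add_eq_zero_left e2]
      exact neg_nonpos.2 h2)
  rw [Pi.sub_apply, sub_eq_zero] at h1
  exact h1

theorem jord_aux {v : L8 K} (hv : InB v) (k : ℕ) : ∃ g : G8 K, InB (act g v) ∧
    ∀ r : Fin chevE8.nroots, r.val < k → act g v (Sum.inr r) ≠ 0 → rv r (act g v) = 0 := by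
  induction k with
  | zero => exact ⟨1, by rwa [act_one], fun r hr => absurd hr (Nat.not_lt_zero _)⟩
  | succ k ih =>
    obtain ⟨g, hB, hg⟩ := ih
    by_cases hc : ∃ r : Fin chevE8.nroots, r.val = k ∧ act g v (Sum.inr r) ≠ 0 ∧ rv r (act g v) ≠ 0
    · obtain ⟨r, rfl, h1, h2⟩ := hc
      have hr : 120 ≤ r.val := by
        by_contra h3
        exact h1 (hB r (by omega))
      obtain ⟨t, ht⟩ : ∃ t : K, t = act g v (Sum.inr r) / rv r (act g v) := ⟨_, rfl⟩
      have hrl : ∀ s, rv s (act (xr r t) (act g v)) = rv s (act g v) := by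
        intro s
        rw [← rl_vec, ← rl_vec, rl_congr fun i => ?_]
        rw [act_xr_B_apply hB hr t (fun s hs => by cases hs), ee_ne (by simp), mul_zero, sub_zero]
      refine ⟨xr r t * g, ?_, fun s hs h3 => ?_⟩
      · rw [act_mul]
        exact inB_iff.2 (act_xr_LS (fun a ha => add_nonneg ha ((vec_nonneg_iff r).2 hr)) t (inB_iff.1 hB))
      · rw [act_mul] at h3 ⊢
        rw [act_xr_B_apply hB hr t (fun s' hs' => by cases hs'; omega)] at h3
        by_cases e : s = r
        · exfalso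
          apply h3
          rw [e, ee_self, mul_one, ht, mul_div_cancel₀ _ h2, sub_self]
        · rw [ee_ne (fun e' => e (Sum.inr.inj e')), mul_zero, sub_zero] at h3
          rw [hrl]
          exact hg s (by have : s.val ≠ r.val := fun e' => e (Fin.ext e'); omega) h3
    · refine ⟨g, hB, fun r hr h1 => ?_⟩
      by_cases e : r.val = k
      · by_contra h2
        exact hc ⟨r, e, h1, h2⟩
      · exact hg r (by omega) h1

/-- **JORD** -/
theorem jord : JORD.{u} := fun _ _ _ hv => by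
  obtain ⟨g, h1, h2⟩ := jord_aux hv chevE8.nroots
  exact ⟨g, h1, fun r => h2 r r.2⟩

/-! ### CANON -/

section Mat

variable {I : Type} [Fintype I] [DecidableEq I]

theorem nilp_of_ht {N : Matrix I I K} (b : I → ℤ) (h : ∀ i j, N i j ≠ 0 → b j < b i) : IsNilpotent N := by
  have h1 : ∀ m : ℕ, ∀ i j, (N ^ m) i j ≠ 0 → b j + m ≤ b i := by
    intro m
    induction m with
    | zero =>
      intro i j hij
      rw [pow_zero] at hij
      have e : i = j := by
        by_contra hc
        exact hij (Matrix.one_apply_ne hc)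
      rw [e]
      simp
    | succ m ih =>
      intro i j hij
      rw [pow_succ, Matrix.mul_apply] at hij
      obtain ⟨c, -, hc⟩ := Finset.exists_ne_zero_of_sum_ne_zero hij
      have h2 := ih i c (left_ne_zero_of_mul hc)
      have h3 := h c j (right_ne_zero_of_mul hc)
      push_cast
      omega
  obtain ⟨M, hM⟩ := (Set.finite_range fun q : I × I => (b q.1 - b q.2).toNat).bddAbove
  refine ⟨M + 1, ?_⟩
  ext i j
  by_contra hc
  have h2 := h1 _ i j hc
  have h3 : (b i - b j).toNat ≤ M := hM ⟨(i, j), rfl⟩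
  push_cast at h2
  omega

theorem diag_conj_of {d d' : I → K} {N N' Y : Matrix I I K} (hN : IsNilpotent N) (hN' : IsNilpotent N')
    (hc : Commute (diagonal d) N) (hc' : Commute (diagonal d') N')
    (h : Y * (diagonal d + N) = (diagonal d' + N') * Y) : Y * diagonal d = diagonal d' * Y := by
  let Φ : Module.End K (Matrix I I K) := LinearMap.mulLeft K (diagonal d') - LinearMap.mulRight K (diagonal d)
  let Ψ : Module.End K (Matrix I I K) := LinearMap.mulRight K N - LinearMap.mulLeft K N'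
  have hΦ : ∀ Z, Φ Z = diagonal d' * Z - Z * diagonal d := fun _ => rfl
  have hΨ : ∀ Z, Ψ Z = Z * N - N' * Z := fun _ => rfl
  have h1 : IsNilpotent Ψ := Commute.isNilpotent_sub (LinearMap.commute_mulLeft_right N' N).symm
    (by rwa [LinearMap.isNilpotent_mulRight_iff]) (by rwa [LinearMap.isNilpotent_mulLeft_iff])
  have h2 : Commute Ψ Φ := by
    refine LinearMap.ext fun Z => ?_
    show Ψ (Φ Z) = Φ (Ψ Z)
    rw [hΦ, hΨ, hΦ, hΨ]
    simp only [Matrix.mul_sub, Matrix.sub_mul, Matrix.mul_assoc]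
    rw [hc.eq, ← Matrix.mul_assoc N' (diagonal d'), ← hc'.eq, Matrix.mul_assoc]
    abel
  have h3 : Φ Y = Ψ Y := by
    rw [hΦ, hΨ]
    rw [Matrix.mul_add, Matrix.add_mul] at h
    rw [sub_eq_sub_iff_add_eq_add, ← h, add_comm]
  have h4 : ∀ m : ℕ, (Φ ^ m) Y = (Ψ ^ m) Y := by
    intro m
    induction m with
    | zero => rfl
    | succ m ih =>
      rw [pow_succ, Module.End.mul_apply, h3, ← Module.End.mul_apply, ← (h2.pow_right m).eq, Module.End.mul_apply, ih,
        pow_succ', Module.End.mul_apply]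
  have h5 : ∀ (m : ℕ) i j, (Φ ^ m) Y i j = (d' i - d j) ^ m * Y i j := by
    intro m
    induction m with
    | zero => intro i j; simp
    | succ m ih =>
      intro i j
      rw [pow_succ', Module.End.mul_apply, hΦ, Matrix.sub_apply, Matrix.diagonal_mul, Matrix.mul_diagonal, ih]
      ring
  obtain ⟨m, hm⟩ := h1
  ext i j
  have h6 := h5 m i j
  rw [h4, hm, LinearMap.zero_apply, Matrix.zero_apply] at h6
  rw [Matrix.diagonal_mul, Matrix.mul_diagonal]
  rcases mul_eq_zero.1 h6.symm with h7 | h7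
  · rw [sub_eq_zero.1 (pow_eq_zero_iff'.1 h7).1, mul_comm]
  · rw [h7, zero_mul, mul_zero]

end Mat

theorem nilp_adm {n : L8 K} (hn : n ∈ LS K {a | 0 ≤ a ∧ a ≠ 0}) : IsNilpotent (adm n) := by
  refine nilp_of_ht (fun i => ∑ j, wt i j) fun i j hij => ?_
  obtain ⟨k, hk, e⟩ := adm_wt hij
  obtain ⟨h1, h2⟩ := hn k hk
  have h3 : 0 < ∑ l, wt k l := by
    obtain ⟨l, hl⟩ := Function.ne_iff.1 h2
    exact Finset.sum_pos' (fun l _ => h1 l) ⟨l, Finset.mem_univ l, lt_of_le_of_ne (h1 l) (Ne.symm hl)⟩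
  show ∑ l, wt j l < ∑ l, wt i l
  rw [e]
  simp only [Pi.add_apply, Finset.sum_add_distrib]
  omega

theorem Jor.commute {x : L8 K} (hx : Jor x) : Commute (diagonal fun i => rl (tp x) (wt i)) (adm (x - tp x)) := by
  ext i j
  rw [Matrix.diagonal_mul, Matrix.mul_diagonal]
  by_cases h : adm (x - tp x) i j = 0
  · rw [h, mul_zero, zero_mul]
  · obtain ⟨k, hk, e⟩ := adm_wt h
    rcases k with k | r
    · exact absurd (sub_self _) hk
    · rw [Pi.sub_apply, tp_inr, sub_zero] at hk
      rw [e, map_add, wt_inr, rl_vec, rv_tp, hx.2 r hk, zero_add, mul_comm]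

theorem adm_split (x : L8 K) : adm x = (diagonal fun i => rl (tp x) (wt i)) + adm (x - tp x) := by
  rw [← adm_T (inT_tp x), ← adm_add, add_sub_cancel]

/-- **CANON** -/
theorem canon : CANON.{u} := fun K _ x x' y hx hx' hy => by
  have h1 := adm_conj y x
  rw [hy, adm_split x, adm_split x'] at h1
  have h2 := diag_conj_of (nilp_adm (sub_tp_mem hx.1)) (nilp_adm (sub_tp_mem hx'.1)) hx.commute hx'.commute h1
  rw [← adm_T (inT_tp x), ← adm_T (inT_tp x')] at h2
  apply adm_injective
  rw [adm_act, h2, Matrix.mul_assoc, mx_mul_inv, Matrix.mul_one]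

end Cfsg.Agent.E8A
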