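import Cfsg.Agent.E8A.Fix.Basic
import Cfsg.Agent.H378.TorFin

/-!
# The adjoint module of `E₈` over a field: basic tools, part 2 (helper43)

* `adm_conj`, `act_br` : the group acts by automorphisms; `adm_wt`, `br_LS`, `adm_T`, `br_T`, `br_T'`, `adm_injective`;
* `RepK.ee`, `RepK.rl` : the action of `N` on root vectors and on the Cartan subalgebra; `nofix`;
* `mx_em`, `act_em`, `em_xr`, `rl_mp`, `adm_mp`, `RepK.em` : change of the field;
* `fq F`, `sg` : the Frobenius maps (`frq_eq`, `frq_act`, `sg_eq_phi`), `fix_L`, `fix_G` : rational points.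
-/

set_option autoImplicit false
set_option maxRecDepth 100000

namespace Cfsg.Agent.E8A

open CoxeterSystem Cfsg Cfsg.Lie Cfsg.Lie.ChevalleyDatum Matrix
open Cfsg.Agent.ChevalleyStructure Cfsg.Agent.ChevalleyStructure.Elts Cfsg.Agent.ChevalleyStructure.CoxeterGeom
  Cfsg.Agent.ChevalleyStructure.CoxeterGeomTypes Cfsg.Agent.ChevalleyStructure.RootVec
  Cfsg.Agent.ChevalleyStructure.RootVecTab Cfsg.Agent.ChevalleyStructure.Ring
  Cfsg.Agent.ChevalleyStructure.LieAut Cfsg.Agent.ChevalleyStructure.LieAbs Cfsg.Agent.ChevalleyStructure.JacMain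
open Cfsg.Agent.Tits.Roots Cfsg.Agent.Nodes.Reps Cfsg.Agent.Nodes.BNOf Cfsg.Agent.Nodes.RGDChev
  Cfsg.Agent.Nodes.NormalForm
open Cfsg.Agent.KFacts.RgdChevCoord Cfsg.Agent.H129.TorusChar
open Cfsg.Agent.H942.E8Tab (e8T)
open Cfsg.Agent.H942.CB (W8 cs8)
open Cfsg.Agent.H288.E8L (Q8 wt Rt act8 wt_inl wt_inr rt_vec vec_ne_zero exists_idx wt_inj crt adA_wt adA_col
  adA_inl_eq)
open Cfsg.Agent.GpExc.Field (emb coe_emb coe_glMap emb_injective glMap_xG)
open Cfsg.Agent.BpExc.TowChev (LocFin locFin_of_isAlgebraic)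
open Cfsg.Agent.BpExc.FamUntw (phi phi_coe)

universe u v

variable {K : Type u} [Field K]

/-! ### the bracket -/

theorem adm_apply (x : L8 K) (i j : chevE8.Idx) : adm x i j = ∑ k, x k * ((adA chevE8 k i j : ℤ) : K) := by
  unfold adm adv
  rw [Matrix.sum_apply]
  rfl

theorem adm_add (x y : L8 K) : adm (x + y) = adm x + adm y := adv_add _ _ _

theorem adm_sub (x y : L8 K) : adm (x - y) = adm x - adm y := adv_sub _ _ _

theorem adm_smul (c : K) (x : L8 K) : adm (c • x) = c • adm x := adv_smul _ _ _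

theorem adm_neg (x : L8 K) : adm (-x) = -adm x := adv_neg _ _

theorem adm_zero : adm (0 : L8 K) = 0 := adv_zero _

theorem adm_conj (g : G8 K) (x : L8 K) : mx g * adm x = adm (act g x) * mx g :=
  JacAll.group_mul_adv chevE8 e8T.inList K g.1 g.2 x

theorem adm_act (g : G8 K) (x : L8 K) : adm (act g x) = mx g * adm x * mx g⁻¹ := by
  rw [adm_conj, Matrix.mul_assoc, mx_mul_inv, Matrix.mul_one]

theorem act_br (g : G8 K) (x y : L8 K) : act g (br x y) = br (act g x) (act g y) := by
  unfold br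
  show mx g *ᵥ (adm x *ᵥ y) = adm (act g x) *ᵥ (mx g *ᵥ y)
  rw [Matrix.mulVec_mulVec, adm_conj, Matrix.mulVec_mulVec]

theorem adm_br (x y : L8 K) : adm (br x y) = adm x * adm y - adm y * adm x :=
  JacAll.jacR_all chevE8 e8T.inList K x y

theorem br_add_left (x y z : L8 K) : br (x + y) z = br x z + br y z := by
  unfold br; rw [adm_add, Matrix.add_mulVec]

theorem br_sub_left (x y z : L8 K) : br (x - y) z = br x z - br y z := by
  unfold br; rw [adm_sub, Matrix.sub_mulVec]

theorem br_smul_left (c : K) (x z : L8 K) : br (c • x) z = c • br x z := by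
  unfold br; rw [adm_smul, Matrix.smul_mulVec]

theorem br_add_right (x y z : L8 K) : br x (y + z) = br x y + br x z := Matrix.mulVec_add _ _ _

theorem br_sub_right (x y z : L8 K) : br x (y - z) = br x y - br x z := Matrix.mulVec_sub _ _ _

theorem br_smul_right (c : K) (x z : L8 K) : br x (c • z) = c • br x z := Matrix.mulVec_smul _ _ _

theorem adm_wt {x : L8 K} {i j : chevE8.Idx} (h : adm x i j ≠ 0) : ∃ k, x k ≠ 0 ∧ wt i = wt k + wt j := by
  rw [adm_apply] at h
  obtain ⟨k, -, hk⟩ := Finset.exists_ne_zero_of_sum_ne_zero h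
  refine ⟨k, left_ne_zero_of_mul hk, adA_wt k i j fun h0 => right_ne_zero_of_mul hk ?_⟩
  rw [h0, Int.cast_zero]

theorem br_LS {A A' A'' : Set Q8} (h : ∀ a ∈ A, ∀ b ∈ A', a + b ∈ A'') {x y : L8 K} (hx : x ∈ LS K A)
    (hy : y ∈ LS K A') : br x y ∈ LS K A'' := by
  refine mulVec_LS (fun i j hij hj => ?_) hy
  obtain ⟨k, hk, e⟩ := adm_wt hij
  rw [e]
  exact h _ (hx k hk) _ hj

theorem adm_T {h : L8 K} (hh : InT h) : adm h = Matrix.diagonal fun i => rl h (wt i) := by
  ext i j
  rw [adm_apply, Fintype.sum_sum_type]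
  have h0 : ∑ s : Fin chevE8.nroots, h (Sum.inr s) * ((adA chevE8 (Sum.inr s) i j : ℤ) : K) = 0 :=
    Finset.sum_eq_zero fun s _ => by rw [hh s, zero_mul]
  rw [h0, add_zero]
  by_cases e : i = j
  · subst e
    rw [Matrix.diagonal_apply_eq]
    rcases i with i | s
    · rw [wt_inl, map_zero]
      refine Finset.sum_eq_zero fun k _ => ?_
      rw [adA_inl_eq, Matrix.diagonal_apply_eq]
      exact mul_eq_zero_of_right _ Int.cast_zero
    · rw [wt_inr, rl_vec, rv_def]
      refine Finset.sum_congr rfl fun k _ => ?_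
      rw [adA_inl_eq, Matrix.diagonal_apply_eq, mul_comm]
      rfl
  · rw [Matrix.diagonal_apply_ne _ e]
    refine Finset.sum_eq_zero fun k _ => ?_
    rw [adA_inl_eq, Matrix.diagonal_apply_ne _ e, Int.cast_zero, mul_zero]

theorem br_T {h : L8 K} (hh : InT h) (v : L8 K) (i : chevE8.Idx) : br h v i = rl h (wt i) * v i := by
  unfold br
  rw [adm_T hh, Matrix.mulVec_diagonal]

theorem adm_inr_inl (x : L8 K) (s : Fin chevE8.nroots) (j : Fin chevE8.rank) :
    adm x (Sum.inr s) (Sum.inl j) = -(((chevE8.cartan j s : ℤ) : K) * x (Sum.inr s)) := by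
  rw [adm_apply, Finset.sum_eq_single (Sum.inr s)]
  · rw [adA_col, Int.cast_neg, mul_neg, mul_comm]
    rfl
  · intro k _ hk
    by_cases h0 : adA chevE8 k (Sum.inr s) (Sum.inl j) = 0
    · rw [h0, Int.cast_zero, mul_zero]
    · have h1 := adA_wt _ _ _ h0
      rw [wt_inl, add_zero] at h1
      exact absurd (wt_inj h1 (vec_ne_zero s)).symm hk
  · intro h
    exact absurd (Finset.mem_univ _) h

theorem adm_inl_inl (x : L8 K) (i j : Fin chevE8.rank) : adm x (Sum.inl i) (Sum.inl j) = 0 := by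
  rw [adm_apply]
  refine Finset.sum_eq_zero fun k _ => ?_
  by_cases h0 : adA chevE8 k (Sum.inl i) (Sum.inl j) = 0
  · rw [h0, Int.cast_zero, mul_zero]
  · exfalso
    have h1 := adA_wt _ _ _ h0
    rw [wt_inl, wt_inl, add_zero] at h1
    rcases k with k | s
    · apply h0
      rw [adA_inl_eq, Matrix.diagonal_apply]
      split_ifs <;> rfl
    · exact vec_ne_zero s h1.symm

theorem br_T' (x : L8 K) {h : L8 K} (hh : InT h) (i : chevE8.Idx) : br x h i = -(rl h (wt i) * x i) := by
  show ∑ j, adm x i j * h j = _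
  rw [Fintype.sum_sum_type]
  have h0 : ∑ s : Fin chevE8.nroots, adm x i (Sum.inr s) * h (Sum.inr s) = 0 :=
    Finset.sum_eq_zero fun s _ => by rw [hh s, mul_zero]
  rw [h0, add_zero]
  rcases i with i | s
  · rw [wt_inl, map_zero, zero_mul, neg_zero]
    exact Finset.sum_eq_zero fun j _ => by rw [adm_inl_inl, zero_mul]
  · rw [wt_inr, rl_vec, rv_def, Finset.sum_mul, ← Finset.sum_neg_distrib]
    refine Finset.sum_congr rfl fun j _ => ?_
    rw [adm_inr_inl]
    ring

theorem exists_cartan_one : ∀ s : Fin chevE8.nroots, ∃ j : Fin chevE8.rank,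
    chevE8.cartan j s = 1 ∨ chevE8.cartan j s = -1 := by decide +kernel

theorem exists_cartan_ne (s : Fin chevE8.nroots) : ∃ j : Fin chevE8.rank, ((chevE8.cartan j s : ℤ) : K) ≠ 0 := by
  obtain ⟨j, h | h⟩ := exists_cartan_one s
  · exact ⟨j, by rw [h, Int.cast_one]; exact one_ne_zero⟩
  · exact ⟨j, by rw [h, Int.cast_neg, Int.cast_one]; exact neg_ne_zero.2 one_ne_zero⟩

theorem eq_zero_of_rl {h : L8 K} (hh : InT h) (h0 : ∀ r, rv r h = 0) : h = 0 := by
  refine inT_ext hh (fun _ => rfl) fun i => ?_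
  obtain ⟨r, hr⟩ := exists_idx (isRoot_sr cs8 e8T.isCartan i)
  rw [← hr, rl_vec, rl_vec, h0, rv_def]
  exact (Finset.sum_eq_zero fun j _ => mul_zero _).symm

theorem eq_zero_of_adm {x : L8 K} (h : adm x = 0) : x = 0 := by
  have h1 : InT x := by
    intro s
    obtain ⟨j, hj⟩ := exists_cartan_ne (K := K) s
    have h2 := adm_inr_inl x s j
    rw [h, Matrix.zero_apply, eq_comm, neg_eq_zero] at h2
    exact (mul_eq_zero.1 h2).resolve_left hj
  refine eq_zero_of_rl h1 fun r => ?_
  have h2 := congrFun (congrFun (adm_T h1) (Sum.inr r)) (Sum.inr r)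
  rw [h, Matrix.zero_apply, Matrix.diagonal_apply_eq, wt_inr, rl_vec] at h2
  exact h2.symm

theorem adm_injective : Function.Injective (adm : L8 K → _) := fun x y h =>
  sub_eq_zero.1 (eq_zero_of_adm (by rw [adm_sub, h, sub_self]))

/-! ### the action of `N` -/

theorem eq_smul_ee {v : L8 K} {s : Fin chevE8.nroots} (h : v ∈ LS K {vec chevE8 8 s}) :
    v = v (Sum.inr s) • ee K (Sum.inr s) := by
  funext i
  rw [Pi.smul_apply, smul_eq_mul]
  by_cases e : i = Sum.inr s
  · rw [e, ee_self, mul_one]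
  · rw [ee_ne e, mul_zero]
    refine LS_zero h fun h1 => e (wt_inj h1 ?_)
    rw [Set.mem_singleton_iff.1 h1]
    exact vec_ne_zero s

theorem ee_ne_zero (i : chevE8.Idx) : ee K i ≠ 0 := fun h => by
  have h1 := congrFun h i
  rw [ee_self] at h1
  exact one_ne_zero h1

theorem RepK.ee {w : W8} {n : G8 K} (hn : RepK w n) {r s : Fin chevE8.nroots}
    (h : vec chevE8 8 s = act8 w (vec chevE8 8 r)) :
    ∃ c : K, c ≠ 0 ∧ act n (ee K (Sum.inr r)) = c • ee K (Sum.inr s) := by
  have h1 : act n (E8A.ee K (Sum.inr r)) ∈ E8A.LS K {vec chevE8 8 s} :=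
    RepK.LS hn (A := {vec chevE8 8 r}) (fun a ha => by rw [Set.mem_singleton_iff.1 ha, h]; rfl) (ee_mem_LS rfl)
  refine ⟨_, fun h0 => ?_, eq_smul_ee h1⟩
  have h2 := eq_smul_ee h1
  rw [h0, zero_smul] at h2
  exact ee_ne_zero _ (act_eq_zero h2)

theorem br_T_ee {h : L8 K} (hh : InT h) (r : Fin chevE8.nroots) :
    br h (ee K (Sum.inr r)) = rv r h • ee K (Sum.inr r) := by
  funext i
  rw [br_T hh, Pi.smul_apply, smul_eq_mul]
  by_cases e : i = Sum.inr r
  · rw [e, wt_inr, rl_vec]
  · rw [ee_ne e, mul_zero, mul_zero]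

theorem RepK.rl {w : W8} {n : G8 K} (hn : RepK w n) {h : L8 K} (hh : InT h) (a : Q8) :
    rl (act n h) (act8 w a) = rl h a := by
  have h1 : (E8A.rl (act n h)).comp (rep cs8 e8T.isCartan w).toAddMonoidHom = E8A.rl h := by
    refine additive_ext fun i => ?_
    obtain ⟨r, hr⟩ := exists_idx (isRoot_sr cs8 e8T.isCartan i)
    obtain ⟨s, hs⟩ := exists_idx ((rt_vec r).act w)
    obtain ⟨c, hc, e⟩ := RepK.ee hn hs
    have h2 := act_br n h (E8A.ee K (Sum.inr r))
    rw [br_T_ee hh, act_smul, e, br_smul_right, br_T_ee (RepK.inT hn hh)] at h2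
    have h3 := congrFun h2 (Sum.inr s)
    simp only [Pi.smul_apply, smul_eq_mul, ee_self, mul_one] at h3
    show E8A.rl (act n h) (act8 w (sr i)) = _
    rw [← hr]
    have hs' : act8 w (vec chevE8 8 r) = vec chevE8 8 s := hs.symm
    rw [hs', rl_vec, rl_vec]
    rw [mul_comm] at h3
    exact (mul_left_cancel₀ hc h3).symm
  exact DFunLike.congr_fun h1 a

theorem RepK.tp {w : W8} {n : G8 K} (hn : RepK w n) (v : L8 K) : tp (act n v) = act n (tp v) := by
  have h1 : v - E8A.tp v ∈ E8A.LS K {a | a ≠ 0} := by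
    intro i hi
    rcases i with i | r
    · exact absurd (sub_self _) hi
    · exact vec_ne_zero r
  have h2 : act n (v - E8A.tp v) ∈ E8A.LS K {a | a ≠ 0} := RepK.LS hn (A := {a | a ≠ 0}) (A' := {a | a ≠ 0}) (fun a ha h0 => ha (by
    rw [← act8_inv_act w a, h0, act8_zero])) h1
  have h3 := RepK.inT hn (inT_tp v)
  funext i
  rcases i with i | r
  · have h4 := LS_zero h2 (i := Sum.inl i) fun h => h rfl
    rw [act_sub, Pi.sub_apply, sub_eq_zero] at h4
    exact h4
  · exact (h3 r).symm

/-- no fixed vectors -/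
theorem nofix {v : L8 K} (h : ∀ g : G8 K, act g v = v) : v = 0 := by
  have h1 : InT v := by
    intro s
    let r : Fin chevE8.nroots := ⟨chevE8.neg s, neg_lt e8T.checked s.2⟩
    have hsr : chevE8.neg r = s := neg_neg e8T.checked s.2
    have hn : chevE8.neg r < chevE8.nroots := neg_lt e8T.checked r.2
    have hne : chevE8.neg r ≠ r := neg_ne e8T.checked r.2
    have hs : s = ⟨chevE8.neg r, hn⟩ := Fin.ext hsr.symm
    have hco : ∀ r : Fin chevE8.nroots, ∃ i : Fin chevE8.rank, ∃ j : Fin chevE8.rank,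
        IsCoprime ((chevE8.coroot.getD r #[]).getD i.val 0) ((chevE8.coroot.getD r #[]).getD j.val 0) := by
      have : ∀ r : Fin chevE8.nroots, ∃ i : Fin chevE8.rank, ∃ j : Fin chevE8.rank,
        Int.gcd ((chevE8.coroot.getD r #[]).getD i.val 0) ((chevE8.coroot.getD r #[]).getD j.val 0) = 1 := by
        decide +kernel
      intro r
      obtain ⟨i, j, e⟩ := this r
      exact ⟨i, j, Int.isCoprime_iff_gcd_eq_one.2 e⟩
    have key : ∀ i : Fin chevE8.rank, (((chevE8.coroot.getD r #[]).getD i.val 0 : ℤ) : K) * v (Sum.inr s) = 0 := by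
      intro i
      have h2 := congrFun (act_sub_self (xr r (1 : K)) v) (Sum.inl i)
      rw [h, sub_self, Pi.zero_apply] at h2
      have h3 : ((mx (xr r (1 : K)) - 1) *ᵥ v) (Sum.inl i) = ∑ j, (mx (xr r (1 : K)) - 1) (Sum.inl i) j * v j := rfl
      rw [h3, Finset.sum_eq_single (Sum.inr s)] at h2
      · rw [Matrix.sub_apply, Matrix.one_apply_ne (by simp), sub_zero, hs, mx_xr, NBlock.x_neg_inl r.2 hn hne,
          mul_one] at h2
        rw [hs]
        exact h2.symm
      · intro j _ hj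
        by_cases h0 : (mx (xr r (1 : K)) - 1) (Sum.inl i) j = 0
        · rw [h0, zero_mul]
        · exfalso
          obtain ⟨m, hm, e⟩ := xr_sub_entry r 1 h0
          rw [wt_inl] at e
          rcases j with j | j
          · rw [wt_inl, zero_add, eq_comm, smul_eq_zero] at e
            rcases e with e | e
            · omega
            · exact vec_ne_zero r e
          · have e1 : vec chevE8 8 j = (-(m : ℤ)) • vec chevE8 8 r := by
              rw [neg_smul, eq_neg_iff_add_eq_zero]; exact e.symm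
            have h4 := isUnit_of_smul cs8 e8T.isCartan (rt_vec j) _ e1
            have h5 : (m : ℤ) = 1 := by
              rcases Int.isUnit_iff.1 h4 with h6 | h6 <;> omega
            rw [h5, neg_smul, one_smul, ← vec_neg e8T r.2, hsr] at e1
            exact hj (congrArg Sum.inr (vec_injective e1))
      · intro hh
        exact absurd (Finset.mem_univ _) hh
    obtain ⟨i, j, a, b, hab⟩ := hco r
    have h6 : ((a * (chevE8.coroot.getD r #[]).getD i.val 0 + b * (chevE8.coroot.getD r #[]).getD j.val 0 : ℤ) : K) *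
        v (Sum.inr s) = 0 := by
      push_cast
      rw [add_mul, mul_assoc, mul_assoc, key, key, mul_zero, mul_zero, add_zero]
    rwa [hab, Int.cast_one, one_mul] at h6
  refine eq_zero_of_rl h1 fun r => ?_
  have h2 := congrFun (act_xr_T r (1 : K) h1) (Sum.inr r)
  rw [h, Pi.sub_apply, Pi.smul_apply, ee_self, smul_eq_mul, mul_one, mul_one, eq_comm, sub_eq_self] at h2
  exact h2

/-! ### change of the field -/

section Map

variable {F : Type v} [Field F] (f : F →+* K)

theorem mx_em (g : G8 F) : mx (em f g) = (mx g).map f := rfl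

theorem em_injective : Function.Injective (em f) := emb_injective e8T.inList f

theorem em_xr (r : Fin chevE8.nroots) (t : F) : em f (xr r t) = xr r (f t) :=
  Subtype.ext (glMap_xG e8T.inList f r t)

theorem mp_apply (v : L8 F) (i : chevE8.Idx) : mp f v i = f (v i) := rfl

theorem mp_injective : Function.Injective (mp f) := fun _ _ h => funext fun i => f.injective (congrFun h i)

theorem mp_zero : mp f 0 = 0 := funext fun _ => map_zero f

theorem mp_add (v w : L8 F) : mp f (v + w) = mp f v + mp f w := funext fun _ => map_add f _ _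

theorem mp_sub (v w : L8 F) : mp f (v - w) = mp f v - mp f w := funext fun _ => map_sub f _ _

theorem mp_neg (v : L8 F) : mp f (-v) = -mp f v := funext fun _ => map_neg f _

theorem mp_smul (c : F) (v : L8 F) : mp f (c • v) = f c • mp f v := funext fun _ => map_mul f _ _

theorem mp_ee (i : chevE8.Idx) : mp f (ee F i) = ee K i := by
  funext j
  rw [mp_apply, ee_apply, ee_apply]
  split_ifs
  · exact map_one f
  · exact map_zero f

theorem map_mulVec (A : Matrix chevE8.Idx chevE8.Idx F) (v : L8 F) : A.map f *ᵥ mp f v = mp f (A *ᵥ v) :=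
  funext fun i => (RingHom.map_mulVec f A v i).symm

theorem act_em (g : G8 F) (v : L8 F) : act (em f g) (mp f v) = mp f (act g v) := map_mulVec f _ _

theorem adm_mp (v : L8 F) : adm (mp f v) = (adm v).map f := by
  ext i j
  rw [Matrix.map_apply, adm_apply, adm_apply, map_sum]
  exact Finset.sum_congr rfl fun k _ => by rw [map_mul, map_intCast]; rfl

theorem br_mp (v w : L8 F) : br (mp f v) (mp f w) = mp f (br v w) := by
  unfold br
  rw [adm_mp, map_mulVec]

theorem rl_mp (v : L8 F) (a : Q8) : rl (mp f v) a = f (rl v a) := by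
  rw [rl_apply, rl_apply, map_sum]
  exact Finset.sum_congr rfl fun k _ => by rw [map_mul, map_intCast]; rfl

theorem rv_mp (r : Fin chevE8.nroots) (v : L8 F) : rv r (mp f v) = f (rv r v) := by rw [← rl_vec, ← rl_vec, rl_mp]

theorem tp_mp (v : L8 F) : tp (mp f v) = mp f (tp v) := by
  funext i
  rcases i with i | r
  · rfl
  · exact (map_zero f).symm

theorem mp_mem_LS {A : Set Q8} {v : L8 F} : mp f v ∈ LS K A ↔ v ∈ LS F A :=
  forall_congr' fun i => by rw [mp_apply, map_ne_zero]

theorem inB_mp {v : L8 F} : InB (mp f v) ↔ InB v := by rw [inB_iff, inB_iff, mp_mem_LS]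

theorem inN_mp {v : L8 F} : InN (mp f v) ↔ InN v := by rw [inN_iff, inN_iff, mp_mem_LS]

theorem inT_mp {v : L8 F} : InT (mp f v) ↔ InT v := by rw [inT_iff, inT_iff, mp_mem_LS]

theorem jor_mp {v : L8 F} : Jor (mp f v) ↔ Jor v :=
  and_congr (inB_mp f) (forall_congr' fun r => by rw [mp_apply, map_ne_zero, rv_mp, map_eq_zero])

theorem em_TT {t : G8 F} (ht : t ∈ TT chevE8 F) : em f t ∈ TT chevE8 K :=
  Cfsg.Agent.GpExc.Field.glMap_diagonal e8T f ht

theorem em_Sup {S : Set Q8} (hS : ∀ a ∈ S, Rt a) {u : G8 F} (hu : u ∈ RGD.Sup (XX chevE8 8 F) S) :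
    em f u ∈ RGD.Sup (XX chevE8 8 K) S := by
  have h1 : RGD.Sup (XX chevE8 8 F) S ≤ (RGD.Sup (XX chevE8 8 K) S).comap (em f) :=
    sup_le_of hS fun r hr t => by
      rw [Subgroup.mem_comap, em_xr]
      exact xr_mem_Sup hr _
  exact h1 hu

theorem RepK.em {w : W8} {n : G8 F} (hn : RepK w n) : RepK w (em f n) := by
  refine repK_ind (P := fun w n => RepK w (E8A.em f n)) (fun t ht => rp_of_mem (em_TT f ht)) ?_ w n hn
  intro i w n _ ih
  rw [map_mul]
  have e : E8A.em f (nc e8T F i) = nc e8T K i := by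
    apply Subtype.ext
    show Cfsg.Agent.GpExc.Field.glMap chevE8 f (nG e8T.inList (chevE8.simple i) 1) = nG e8T.inList (chevE8.simple i) 1
    rw [Cfsg.Agent.GpExc.Field.glMap_nG e8T, map_one]
  rw [e]
  exact (rp_simple cs8 (nsysK K) i).mul ih

end Map

/-! ### the Frobenius maps -/

section Frob

variable {F : Type u} [Field F]

theorem mp0_injective : Function.Injective (mp0 : L8 F → _) := mp_injective _

theorem emb0_injective : Function.Injective (emb0 : G8 F → _) := em_injective _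

theorem act_emb0 (g : G8 F) (v : L8 F) : act (emb0 g) (mp0 v) = mp0 (act g v) := act_em _ _ _

variable [Finite F]

variable (F) in
/-- the `q`-power map of the algebraic closure -/
noncomputable def fq : Kb F →+* Kb F :=
  letI := Fintype.ofFinite F
  (FiniteField.frobeniusAlgHom F (Kb F)).toRingHom

theorem fq_apply (x : Kb F) : fq F x = x ^ Nat.card F := by
  let _ := Fintype.ofFinite F
  rw [Nat.card_eq_fintype_card]
  rfl

theorem fq_alg (x : F) : fq F (algebraMap F (Kb F) x) = algebraMap F (Kb F) x := by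
  let _ := Fintype.ofFinite F
  exact (FiniteField.frobeniusAlgHom F (Kb F)).commutes x

theorem mem_range_of_fq {x : Kb F} (h : fq F x = x) : ∃ y, algebraMap F (Kb F) y = x := by
  let _ := Fintype.ofFinite F
  rw [fq_apply, Nat.card_eq_fintype_card] at h
  exact Cfsg.Agent.BpExc.Emb.mem_range_of_pow _ h

theorem frq_eq (v : L8 (Kb F)) : frq v = mp (fq F) v := funext fun i => (fq_apply (v i)).symm

/-- the Frobenius map of the algebraic group -/
noncomputable def sg : G8 (Kb F) →* G8 (Kb F) := em (fq F)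

theorem frq_act (g : G8 (Kb F)) (v : L8 (Kb F)) : frq (act g v) = act (sg g) (frq v) := by
  rw [frq_eq, frq_eq]
  exact (act_em _ _ _).symm

theorem frq_mp0 (v : L8 F) : frq (mp0 v) = mp0 v := by
  rw [frq_eq]
  exact funext fun i => fq_alg (v i)

theorem sg_emb0 (g : G8 F) : sg (emb0 g) = emb0 g := by
  apply mx_injective
  ext i j
  exact fq_alg (mx g i j)

theorem fix_L {v : L8 (Kb F)} (h : frq v = v) : ∃ w : L8 F, mp0 w = v := by
  rw [frq_eq] at h
  choose w hw using fun i => mem_range_of_fq (congrFun h i)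
  exact ⟨w, funext hw⟩

theorem sg_eq_phi (p : ℕ) [Fact p.Prime] [CharP F p] {n : ℕ} (hn : Nat.card F = p ^ n) (g : G8 (Kb F)) :
    sg g = phi chevE8 (Kb F) p n g := by
  apply mx_injective
  show _ = (((phi chevE8 (Kb F) p n g : G8 (Kb F)) : GL chevE8.Idx (Kb F)) : Matrix chevE8.Idx chevE8.Idx (Kb F))
  rw [phi_coe, ← hn]
  ext i j
  exact fq_apply _

theorem exists_card_eq (p : ℕ) [Fact p.Prime] [CharP F p] : ∃ n : ℕ, 0 < n ∧ Nat.card F = p ^ n :=
  Cfsg.Agent.BpExc.FamField.exists_card p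

variable (F) in
theorem exists_char : ∃ p : ℕ, p.Prime ∧ CharP F p := by
  obtain ⟨p, hp⟩ := CharP.exists F
  have := Fintype.ofFinite F
  exact ⟨p, CharP.char_is_prime F p, hp⟩

theorem fix_G {g : G8 (Kb F)} (h : sg g = g) : ∃ x : G8 F, emb0 x = g := by
  obtain ⟨p, hp, _⟩ := exists_char F
  have := Fact.mk hp
  obtain ⟨n, -, hn⟩ := exists_card_eq (F := F) p
  rw [sg_eq_phi p hn] at h
  exact Cfsg.Agent.H378.TorFin.fix_mem e8T (algebraMap F (Kb F)) p hn invC_E8 h

variable (F) in
theorem locFinKb : LocFin (Kb F) := by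
  obtain ⟨p, hp, _⟩ := exists_char F
  have := Fact.mk hp
  let _ : Algebra (ZMod p) F := ZMod.algebra F p
  have hFa : Algebra.IsAlgebraic (ZMod p) F := Algebra.IsAlgebraic.of_finite (ZMod p) F
  have hka : Algebra.IsAlgebraic (ZMod p) (AlgebraicClosure F) := Algebra.IsAlgebraic.trans (ZMod p) F _
  exact locFin_of_isAlgebraic p _

end Frob

end Cfsg.Agent.E8A
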