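import Cfsg.Agent.E8A.Defs
import Cfsg.Agent.BpExc.TowChev

/-!
# The root lattice, the roots vanishing on a toral vector, the box CONJ (helper44)

* `Q8`, `W8`, `cs8`, `Rt`, `rp8` : root lattice, Weyl group, roots, the action on the lattice;
* `lv a v` : the value of the lattice vector `a` at the toral part of `v` (`lv_vec : lv (vec r) v = rv r v`);
* `Phi0 h` : the roots vanishing at `h`, `M0 h` : the group generated by their root groups;
* `CONJ` : toral vectors which are conjugate are conjugate under `N`, precisely.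
-/

set_option autoImplicit false

namespace Cfsg.Agent.E8A

open Cfsg Cfsg.Lie CoxeterSystem
open Cfsg.Agent.ChevalleyStructure.CoxeterGeom Cfsg.Agent.ChevalleyStructure.CoxeterGeomTypes
open Cfsg.Agent.Tits.Roots Cfsg.Agent.Nodes.Reps Cfsg.Agent.Nodes.BNOf Cfsg.Agent.Nodes.RGDChev
open Cfsg.Agent.KFacts.RgdChevCoord Cfsg.Agent.BpExc.TowChev
open Cfsg.Agent.H942.E8Tab (e8T)

universe u

/-- the root lattice -/
abbrev Q8 : Type := Fin 8 → ℤ

/-- the Weyl group -/
abbrev W8 : Type := CoxeterMatrix.E₈.Group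

/-- the Coxeter system -/
abbrev cs8 : CoxeterSystem CoxeterMatrix.E₈ W8 := CoxeterMatrix.E₈.toCoxeterSystem

/-- being a root -/
abbrev Rt (a : Q8) : Prop := IsRoot cs8 e8T.isCartan a

/-- the action of the Weyl group on the root lattice -/
noncomputable abbrev rp8 (w : W8) : Module.End ℤ Q8 := rep cs8 e8T.isCartan w

/-- the system of the torus and the elements `n_i` -/
abbrev NS8 (K : Type u) [Field K] : Prop := NSys CoxeterMatrix.E₈ (TT chevE8 K) (nc e8T K)

section

variable {K : Type u} [Field K]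

/-- the value of a vector of the root lattice at the toral part of `v` -/
def lv (a : Q8) (v : L8 K) : K :=
  ∑ i : Fin 8, ((pairing (cartanOf chevE8 8) i a : ℤ) : K) * v (Sum.inl i)

theorem lv_vec (r : Fin chevE8.nroots) (v : L8 K) : lv (vec chevE8 8 r) v = rv r v := by
  unfold lv rv
  refine Finset.sum_congr rfl fun i _ => ?_
  rw [pairing_vec e8T i r.2]
  rfl

/-- the roots vanishing at `h` -/
def Phi0 (h : L8 K) : Set Q8 := {a | Rt a ∧ lv a h = 0}

theorem mem_Phi0 {h : L8 K} {a : Q8} : a ∈ Phi0 h ↔ Rt a ∧ lv a h = 0 := Iff.rfl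

/-- the group generated by the root groups of the roots vanishing at `h` -/
def M0 (h : L8 K) : Subgroup (G8 K) := RGD.Sup (XX chevE8 8 K) (Phi0 h)

end

/-- **CONJ**: an element carrying a toral vector to a toral vector. -/
def CONJ : Prop := ∀ (K : Type u) [Field K] (p : ℕ) [Fact p.Prime] [CharP K p], LocFin K → ∀ (hN : NS8 K)
  (h₁ h₂ : L8 K) (y : G8 K), InT h₁ → InT h₂ → act y h₁ = h₂ →
  ∃ m ∈ M0 h₂, ∃ (w : W8) (n : G8 K), Rp cs8 hN w n ∧ act n h₁ = h₂ ∧ y = m * n

end Cfsg.Agent.E8A
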