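import Cfsg.Agent.E8A.Fix.Basic2
import Cfsg.Agent.E8A.Fix.FrmDefs
import Cfsg.Agent.ChevalleyStructure.UnipProd

/-!
# The box CONJ (helper43)

* `lv_eq` : `lv a v = rl v a`; `M0_fix` : the group `M0 h` fixes `h`;
* `mem_of_fix_U8` : an element of `U` which fixes a toral vector `h` is a product of root elements of positive roots
  vanishing at `h`;
* `conjK` (any field), `conj : CONJ`.
-/

set_option autoImplicit false
set_option maxRecDepth 100000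

namespace Cfsg.Agent.E8A

open CoxeterSystem Cfsg Cfsg.Lie Cfsg.Lie.ChevalleyDatum Matrix
open Cfsg.Agent.ChevalleyStructure Cfsg.Agent.ChevalleyStructure.Elts Cfsg.Agent.ChevalleyStructure.CoxeterGeom
  Cfsg.Agent.ChevalleyStructure.CoxeterGeomTypes
open Cfsg.Agent.ChevalleyStructure.UnipProd (unipGE unipGE_le_iff unipGE_eq_posUnipotent unipGE_eq_bot
  exists_of_mem_unipGE)
open Cfsg.Agent.Tits.Roots Cfsg.Agent.Nodes.Reps Cfsg.Agent.Nodes.BNOf Cfsg.Agent.Nodes.RGDChev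
  Cfsg.Agent.Nodes.NormalForm
open Cfsg.Agent.KFacts.RgdChevCoord
open Cfsg.Agent.H942.E8Tab (e8T)
open Cfsg.Agent.H288.E8L (wt act8 wt_inl wt_inr rt_vec vec_ne_zero exists_idx)

universe u

variable {K : Type u} [Field K]

theorem lv_eq (a : Q8) (v : L8 K) : lv a v = rl v a := rfl

theorem mem_Phi0' {h : L8 K} {a : Q8} : a ∈ Phi0 h ↔ Rt a ∧ rl h a = 0 := Iff.rfl

theorem xr_fix {h : L8 K} (hh : InT h) {r : Fin chevE8.nroots} (hr : rv r h = 0) (t : K) : act (xr r t) h = h := by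
  rw [act_xr_T r t hh, hr, zero_mul, zero_smul, sub_zero]

theorem M0_fix {h : L8 K} (hh : InT h) : M0 h ≤ stab h :=
  sup_le_of (fun _ ha => ha.1) fun r hr t => xr_fix hh (by rw [← rl_vec]; exact hr.2) t

/-- the lattice vectors above a positive root of index at least `k` -/
def AG (k : ℕ) : Set Q8 := {a | ∃ s : Fin chevE8.nroots, 120 ≤ s.val ∧ k ≤ s.val ∧ vec chevE8 8 s ≤ a}

theorem AG_add {k : ℕ} {a b : Q8} (ha : a ∈ AG k) (hb : 0 ≤ b) : a + b ∈ AG k := by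
  obtain ⟨s, h1, h2, h3⟩ := ha
  exact ⟨s, h1, h2, h3.trans (le_add_of_nonneg_right hb)⟩

theorem le_of_AG {k : ℕ} {r : Fin chevE8.nroots} (h : vec chevE8 8 r ∈ AG k) : k ≤ r.val := by
  obtain ⟨s, -, h2, h3⟩ := h
  exact h2.trans (le_of_vec_le h3)

/-- the positive roots of index at least `k` -/
def SG (k : ℕ) : Set Q8 := {a | ∃ s : Fin chevE8.nroots, 120 ≤ s.val ∧ k ≤ s.val ∧ vec chevE8 8 s = a}

theorem SG_rt {k : ℕ} : ∀ a ∈ SG k, Rt a := by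
  rintro _ ⟨s, -, -, rfl⟩
  exact rt_vec s

theorem mem_sup_SG {k : ℕ} {u : G8 K} (hu : (u : GL chevE8.Idx K) ∈ unipGE chevE8 K k) :
    u ∈ RGD.Sup (XX chevE8 8 K) (SG k) := by
  have h1 : unipGE chevE8 K k ≤ (RGD.Sup (XX chevE8 8 K) (SG k)).map (chevE8.group K).subtype :=
    (unipGE_le_iff e8T.inList k _).2 fun r hr hk t =>
      ⟨xr ⟨r, hr.1⟩ t, xr_mem_Sup (S := SG k) ⟨⟨r, hr.1⟩, (isPos_iff ⟨r, hr.1⟩).1 hr, hk, rfl⟩ t, rfl⟩
  obtain ⟨y, hy, e⟩ := h1 hu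
  rw [← Subtype.ext e]
  exact hy

theorem mem_of_fix_aux {h : L8 K} (hh : InT h) : ∀ (m k : ℕ), 120 ≤ k → m = 240 - k → ∀ u : G8 K,
    (u : GL chevE8.Idx K) ∈ unipGE chevE8 K k → act u h = h → u ∈ RGD.Sup (XX chevE8 8 K) (Phi0 h ∩ Pos8) := by
  intro m
  induction m with
  | zero =>
    intro k _ hm u hu _
    rw [unipGE_eq_bot e8T.inList K (by rw [nroots8]; omega), Subgroup.mem_bot] at hu
    rw [show u = 1 from Subtype.ext hu]
    exact one_mem _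
  | succ m ih =>
    intro k hk hm u hu hfix
    have hk' : k < chevE8.nroots := by rw [nroots8]; omega
    have hpos : chevE8.IsPosRoot k := (isPos_iff ⟨k, hk'⟩).2 hk
    obtain ⟨t, v, hv, e⟩ := exists_of_mem_unipGE e8T.inList hpos hu
    obtain ⟨r, hr⟩ : ∃ r : Fin chevE8.nroots, r.val = k := ⟨⟨k, hk'⟩, rfl⟩
    subst hr
    have hr0 : 0 ≤ vec chevE8 8 r := (vec_nonneg_iff r).2 hk
    obtain ⟨v', hv'⟩ : ∃ v' : G8 K, v' = (xr r t)⁻¹ * u := ⟨_, rfl⟩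
    have e1 : (v' : GL chevE8.Idx K) = v := by
      rw [hv']
      show (xG e8T.inList r t)⁻¹ * (u : GL chevE8.Idx K) = v
      rw [e, inv_mul_cancel_left]
    have e2 : u = xr r t * v' := by rw [hv', mul_inv_cancel_left]
    have hv2 : (v' : GL chevE8.Idx K) ∈ unipGE chevE8 K (r.val + 1) := by rw [e1]; exact hv
    have h1 : act v' h - h ∈ LS K (AG (r.val + 1)) :=
      sup_LS_sub (A := {0}) SG_rt (fun a ha b hb => by
        obtain ⟨s, h1, h2, rfl⟩ := hb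
        rw [Set.mem_singleton_iff.1 ha, zero_add]
        exact ⟨s, h1, h2, le_rfl⟩) (fun a ha b hb => by
        obtain ⟨s, h1, -, rfl⟩ := hb
        exact AG_add ha ((vec_nonneg_iff s).2 h1)) (mem_sup_SG hv2) (inT_iff.1 hh)
    have h2 : act (xr r t) (act v' h - h) ∈ LS K (AG (r.val + 1)) := act_xr_LS (fun a ha => AG_add ha hr0) t h1
    have h3 := LS_zero h2 (i := Sum.inr r) fun hc => by
      have := le_of_AG hc
      omega
    rw [act_sub, ← act_mul, ← e2, hfix, act_xr_T r t hh, sub_sub_cancel, Pi.smul_apply, ee_self, smul_eq_mul,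
      mul_one] at h3
    have h4 : xr r t ∈ RGD.Sup (XX chevE8 8 K) (Phi0 h ∩ Pos8) ∧ act (xr r t) h = h := by
      rcases mul_eq_zero.1 h3 with h0 | h0
      · exact ⟨xr_mem_Sup (S := Phi0 h ∩ Pos8) ⟨⟨rt_vec r, (lv_vec r h).trans h0⟩, rt_vec r, hr0⟩ t, xr_fix hh h0 t⟩
      · rw [h0, xr_zero]
        exact ⟨one_mem _, act_one h⟩
    rw [e2]
    refine mul_mem h4.1 (ih (r.val + 1) (by omega) (by omega) v' hv2 ?_)
    apply act_injective (xr r t)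
    rw [← act_mul, ← e2, hfix, h4.2]

/-- an element of `U` which fixes a toral vector -/
theorem mem_of_fix_U8 {h : L8 K} (hh : InT h) {u : G8 K} (hu : u ∈ U8 K) (hfix : act u h = h) :
    u ∈ RGD.Sup (XX chevE8 8 K) (Phi0 h ∩ Pos8) := by
  refine mem_of_fix_aux hh 120 120 le_rfl rfl u ?_ hfix
  rw [unipGE_eq_posUnipotent e8T.inList K (k := 120) (le_of_eq rfl)]
  exact mem_U8.1 hu

theorem sup_le_M0 (h : L8 K) : RGD.Sup (XX chevE8 8 K) (Phi0 h ∩ Pos8) ≤ M0 h :=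
  RGD.Sup_le fun _ ha => RGD.le_Sup ha.1

theorem RepK.conj_M0 {w : W8} {n : G8 K} (hn : RepK w n) {h : L8 K} (hh : InT h) {m : G8 K} (hm : m ∈ M0 h) :
    n * m * n⁻¹ ∈ M0 (act n h) :=
  RepK.conj_Sup hn (S := Phi0 h) (S' := Phi0 (act n h)) (fun _ ha => ha.1) (fun a ha => ⟨ha.1.act w, (RepK.rl hn hh a).trans ha.2⟩) hm

/-- the Bruhat factors of an element which carries a toral vector to a toral vector -/
theorem conj_bruhat {h₁ h₂ : L8 K} (hh₁ : InT h₁) (hh₂ : InT h₂) {u n u' : G8 K} {w : W8} (hu : u ∈ U8 K)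
    (hn : RepK w n) (hu' : u' ∈ RGD.Sup (XX chevE8 8 K) (NW cs8 e8T.isCartan w)) (hy : act (u * n * u') h₁ = h₂) :
    act n h₁ = h₂ ∧ act u h₂ = h₂ ∧ act u' h₁ = h₁ := by
  have h1 : act u' h₁ - h₁ ∈ LS K {a | act8 w a ≤ 0 ∧ act8 w a ≠ 0} :=
    sup_LS_sub (A := {0}) (fun _ ha => ha.1) (fun a ha b hb => by
      rw [Set.mem_singleton_iff.1 ha, zero_add]
      exact ⟨hb.2.2, (hb.1.act w).ne_zero⟩) (fun a ha b hb => by
      have h2 : act8 w b ≤ 0 := hb.2.2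
      refine ⟨by rw [act8_add]; exact add_nonpos ha.1 h2, fun h0 => ha.2 (le_antisymm ha.1 ?_)⟩
      rw [act8_add] at h0
      rw [eq_neg_of_add_eq_zero_left h0]
      exact neg_nonneg.2 h2) hu' (inT_iff.1 hh₁)
  have h2 : act n (act u' h₁ - h₁) ∈ LS K {a | a ≤ 0 ∧ a ≠ 0} := RepK.LS hn (fun a ha => ha) h1
  have h3 : act u⁻¹ h₂ - h₂ ∈ LS K {a | 0 ≤ a ∧ a ≠ 0} :=
    sup_LS_sub (A := {0}) (S := Pos8) (A' := {a | 0 ≤ a ∧ a ≠ 0}) (fun _ ha => ha.1) (fun a ha b hb => by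
      rw [Set.mem_singleton_iff.1 ha, zero_add]
      exact ⟨hb.2, hb.1.ne_zero⟩) (fun a ha b hb =>
      ⟨add_nonneg ha.1 hb.2, fun h0 => ha.2 (le_antisymm (by
        rw [eq_neg_of_add_eq_zero_left h0]
        exact neg_nonpos.2 hb.2) ha.1)⟩) (inv_mem hu) (inT_iff.1 hh₂)
  have h4 : act n h₁ - h₂ ∈ LS K {0} := sub_mem (inT_iff.1 (RepK.inT hn hh₁)) (inT_iff.1 hh₂)
  have e1 : act u⁻¹ h₂ = act n (act u' h₁) := by rw [← hy, act_mul, act_mul, act_inv]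
  have e2 : act u⁻¹ h₂ - h₂ = act n (act u' h₁ - h₁) + (act n h₁ - h₂) := by
    rw [e1, act_sub]; abel
  have h5 : act u⁻¹ h₂ - h₂ = 0 := by
    refine eq_zero_of_LS (A' := {a | a ≤ 0}) h3 ?_ fun a ha hb => ha.2 (le_antisymm hb ha.1)
    rw [e2]
    exact add_mem (LS_mono (fun a ha => ha.1) h2) (LS_mono (fun a ha => le_of_eq ha) h4)
  have h6 : act n h₁ - h₂ = 0 := by
    refine eq_zero_of_LS (A' := {a | a ≤ 0 ∧ a ≠ 0}) h4 ?_ fun a ha hb => hb.2 ha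
    rw [h5] at e2
    rw [eq_neg_of_add_eq_zero_right e2.symm]
    exact neg_mem h2
  refine ⟨sub_eq_zero.1 h6, ?_, ?_⟩
  · conv_lhs => rw [← sub_eq_zero.1 h5]
    exact act_inv' u h₂
  · rw [h5, h6, add_zero] at e2
    exact sub_eq_zero.1 (act_eq_zero e2.symm)

/-- **CONJ** over any field -/
theorem conjK {h₁ h₂ : L8 K} {y : G8 K} (hh₁ : InT h₁) (hh₂ : InT h₂) (hy : act y h₁ = h₂) :
    ∃ m ∈ M0 h₂, ∃ (w : W8) (n : G8 K), RepK w n ∧ act n h₁ = h₂ ∧ y = m * n := by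
  obtain ⟨u, hu, w, n, hn, u', hu', rfl⟩ := bruhat y
  obtain ⟨h1, h2, h3⟩ := conj_bruhat hh₁ hh₂ hu hn hu' hy
  have hu'' : u' ∈ U8 K := RGD.Sup_le (fun a ha => RGD.le_Sup (S := Pos8) ⟨ha.1, ha.2.1⟩) hu'
  have h4 := RepK.conj_M0 hn hh₁ (sup_le_M0 h₁ (mem_of_fix_U8 hh₁ hu'' h3))
  rw [h1] at h4
  exact ⟨u * (n * u' * n⁻¹), mul_mem (sup_le_M0 h₂ (mem_of_fix_U8 hh₂ hu h2)) h4, w, n, hn, h1, by group⟩

/-- **CONJ** -/
theorem conj : CONJ.{u} := fun _ _ _ _ _ _ _ _ _ _ hh₁ hh₂ hy => conjK hh₁ hh₂ hy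

end Cfsg.Agent.E8A
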