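import Cfsg.Agent.E8A.Fix.Red
import Cfsg.Agent.E8A.Fix.Conj

/-!
# The boxes TORUS and RED2, unconditionally (helper44)
-/

set_option autoImplicit false

namespace Cfsg.Agent.E8A.Frm

universe u

/-- **TORUS** -/
theorem torus : TORUS.{u} := torus_of conj

/-- **RED2** -/
theorem red2 : RED2.{u} := red2_of conj

end Cfsg.Agent.E8A.Frm
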