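import Mathlib

/-!
# Commutative algebra for `BOREL` (helper41)

* `aeval_inj` : a substitution `x_i ↦ c_i x_i + (order ≥ 2)`, `c_i ≠ 0`, is injective;
* `exists_val` : an injective map of a ring into a field, and a proper ideal, are dominated by a valuation subring;
* `exists_point` : the kernel of a map from a polynomial ring over an algebraically closed field to a nontrivial ring has a zero.
-/

set_option autoImplicit false

namespace Cfsg.Agent.E8A.Bor

open MvPolynomial

universe u

section Inj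

variable {K : Type u} [Field K] {σ : Type}

/-- the ideal of the variables -/
noncomputable def IV (σ : Type) (K : Type u) [Field K] : Ideal (MvPolynomial σ K) :=
  RingHom.ker (constantCoeff : MvPolynomial σ K →+* K)

theorem mem_IV {f : MvPolynomial σ K} : f ∈ IV σ K ↔ constantCoeff f = 0 := RingHom.mem_ker

theorem X_mem_IV (i : σ) : (X i : MvPolynomial σ K) ∈ IV σ K := by
  rw [mem_IV, constantCoeff_X]

theorem IV_ne_top : IV σ K ≠ ⊤ := RingHom.ker_ne_top _

theorem sub_C_mem_span (f : MvPolynomial σ K) :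
    f - C (constantCoeff f) ∈ Ideal.span (Set.range (X : σ → MvPolynomial σ K)) := by
  induction f using MvPolynomial.induction_on with
  | C a => simp
  | add p q hp hq =>
    have : p + q - C (constantCoeff (p + q)) = (p - C (constantCoeff p)) + (q - C (constantCoeff q)) := by
      rw [map_add, map_add]; ring
    rw [this]
    exact Ideal.add_mem _ hp hq
  | mul_X p n _ =>
    have : p * X n - C (constantCoeff (p * X n)) = p * X n := by
      rw [map_mul, constantCoeff_X, mul_zero, map_zero, sub_zero]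
    rw [this]
    exact Ideal.mul_mem_left _ _ (Ideal.subset_span ⟨n, rfl⟩)

theorem IV_eq_span : IV σ K = Ideal.span (Set.range (X : σ → MvPolynomial σ K)) := by
  apply le_antisymm
  · intro f hf
    have := sub_C_mem_span f
    rwa [mem_IV.1 hf, map_zero, sub_zero] at this
  · rw [Ideal.span_le]
    rintro _ ⟨i, rfl⟩
    exact X_mem_IV i

theorem cc_aeval {θ : σ → MvPolynomial σ K} (hθ : ∀ i, θ i ∈ IV σ K) (f : MvPolynomial σ K) :
    constantCoeff (aeval θ f) = constantCoeff f := by
  induction f using MvPolynomial.induction_on with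
  | C a => simp
  | add p q hp hq => rw [map_add, map_add, map_add, hp, hq]
  | mul_X p n _ =>
    rw [map_mul, map_mul, map_mul, aeval_X, mem_IV.1 (hθ n), constantCoeff_X, mul_zero, mul_zero]

theorem aeval_mem {θ : σ → MvPolynomial σ K} (hθ : ∀ i, θ i ∈ IV σ K) {f : MvPolynomial σ K} (hf : f ∈ IV σ K) :
    aeval θ f ∈ IV σ K := by
  rw [mem_IV, cc_aeval hθ, mem_IV.1 hf]

theorem aeval_mem_pow {θ : σ → MvPolynomial σ K} (hθ : ∀ i, θ i ∈ IV σ K) (d : ℕ) {f : MvPolynomial σ K}
    (hf : f ∈ IV σ K ^ d) : aeval θ f ∈ IV σ K ^ d := by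
  have h1 : (IV σ K).map (aeval θ : MvPolynomial σ K →ₐ[K] MvPolynomial σ K) ≤ IV σ K :=
    Ideal.map_le_iff_le_comap.2 fun _ hg => aeval_mem hθ hg
  have h2 := Ideal.mem_map_of_mem (aeval θ : MvPolynomial σ K →ₐ[K] MvPolynomial σ K) hf
  rw [Ideal.map_pow] at h2
  exact Ideal.pow_right_mono h1 d h2

theorem sub_mem_one {θ δ : σ → MvPolynomial σ K} (hθ : ∀ i, θ i ∈ IV σ K) (hδ : ∀ i, δ i ∈ IV σ K)
    (f : MvPolynomial σ K) : aeval θ f - aeval δ f ∈ IV σ K := by
  rw [mem_IV, map_sub, cc_aeval hθ, cc_aeval hδ, sub_self]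

theorem sub_mem_two {θ δ : σ → MvPolynomial σ K} (hθ : ∀ i, θ i ∈ IV σ K) (hδ : ∀ i, δ i ∈ IV σ K)
    (h : ∀ i, θ i - δ i ∈ IV σ K ^ 2) {f : MvPolynomial σ K} (hf : f ∈ IV σ K) :
    aeval θ f - aeval δ f ∈ IV σ K ^ 2 := by
  rw [IV_eq_span] at hf
  induction hf using Submodule.span_induction with
  | mem x hx =>
    obtain ⟨i, rfl⟩ := hx
    rw [aeval_X, aeval_X]
    exact h i
  | zero => simp
  | add x y _ _ hx hy =>
    have : aeval θ (x + y) - aeval δ (x + y) = (aeval θ x - aeval δ x) + (aeval θ y - aeval δ y) := by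
      rw [map_add, map_add]; ring
    rw [this]
    exact Ideal.add_mem _ hx hy
  | smul a x hx' hx =>
    have : aeval θ (a • x) - aeval δ (a • x) =
        (aeval θ a - aeval δ a) * aeval θ x + aeval δ a * (aeval θ x - aeval δ x) := by
      rw [smul_eq_mul, map_mul, map_mul]; ring
    rw [this]
    refine Ideal.add_mem _ ?_ (Ideal.mul_mem_left _ _ hx)
    rw [pow_two]
    exact Ideal.mul_mem_mul (sub_mem_one hθ hδ a) (aeval_mem hθ (by rw [IV_eq_span]; exact hx'))

theorem sub_mem_pow {θ δ : σ → MvPolynomial σ K} (hθ : ∀ i, θ i ∈ IV σ K) (hδ : ∀ i, δ i ∈ IV σ K)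
    (h : ∀ i, θ i - δ i ∈ IV σ K ^ 2) (d : ℕ) : ∀ f ∈ IV σ K ^ d, aeval θ f - aeval δ f ∈ IV σ K ^ (d + 1) := by
  induction d with
  | zero =>
    intro f _
    rw [zero_add, pow_one]
    exact sub_mem_one hθ hδ f
  | succ d ih =>
    intro f hf
    rw [pow_succ'] at hf
    refine Submodule.mul_induction_on hf (fun a ha g hg => ?_) (fun x y hx hy => ?_)
    · have : aeval θ (a * g) - aeval δ (a * g) =
          (aeval θ a - aeval δ a) * aeval θ g + aeval δ a * (aeval θ g - aeval δ g) := by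
        rw [map_mul, map_mul]; ring
      rw [this]
      refine Ideal.add_mem _ ?_ ?_
      · rw [show d + 1 + 1 = 2 + d by omega, pow_add]
        exact Ideal.mul_mem_mul (sub_mem_two hθ hδ h ha) (aeval_mem_pow hθ d hg)
      · rw [pow_succ' _ (d + 1)]
        exact Ideal.mul_mem_mul (aeval_mem hδ ha) (ih g hg)
    · have : aeval θ (x + y) - aeval δ (x + y) = (aeval θ x - aeval δ x) + (aeval θ y - aeval δ y) := by
        rw [map_add, map_add]; ring
      rw [this]
      exact Ideal.add_mem _ hx hy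

/-- a substitution with an invertible diagonal linear part is injective -/
theorem aeval_inj [Finite σ] (θ : σ → MvPolynomial σ K) (c : σ → K) (hc : ∀ i, c i ≠ 0)
    (h : ∀ i, θ i - C (c i) * X i ∈ IV σ K ^ 2) :
    Function.Injective (aeval θ : MvPolynomial σ K →ₐ[K] MvPolynomial σ K) := by
  have hδ : ∀ i, (C (c i) * X i : MvPolynomial σ K) ∈ IV σ K := fun i => Ideal.mul_mem_left _ _ (X_mem_IV i)
  have hδ' : ∀ i, (C (c i)⁻¹ * X i : MvPolynomial σ K) ∈ IV σ K := fun i => Ideal.mul_mem_left _ _ (X_mem_IV i)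
  have hθ : ∀ i, θ i ∈ IV σ K := fun i => by
    have h1 : θ i - C (c i) * X i ∈ IV σ K := Ideal.pow_le_self two_ne_zero (h i)
    simpa using Ideal.add_mem _ h1 (hδ i)
  have hinv : ∀ f : MvPolynomial σ K,
      aeval (fun i => (C (c i)⁻¹ * X i : MvPolynomial σ K)) (aeval (fun i => (C (c i) * X i : MvPolynomial σ K)) f) = f := by
    intro f
    have : (aeval (fun i => (C (c i)⁻¹ * X i : MvPolynomial σ K))).comp
        (aeval (fun i => (C (c i) * X i : MvPolynomial σ K))) = AlgHom.id K (MvPolynomial σ K) := by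
      apply MvPolynomial.algHom_ext
      intro i
      rw [AlgHom.comp_apply, aeval_X, map_mul, aeval_X, aeval_C, AlgHom.id_apply, algebraMap_eq, ← mul_assoc, ← map_mul,
        mul_inv_cancel₀ (hc i), map_one, one_mul]
    exact DFunLike.congr_fun this f
  rw [injective_iff_map_eq_zero]
  intro f hf
  have hall : ∀ d : ℕ, f ∈ IV σ K ^ d := by
    intro d
    induction d with
    | zero => simp
    | succ d ih =>
      have h1 := sub_mem_pow hθ hδ h d f ih
      rw [hf, zero_sub, Ideal.neg_mem_iff] at h1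
      have h2 := aeval_mem_pow hδ' (d + 1) h1
      rwa [hinv] at h2
  have h0 : f ∈ ⨅ d : ℕ, IV σ K ^ d := Ideal.mem_iInf.2 hall
  rwa [Ideal.iInf_pow_eq_bot_of_isDomain _ IV_ne_top, Ideal.mem_bot] at h0

end Inj

/-- a valuation subring which dominates a given proper ideal -/
theorem exists_val {P : Type*} [CommRing P] {Ω : Type u} [Field Ω] (ι : P →+* Ω) (hι : Function.Injective ι)
    (m : Ideal P) (hm : m ≠ ⊤) :
    ∃ (O : ValuationSubring Ω) (j : P →+* ↥O), (∀ f, ((j f : ↥O) : Ω) = ι f) ∧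
      ∀ f ∈ m, IsLocalRing.residue ↥O (j f) = 0 := by
  have hb : Function.Bijective ι.rangeRestrict :=
    ⟨fun a b h => hι (congrArg Subtype.val h), ι.rangeRestrict_surjective⟩
  have hI : m.map ι.rangeRestrict ≠ ⊤ := by
    intro h
    apply hm
    rw [← Ideal.comap_map_of_bijective ι.rangeRestrict hb (I := m), h, Ideal.comap_top]
  obtain ⟨O, hO, hn⟩ := Ideal.image_subset_nonunits_valuationSubring (A := ι.range) _ hI
  have hmem : ∀ f, ι f ∈ O.toSubring := fun f => hO ⟨f, rfl⟩
  refine ⟨O, ι.codRestrict O.toSubring hmem, fun _ => rfl, fun f hf => ?_⟩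
  rw [IsLocalRing.residue_eq_zero_iff]
  have h1 : ι f ∈ O.nonunits := hn ⟨ι.rangeRestrict f, Ideal.mem_map_of_mem _ hf, rfl⟩
  exact (ValuationSubring.coe_mem_nonunits_iff (A := O) (a := ι.codRestrict O.toSubring hmem f)).1 h1

/-- Nullstellensatz: the kernel of a map to a nontrivial ring has a zero -/
theorem exists_point {K : Type u} [Field K] [IsAlgClosed K] {τ : Type} [Finite τ] {S : Type*} [CommRing S] [Nontrivial S]
    (ψ : MvPolynomial τ K →+* S) : ∃ x : τ → K, ∀ f, ψ f = 0 → eval x f = 0 := by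
  obtain ⟨M, hM, hle⟩ := Ideal.exists_le_maximal (RingHom.ker ψ) (RingHom.ker_ne_top ψ)
  obtain ⟨x, hx⟩ := isMaximal_iff_eq_vanishingIdeal_singleton.1 hM
  refine ⟨x, fun f hf => ?_⟩
  have h1 : f ∈ vanishingIdeal K {x} := hx ▸ hle hf
  have h2 := (mem_vanishingIdeal_iff.1 h1) x rfl
  rwa [aeval_eq_eval] at h2

end Cfsg.Agent.E8A.Bor
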