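import Mathlib
import Cfsg.Agent.ChevalleyStructure.NConj
import Cfsg.Agent.ChevalleyStructure.MinParabolic
import Cfsg.Agent.ChevalleyStructure.HMatDiagAll
import Cfsg.Agent.ChevalleyStructure.Unitriangular
import Cfsg.Agent.S1036
import Cfsg.Agent.S1045

/-!
# The Iwasawa decomposition of a Chevalley group over a valued field (helper41)

* `GO hD O` : the group generated by the root elements with parameters in the valuation subring `O`;
* `iwasawa` : `G = GO · B`;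
* `exists_word` : the elements of `GO` are words with parameters in `O`;
* `borel_stab` : `B` stabilizes the Borel subalgebra.
-/

set_option autoImplicit false

namespace Cfsg.Agent.E8A.Bor

open Cfsg Cfsg.Lie Matrix
open Cfsg.Agent.ChevalleyStructure
open Cfsg.Agent.ChevalleyStructure.Elts Cfsg.Agent.ChevalleyStructure.NConj

universe u

variable {D : ChevalleyDatum} (hD : InList D) {Ω : Type u} [Field Ω] (O : ValuationSubring Ω)

/-- the integral points -/
def GO : Subgroup (GL D.Idx Ω) := Subgroup.closure {g | ∃ (r : ℕ) (t : ↥O), g = xG hD r (t : Ω)}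

theorem xG_mem_GO (r : ℕ) {t : Ω} (ht : t ∈ O) : xG hD r t ∈ GO hD O := Subgroup.subset_closure ⟨r, ⟨t, ht⟩, rfl⟩

theorem nG_mem_GO (r : ℕ) : nG hD r (1 : Ω) ∈ GO hD O := by
  rw [nG_def]
  refine mul_mem (xG_mem_GO hD O r O.one_mem) (mul_mem (xG_mem_GO hD O _ ?_) (xG_mem_GO hD O r O.one_mem))
  rw [inv_one]
  exact O.neg_mem _ O.one_mem

theorem exists_word {k : GL D.Idx Ω} (hk : k ∈ GO hD O) :
    ∃ w : List (ℕ × ↥O), k = wordG hD (w.map fun p => (p.1, (p.2 : Ω))) := by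
  induction hk using Subgroup.closure_induction'' with
  | mem x hx =>
    obtain ⟨r, t, rfl⟩ := hx
    exact ⟨[(r, t)], by simp [wordG_cons, wordG_nil]⟩
  | inv_mem x hx =>
    obtain ⟨r, t, rfl⟩ := hx
    exact ⟨[(r, -t)], by simp [wordG_cons, wordG_nil, xG_inv]⟩
  | one => exact ⟨[], rfl⟩
  | mul x y _ _ hx hy =>
    obtain ⟨w, rfl⟩ := hx
    obtain ⟨w', rfl⟩ := hy
    exact ⟨w ++ w', by rw [List.map_append, wordG_append]⟩

/-- `B g ⊆ GO · B` -/
def Iw (g : GL D.Idx Ω) : Prop := ∀ b ∈ D.borelSubgroup Ω, ∃ k ∈ GO hD O, ∃ b' ∈ D.borelSubgroup Ω, b * g = k * b'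

theorem iw_borel {g : GL D.Idx Ω} (hg : g ∈ D.borelSubgroup Ω) : Iw hD O g :=
  fun b hb => ⟨1, one_mem _, b * g, mul_mem hb hg, (one_mul _).symm⟩

theorem iw_mul {g g' : GL D.Idx Ω} (hg : Iw hD O g) (hg' : Iw hD O g') : Iw hD O (g * g') := by
  intro b hb
  obtain ⟨k, hk, b', hb', e⟩ := hg b hb
  obtain ⟨k', hk', b'', hb'', e'⟩ := hg' b' hb'
  exact ⟨k * k', mul_mem hk hk', b'', hb'', by rw [← mul_assoc, e, mul_assoc, e', mul_assoc]⟩

theorem pos_le_borel : D.posUnipotent Ω ≤ D.borelSubgroup Ω := le_sup_left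

theorem diag_le_borel : D.diagonalSubgroup Ω ≤ D.borelSubgroup Ω := le_sup_right

/-- rank one -/
theorem x_mul_n {r : ℕ} (hr : D.IsPosRoot r) (t : Ω) :
    ∃ k ∈ GO hD O, ∃ b' ∈ D.borelSubgroup Ω, xG hD r t * nG hD r 1 = k * b' := by
  by_cases ht : t ∈ O
  · exact ⟨_, mul_mem (xG_mem_GO hD O r ht) (nG_mem_GO hD O r), 1, one_mem _, (mul_one _).symm⟩
  · have ht0 : t ≠ 0 := fun h => ht (h ▸ O.zero_mem)
    have hti : t⁻¹ ∈ O := (O.mem_or_inv_mem t).resolve_left ht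
    have e := xG_neg_eq hD r (-t)
    rw [neg_neg, inv_neg, neg_neg] at e
    refine ⟨xG hD (D.neg r) t⁻¹, xG_mem_GO hD O _ hti,
      xG hD r (-t) * (hG hD r t * (nG hD r 1 * nG hD r 1)), ?_, ?_⟩
    · exact mul_mem (pos_le_borel (xG_mem_posUnipotent hD hr _))
        (diag_le_borel (mul_mem (hG_mem_diagonal hD hr.1 ht0) (nG_one_sq_mem hD hr.1)))
    · rw [e, ← nG_inv hD r t, ← xG_inv hD r t, hG_eq]
      group

theorem iw_nS {i : ℕ} (hi : i < D.rank) : Iw hD O (nS hD Ω i) := by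
  intro b hb
  have hG := RootComb.good_of_mem hD
  obtain ⟨u, hu, h, hh, rfl⟩ := MinParabolic.mem_sup_of_le_normalizer (S1036.result D hD).1 hb
  obtain ⟨hN, hU⟩ := S1045.result (F := Ω) D hD i hi
  set K := Subgroup.closure {g : GL D.Idx Ω | ∃ (s : ℕ) (t : Ω), D.IsPosRoot s ∧ s ≠ D.simple i ∧
    (g : Matrix D.Idx D.Idx Ω) = D.x Ω s t} with hK
  rw [← hU] at hu
  obtain ⟨k, hk, x, hx, rfl⟩ := MinParabolic.mem_sup_of_le_normalizer (le_sup_left.trans hN) hu
  obtain ⟨t, rfl⟩ := (mem_rootSubgroup_iff hD _ _).1 hx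
  have hn : nS hD Ω i ∈ D.rootSubgroup Ω (D.simple i) ⊔ D.rootSubgroup Ω (D.neg (D.simple i)) := by
    show nG hD _ _ ∈ _
    rw [nG_def]
    exact mul_mem (Subgroup.mem_sup_left (xG_mem_rootSubgroup hD _ _))
      (mul_mem (Subgroup.mem_sup_right (xG_mem_rootSubgroup hD _ _)) (Subgroup.mem_sup_left (xG_mem_rootSubgroup hD _ _)))
  have hy : (xG hD (D.simple i) t * nS hD Ω i)⁻¹ ∈ Subgroup.normalizer (K : Set (GL D.Idx Ω)) :=
    inv_mem (hN (mul_mem (Subgroup.mem_sup_left hx) hn))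
  have hk' : (xG hD (D.simple i) t * nS hD Ω i)⁻¹ * k * (xG hD (D.simple i) t * nS hD Ω i)⁻¹⁻¹ ∈ K :=
    (Subgroup.mem_normalizer_iff.1 hy k).1 hk
  have hh' : (nS hD Ω i)⁻¹ * h * (nS hD Ω i)⁻¹⁻¹ ∈ D.diagonalSubgroup Ω :=
    conj_mem_diagonal hD (inv_mem (nG_one_mem_monomial hD (hG.simple_lt hi))) hh
  obtain ⟨k₁, hk₁, b₁, hb₁, e⟩ := x_mul_n hD O (hG.simple_pos hi) t
  refine ⟨k₁, hk₁, b₁ * (((xG hD (D.simple i) t * nS hD Ω i)⁻¹ * k * (xG hD (D.simple i) t * nS hD Ω i)⁻¹⁻¹) *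
    ((nS hD Ω i)⁻¹ * h * (nS hD Ω i)⁻¹⁻¹)), ?_, ?_⟩
  · exact mul_mem hb₁ (mul_mem (pos_le_borel (hU ▸ Subgroup.mem_sup_left hk')) (diag_le_borel hh'))
  · rw [← mul_assoc k₁, ← e]
    group

/-- the elements with the property on both sides -/
def iwSub : Subgroup (GL D.Idx Ω) where
  carrier := {g | Iw hD O g ∧ Iw hD O g⁻¹}
  one_mem' := ⟨iw_borel hD O (one_mem _), iw_borel hD O (inv_mem (one_mem _))⟩
  mul_mem' := fun {a b} ha hb => ⟨iw_mul hD O ha.1 hb.1, by rw [_root_.mul_inv_rev]; exact iw_mul hD O hb.2 ha.2⟩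
  inv_mem' := fun {a} ha => ⟨ha.2, by rw [inv_inv]; exact ha.1⟩

theorem borel_le_iwSub : D.borelSubgroup Ω ≤ iwSub hD O :=
  fun _ hg => ⟨iw_borel hD O hg, iw_borel hD O (inv_mem hg)⟩

theorem monomial_le_iwSub : D.monomialSubgroup Ω ≤ iwSub hD O := by
  refine monomial_le_of hD (diag_le_borel.trans (borel_le_iwSub hD O)) fun i hi => ⟨iw_nS hD O hi, ?_⟩
  have e : (nS hD Ω i)⁻¹ = nS hD Ω i * (nS hD Ω i * nS hD Ω i)⁻¹ := by group
  rw [e]
  exact iw_mul hD O (iw_nS hD O hi)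
    (iw_borel hD O (inv_mem (diag_le_borel (nG_one_sq_mem hD ((RootComb.good_of_mem hD).simple_lt hi)))))

theorem group_le_iwSub : D.group Ω ≤ iwSub hD O := by
  have hG := RootComb.good_of_mem hD
  rw [group_le_iff hD]
  intro r hr t
  by_cases hp : D.IsPosRoot r
  · exact borel_le_iwSub hD O (pos_le_borel (xG_mem_posUnipotent hD hp t))
  · have hp' : D.IsPosRoot (D.neg r) := by
      rw [hG.isPosRoot_iff] at hp ⊢
      have h1 := hG.neg_eq hr
      have h2 := hG.nroots_eq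
      omega
    by_cases ht : t = 0
    · rw [ht, xG_zero]
      exact one_mem _
    · have e := xG_neg_eq hD (D.neg r) (-t⁻¹)
      rw [Reach.neg_neg hD hr, inv_neg, inv_inv, neg_neg] at e
      rw [e]
      have hx := borel_le_iwSub hD O (pos_le_borel (xG_mem_posUnipotent hD hp' (- -t⁻¹)))
      exact mul_mem (mul_mem hx (monomial_le_iwSub hD O
        (nG_mem_monomial hD hp'.1 (neg_ne_zero.2 (inv_ne_zero ht))))) hx

/-- **Iwasawa decomposition** -/
theorem iwasawa {g : GL D.Idx Ω} (hg : g ∈ D.group Ω) :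
    ∃ k ∈ GO hD O, ∃ b ∈ D.borelSubgroup Ω, g = k * b := by
  obtain ⟨k, hk, b, hb, e⟩ := (group_le_iwSub hD O hg).1 1 (one_mem _)
  exact ⟨k, hk, b, hb, by rw [← e, one_mul]⟩

/-- the Borel subalgebra, over a commutative ring -/
def InBR (D : ChevalleyDatum) {R : Type*} [Zero R] (v : D.Idx → R) : Prop :=
  ∀ r : Fin D.nroots, 2 * r.val < D.nroots → v (Sum.inr r) = 0

theorem lower_stab {M : Matrix D.Idx D.Idx Ω} (hM : Unitriangular.Lower D M) {v : D.Idx → Ω} (hv : InBR D v) :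
    InBR D (M *ᵥ v) := by
  intro r hr
  show ∑ c, M (Sum.inr r) c * v c = 0
  refine Finset.sum_eq_zero fun c _ => ?_
  have hk : Unitriangular.key D (Sum.inr r) = r.val := if_pos hr
  by_cases h : Unitriangular.key D (Sum.inr r) ≤ Unitriangular.key D c
  · rw [hM _ _ h]
    split_ifs with e
    · rw [← e, hv r hr, mul_zero]
    · exact zero_mul _
  · rw [hk] at h
    rcases c with i | s
    · exact absurd (show r.val ≤ D.nroots from r.2.le) h
    · by_cases hs : 2 * s.val < D.nroots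
      · rw [hv s hs, mul_zero]
      · have hk' : Unitriangular.key D (Sum.inr s) = s.val + D.nroots + 1 := if_neg hs
        have := r.2
        omega

include hD in
theorem borel_stab {b : GL D.Idx Ω} (hb : b ∈ D.borelSubgroup Ω) {v : D.Idx → Ω} (hv : InBR D v) :
    InBR D ((b : Matrix D.Idx D.Idx Ω) *ᵥ v) := by
  obtain ⟨u, hu, h, hh, rfl⟩ := MinParabolic.mem_sup_of_le_normalizer (S1036.result D hD).1 hb
  rw [Units.val_mul, ← Matrix.mulVec_mulVec]
  refine lower_stab (Unitriangular.posUnipotent_le_lowerGroup hD hu) fun r hr => ?_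
  obtain ⟨χ, hχ⟩ := HMatDiagAll.diagonalSubgroup_le_torus hD hh
  rw [hχ, Matrix.mulVec_diagonal, hv r hr, mul_zero]

end Cfsg.Agent.E8A.Bor
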