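import Cfsg.Agent.ChevalleyStructure.Ring
import Cfsg.Agent.E8A.Fix.BorAlg
import Cfsg.Agent.E8A.Fix.BorIwa

/-!
# Every vector of the adjoint module over an algebraically closed field is conjugate into the Borel subalgebra (helper41)

`exists_word_inB`, for every tabulated datum `D` and every algebraically closed field in which no root vanishes on the
Cartan subalgebra. Proof: the conjugates of the Cartan subalgebra are dense (`theta_inj`); a valuation ring, the
Iwasawa decomposition and the Nullstellensatz.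
-/

set_option autoImplicit false

namespace Cfsg.Agent.E8A.Bor

open Cfsg Cfsg.Lie Matrix MvPolynomial
open Cfsg.Agent.ChevalleyStructure
open Cfsg.Agent.ChevalleyStructure.Elts Cfsg.Agent.ChevalleyStructure.Ring

universe u

variable (D : ChevalleyDatum)

/-- the value of a root at the toral part -/
def rvR {R : Type*} [CommRing R] (r : Fin D.nroots) (v : D.Idx → R) : R :=
  ∑ i : Fin D.rank, (((D.cartanSR.getD i.val #[]).getD r.val 0 : ℤ) : R) * v (Sum.inl i)

theorem xR_toral {R : Type*} [CommRing R] (r : Fin D.nroots) (t : R) {h : D.Idx → R} (hh : ∀ s, h (Sum.inr s) = 0) :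
    xR D R r.val t *ᵥ h = h - Pi.single (Sum.inr r) (rvR D r h * t) := by
  have e : xR D R r.val t = xMatR D R r t := dif_pos r.2
  rw [e]
  funext row
  show ∑ c, xMatR D R r t row c * h c = h row - (Pi.single (Sum.inr r) (rvR D r h * t) : D.Idx → R) row
  rw [Fintype.sum_sum_type]
  have h2 : ∑ s : Fin D.nroots, xMatR D R r t row (Sum.inr s) * h (Sum.inr s) = 0 :=
    Finset.sum_eq_zero fun s _ => by rw [hh s, mul_zero]
  rw [h2, add_zero]
  rcases row with j | s
  · have h3 : ∀ i : Fin D.rank, xMatR D R r t (Sum.inl j) (Sum.inl i) = if j = i then 1 else 0 := fun _ => rfl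
    simp only [h3, ite_mul, one_mul, zero_mul, Finset.sum_ite_eq, Finset.mem_univ, if_true]
    rw [Pi.single_eq_of_ne Sum.inl_ne_inr, sub_zero]
  · have h3 : ∀ i : Fin D.rank, xMatR D R r t (Sum.inr s) (Sum.inl i) =
        if s = r then - (((D.cartanSR.getD i.val #[]).getD r.val 0 : ℤ) : R) * t else 0 := fun _ => rfl
    simp only [h3]
    rw [hh s, zero_sub]
    by_cases hs : s = r
    · subst hs
      rw [Pi.single_eq_same, rvR, Finset.sum_mul, ← Finset.sum_neg_distrib]
      refine Finset.sum_congr rfl fun i _ => ?_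
      rw [if_pos rfl]
      ring
    · rw [Pi.single_eq_of_ne (fun e => hs (Sum.inr_injective e)), neg_zero]
      exact Finset.sum_eq_zero fun i _ => by rw [if_neg hs, zero_mul]

theorem word_mulVec_map {R S : Type*} [CommRing R] [CommRing S] (f : R →+* S) (w : List (ℕ × R)) (v : D.Idx → R)
    (i : D.Idx) : f ((wordR D R w *ᵥ v) i) = (wordR D S (w.map fun p => (p.1, f p.2)) *ᵥ fun j => f (v j)) i := by
  rw [← wordR_map, RingHom.map_mulVec]
  rfl

section Dom

variable {K : Type u} [Field K]

/-- the generic word -/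
noncomputable def gw (K : Type u) [Field K] (l : List (Fin D.nroots)) : List (ℕ × MvPolynomial D.Idx K) :=
  l.map fun r => (r.val, X (Sum.inr r))

/-- the constant toral vector -/
noncomputable def hC (h : D.Idx → K) : D.Idx → MvPolynomial D.Idx K := fun i => C (h i)

/-- the toral variables -/
noncomputable def zv (K : Type u) [Field K] : D.Idx → MvPolynomial D.Idx K :=
  Sum.elim (fun i => X (Sum.inl i)) (fun _ => 0)

/-- the linear term -/
noncomputable def lt (h : D.Idx → K) (r : Fin D.nroots) : D.Idx → MvPolynomial D.Idx K :=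
  Pi.single (Sum.inr r) (C (rvR D r h) * X (Sum.inr r))

theorem rvR_hC (h : D.Idx → K) (r : Fin D.nroots) : rvR D r (hC D h) = C (rvR D r h) := by
  rw [rvR, rvR, map_sum]
  refine Finset.sum_congr rfl fun i _ => ?_
  rw [map_mul, map_intCast]
  rfl

theorem xR_sub_one_mem (r : ℕ) {t : MvPolynomial D.Idx K} (ht : t ∈ IV D.Idx K) (a b : D.Idx) :
    (xR D (MvPolynomial D.Idx K) r t - 1) a b ∈ IV D.Idx K := by
  have h1 := xR_map D (constantCoeff : MvPolynomial D.Idx K →+* K) r t
  rw [mem_IV.1 ht, xR_zero] at h1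
  have h2 : constantCoeff (xR D (MvPolynomial D.Idx K) r t a b) = (1 : Matrix D.Idx D.Idx K) a b := by
    rw [← h1]; rfl
  rw [mem_IV, Matrix.sub_apply, map_sub, h2, Matrix.one_apply, Matrix.one_apply]
  split_ifs <;> simp

theorem step {h : D.Idx → K} (hh : ∀ s, h (Sum.inr s) = 0) (r : Fin D.nroots) {y : D.Idx → MvPolynomial D.Idx K}
    (hy : ∀ i, y i - hC D h i ∈ IV D.Idx K) (i : D.Idx) :
    (xR D (MvPolynomial D.Idx K) r.val (X (Sum.inr r)) *ᵥ y) i - (y i - lt D h r i) ∈ IV D.Idx K ^ 2 := by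
  have hC0 : ∀ s, hC D h (Sum.inr s) = 0 := fun s => by rw [hC, hh s, map_zero]
  have e : xR D (MvPolynomial D.Idx K) r.val (X (Sum.inr r)) *ᵥ y - (y - lt D h r) =
      (xR D (MvPolynomial D.Idx K) r.val (X (Sum.inr r)) - 1) *ᵥ (y - hC D h) := by
    rw [Matrix.sub_mulVec, Matrix.one_mulVec, Matrix.mulVec_sub, xR_toral D r _ hC0, rvR_hC, lt]
    abel
  have e' := congrFun e i
  rw [Pi.sub_apply, Pi.sub_apply] at e'
  rw [e', pow_two]
  show ∑ c, (xR D (MvPolynomial D.Idx K) r.val (X (Sum.inr r)) - 1) i c * (y c - hC D h c) ∈ _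
  exact Ideal.sum_mem _ fun c _ => Ideal.mul_mem_mul (xR_sub_one_mem D r.val (X_mem_IV (Sum.inr r)) i c) (hy c)

theorem lt_mem (h : D.Idx → K) (r : Fin D.nroots) (i : D.Idx) : lt D h r i ∈ IV D.Idx K := by
  by_cases e : i = Sum.inr r
  · rw [e, lt, Pi.single_eq_same]
    exact Ideal.mul_mem_left _ _ (X_mem_IV _)
  · rw [lt, Pi.single_eq_of_ne e]
    exact Ideal.zero_mem _

theorem zv_mem (i : D.Idx) : zv D K i ∈ IV D.Idx K := by
  rcases i with i | s
  · exact X_mem_IV _
  · exact Ideal.zero_mem _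

theorem sum_lt_mem (h : D.Idx → K) (l : List (Fin D.nroots)) (i : D.Idx) : (l.map (lt D h)).sum i ∈ IV D.Idx K := by
  induction l with
  | nil => exact Ideal.zero_mem _
  | cons r l ih =>
    rw [List.map_cons, List.sum_cons, Pi.add_apply]
    exact Ideal.add_mem _ (lt_mem D h r i) ih

theorem word_mod_sq {h : D.Idx → K} (hh : ∀ s, h (Sum.inr s) = 0) (l : List (Fin D.nroots)) (i : D.Idx) :
    (wordR D _ (gw D K l) *ᵥ (hC D h + zv D K)) i - (hC D h i + zv D K i - (l.map (lt D h)).sum i) ∈ IV D.Idx K ^ 2 := by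
  induction l generalizing i with
  | nil =>
    show (wordR D _ [] *ᵥ (hC D h + zv D K)) i - (hC D h i + zv D K i - 0) ∈ _
    rw [wordR_nil, Matrix.one_mulVec, sub_zero, Pi.add_apply, sub_self]
    exact Ideal.zero_mem _
  | cons r l ih =>
    have e : wordR D _ (gw D K (r :: l)) = xR D _ r.val (X (Sum.inr r)) * wordR D _ (gw D K l) := wordR_cons D _ _
    rw [e, ← Matrix.mulVec_mulVec, List.map_cons, List.sum_cons, Pi.add_apply]
    set y := wordR D _ (gw D K l) *ᵥ (hC D h + zv D K) with hy
    have h1 : ∀ j, y j - hC D h j ∈ IV D.Idx K := fun j => by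
      have h2 : y j - hC D h j =
          (y j - (hC D h j + zv D K j - (l.map (lt D h)).sum j)) + (zv D K j - (l.map (lt D h)).sum j) := by ring
      rw [h2]
      exact Ideal.add_mem _ (Ideal.pow_le_self two_ne_zero (ih j))
        (Ideal.sub_mem _ (zv_mem D j) (sum_lt_mem D h l j))
    have h3 := Ideal.add_mem _ (step D hh r h1 i) (ih i)
    convert h3 using 1
    ring

/-- the generic conjugate of the generic toral vector -/
noncomputable def phi (h : D.Idx → K) : D.Idx → MvPolynomial D.Idx K :=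
  wordR D _ (gw D K (List.finRange D.nroots)) *ᵥ (hC D h + zv D K)

theorem theta_inj {h : D.Idx → K} (hh : ∀ s, h (Sum.inr s) = 0) (hr : ∀ r, rvR D r h ≠ 0) :
    Function.Injective (aeval (fun i => phi D h i - hC D h i) : MvPolynomial D.Idx K →ₐ[K] MvPolynomial D.Idx K) := by
  refine aeval_inj _ (Sum.elim (fun _ => 1) (fun r => - rvR D r h)) ?_ ?_
  · rintro (i | r)
    · exact one_ne_zero
    · exact neg_ne_zero.2 (hr r)
  · intro i
    have h1 := word_mod_sq D hh (List.finRange D.nroots) i
    rw [← Fin.sum_univ_def, Finset.sum_apply] at h1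
    convert h1 using 1
    rcases i with i | s
    · have h2 : ∑ r, lt D h r (Sum.inl i) = 0 :=
        Finset.sum_eq_zero fun r _ => by rw [lt, Pi.single_eq_of_ne Sum.inl_ne_inr]
      rw [h2, Sum.elim_inl, map_one, phi]
      show _ = _ - (_ + X (Sum.inl i) - 0)
      ring
    · have h2 : ∑ r, lt D h r (Sum.inr s) = C (rvR D s h) * X (Sum.inr s) := by
        rw [Finset.sum_eq_single s]
        · rw [lt, Pi.single_eq_same]
        · intro r _ hrs
          rw [lt, Pi.single_eq_of_ne (fun e => hrs (Sum.inr_injective e).symm)]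
        · intro hs
          exact absurd (Finset.mem_univ s) hs
      rw [h2, Sum.elim_inr, map_neg, phi]
      show _ = _ - (_ + 0 - _)
      ring

theorem exists_reg [Infinite K]
    (hK : ∀ r : Fin D.nroots, ∃ i : Fin D.rank, (((D.cartanSR.getD i.val #[]).getD r.val 0 : ℤ) : K) ≠ 0) :
    ∃ h : D.Idx → K, (∀ s, h (Sum.inr s) = 0) ∧ ∀ r, rvR D r h ≠ 0 := by
  let f : Fin D.nroots → Module.Dual K (Fin D.rank → K) := fun r =>
    ∑ i : Fin D.rank, (((D.cartanSR.getD i.val #[]).getD r.val 0 : ℤ) : K) • LinearMap.proj i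
  have hf : ∀ r x, f r x = ∑ i : Fin D.rank, (((D.cartanSR.getD i.val #[]).getD r.val 0 : ℤ) : K) * x i := by
    intro r x
    simp only [f, LinearMap.sum_apply, LinearMap.smul_apply, LinearMap.proj_apply, smul_eq_mul]
  obtain ⟨x, hx⟩ := Module.Dual.exists_forall_ne_zero_of_forall_exists f fun r => by
    obtain ⟨i, hi⟩ := hK r
    refine ⟨Pi.single i 1, ?_⟩
    rw [hf, Finset.sum_eq_single i]
    · rwa [Pi.single_eq_same, mul_one]
    · intro j _ hj
      rw [Pi.single_eq_of_ne hj, mul_zero]
    · intro hi'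
      exact absurd (Finset.mem_univ i) hi'
  refine ⟨Sum.elim x fun _ => 0, fun _ => rfl, fun r => ?_⟩
  have := hx r
  rwa [hf] at this

end Dom

/-- specialization of a word from an extension to the algebraically closed ground field -/
theorem specialize {K : Type u} [Field K] [IsAlgClosed K] {S : Type*} [CommRing S] [Nontrivial S] (e : K →+* S)
    (v : D.Idx → K) (w : List (ℕ × S)) (hw : InBR D (wordR D S w *ᵥ fun i => e (v i))) :
    ∃ w' : List (ℕ × K), InBR D (wordR D K w' *ᵥ v) := by
  let ψ : MvPolynomial (Fin w.length) K →+* S := eval₂Hom e fun j => (w.get j).2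
  obtain ⟨x, hx⟩ := exists_point ψ
  let W : List (ℕ × MvPolynomial (Fin w.length) K) := List.ofFn fun j => ((w.get j).1, X j)
  have hW : (W.map fun p => (p.1, ψ p.2)) = w := by
    rw [List.map_ofFn]
    conv_rhs => rw [← List.ofFn_get w]
    congr 1
    funext j
    show ((w.get j).1, ψ (X j)) = w.get j
    rw [eval₂Hom_X']
  refine ⟨W.map fun p => (p.1, eval x p.2), fun r hr => ?_⟩
  have h1 := word_mulVec_map D ψ W (fun i => C (v i)) (Sum.inr r)
  have h2 : (fun j => ψ (C (v j))) = fun j => e (v j) := funext fun j => eval₂Hom_C _ _ _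
  rw [hW, h2, hw r hr] at h1
  have h3 := word_mulVec_map D (eval x) W (fun i => C (v i)) (Sum.inr r)
  have h4 : (fun j => eval x (C (v j))) = v := funext fun j => eval_C _
  rw [hx _ h1, h4] at h3
  exact h3.symm

variable {D}

/-- **every vector is conjugate into the Borel subalgebra** -/
theorem exists_word_inB (hD : InList D) {K : Type u} [Field K] [IsAlgClosed K]
    (hK : ∀ r : Fin D.nroots, ∃ i : Fin D.rank, (((D.cartanSR.getD i.val #[]).getD r.val 0 : ℤ) : K) ≠ 0)
    (v : D.Idx → K) : ∃ w : List (ℕ × K), InBR D (wordR D K w *ᵥ v) := by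
  obtain ⟨h, hh, hr⟩ := exists_reg D hK
  let R := MvPolynomial D.Idx K
  let Ω := FractionRing R
  let α : R →+* Ω := algebraMap R Ω
  let θ : R →ₐ[K] R := aeval fun i => phi D h i - hC D h i
  have hι : Function.Injective (α.comp (θ : R →+* R)) := (IsFractionRing.injective R Ω).comp (theta_inj D hh hr)
  let ev : R →+* K := eval fun i => v i - h i
  obtain ⟨O, j, hj, hm⟩ := exists_val _ hι (RingHom.ker ev) (RingHom.ker_ne_top ev)
  let π := IsLocalRing.residue ↥O
  let φO : D.Idx → ↥O := fun i => j (X i + C (h i))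
  have hφ : ∀ i, ((φO i : ↥O) : Ω) = α (phi D h i) := fun i => by
    rw [hj]
    show α (θ (X i + C (h i))) = _
    rw [map_add, aeval_X, aeval_C, algebraMap_eq, hC, sub_add_cancel]
  let e : K →+* IsLocalRing.ResidueField ↥O := π.comp (j.comp C)
  have hπ : ∀ i, π (φO i) = e (v i) := fun i => by
    have h1 : X i + C (h i) - C (v i) ∈ RingHom.ker ev := by
      rw [RingHom.mem_ker, map_sub, map_add, eval_X, eval_C, eval_C]
      ring
    have h2 := hm _ h1
    rw [map_sub, map_sub, sub_eq_zero] at h2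
    exact h2
  -- the generic element over the fraction field
  let g : GL D.Idx Ω := wordG hD ((gw D K (List.finRange D.nroots)).map fun p => (p.1, α p.2))
  obtain ⟨k, hk, b, hb, hg⟩ := iwasawa hD O (wordG_mem_group hD _ : g ∈ D.group Ω)
  obtain ⟨w, hw⟩ := exists_word hD O (inv_mem hk)
  have h0 : InBR D fun i => α ((hC D h + zv D K) i) := fun r _ => by
    show α (C (h (Sum.inr r)) + 0) = 0
    rw [hh r, map_zero, add_zero, map_zero]
  have h1 : (fun i => α (phi D h i)) = (g : Matrix D.Idx D.Idx Ω) *ᵥ fun i => α ((hC D h + zv D K) i) := by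
    funext i
    rw [phi, word_mulVec_map, (eq_wordG_iff hD g _).1 rfl, wordMat_eq_wordR]
  have h2 : InBR D (((k⁻¹ : GL D.Idx Ω) : Matrix D.Idx D.Idx Ω) *ᵥ fun i => α (phi D h i)) := by
    rw [h1, Matrix.mulVec_mulVec, ← Units.val_mul, show g = k * b from hg, inv_mul_cancel_left]
    exact borel_stab hD hb h0
  rw [(eq_wordG_iff hD _ _).1 hw, wordMat_eq_wordR] at h2
  have h3 : InBR D (wordR D ↥O w *ᵥ φO) := fun r hr' => by
    have h4 := word_mulVec_map D O.subtype w φO (Sum.inr r)
    have h5 : (fun i => O.subtype (φO i)) = fun i => α (phi D h i) := funext hφ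
    rw [h5] at h4
    exact Subtype.ext (h4.trans (h2 r hr'))
  refine specialize D e v (w.map fun p => (p.1, π p.2)) fun r hr' => ?_
  have h4 := word_mulVec_map D π w φO (Sum.inr r)
  rw [h3 r hr', map_zero, funext hπ] at h4
  exact h4.symm

/-- the same, with an element of the group -/
theorem exists_inB (hD : InList D) {K : Type u} [Field K] [IsAlgClosed K]
    (hK : ∀ r : Fin D.nroots, ∃ i : Fin D.rank, (((D.cartanSR.getD i.val #[]).getD r.val 0 : ℤ) : K) ≠ 0)
    (v : D.Idx → K) : ∃ g ∈ D.group K, InBR D ((g : Matrix D.Idx D.Idx K) *ᵥ v) := by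
  obtain ⟨w, hw⟩ := exists_word_inB hD hK v
  refine ⟨wordG hD w, wordG_mem_group hD w, ?_⟩
  rwa [(eq_wordG_iff hD _ w).1 rfl, wordMat_eq_wordR]

end Cfsg.Agent.E8A.Bor
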