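import Cfsg.Agent.E8A.Fix.Iface
import Cfsg.Agent.E8A.Fix.BorGen

/-!
# `BOREL` (helper41)
-/

set_option autoImplicit false

namespace Cfsg.Agent.E8A.Bor

open Cfsg Cfsg.Lie Matrix
open Cfsg.Agent.H942.E8Tab (e8T)

universe u

set_option maxRecDepth 100000 in
theorem car_chk : ((List.range 240).all fun r => (List.range 8).any fun i =>
    ((chevE8.cartanSR.getD i #[]).getD r 0).natAbs == 1) = true := by decide +kernel

theorem car_unit (r : Fin chevE8.nroots) :
    ∃ i : Fin chevE8.rank, ((chevE8.cartanSR.getD i.val #[]).getD r.val 0).natAbs = 1 := by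
  have h := List.all_eq_true.1 car_chk r.val (List.mem_range.2 r.2)
  obtain ⟨i, hi, e⟩ := List.any_eq_true.1 h
  exact ⟨⟨i, List.mem_range.1 hi⟩, by simpa using e⟩

theorem car_ne (K : Type u) [Field K] (r : Fin chevE8.nroots) :
    ∃ i : Fin chevE8.rank, (((chevE8.cartanSR.getD i.val #[]).getD r.val 0 : ℤ) : K) ≠ 0 := by
  obtain ⟨i, hi⟩ := car_unit r
  refine ⟨i, ?_⟩
  rcases Int.natAbs_eq_iff.1 hi with e | e <;> rw [e] <;> simp

/-- **BOREL** -/
theorem borel : BOREL.{u} := by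
  intro K _ _ v
  obtain ⟨g, hg, h⟩ := exists_inB e8T.inList (car_ne K) v
  exact ⟨⟨g, hg⟩, fun r hr => h r (show 2 * r.val < 240 by omega)⟩

end Cfsg.Agent.E8A.Bor
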