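import Cfsg.Agent.E8A.Fix.FrmTor
import Cfsg.Agent.H378.TorFin
import Cfsg.Agent.H897.Cen
import Cfsg.Agent.H942.CB.Cell

/-!
# Frames (helper44)

`F` finite with `q = p ^ e` elements, `K = Kb F`, `sg` the `q`-Frobenius automorphism of `G8 K`.

* `act_sg`, `exists_mp0`, `exists_emb0` : Frobenius and rational points;
* `IsFrame g n w` : `g * (sg g)⁻¹ = n` represents `w`; `ee g`, `ev g` : the twisted embeddings of the group and of the
  module, with ranges the fixed points of `x ↦ n * sg x * n⁻¹` and `x ↦ act n (frq x)`;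
* `exists_frame` : a vector which is conjugate into the Cartan subalgebra has a frame, such that `w` permutes the
  positive roots vanishing on it.
-/

set_option autoImplicit false
set_option linter.unusedSectionVars false
set_option maxRecDepth 20000

namespace Cfsg.Agent.E8A.Frm

open Cfsg Cfsg.Lie CoxeterSystem Matrix
open Cfsg.Agent.ChevalleyStructure Cfsg.Agent.ChevalleyStructure.Elts
open Cfsg.Agent.ChevalleyStructure.CoxeterGeom Cfsg.Agent.ChevalleyStructure.CoxeterGeomTypes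
open Cfsg.Agent.Tits.Roots Cfsg.Agent.Nodes.Reps Cfsg.Agent.Nodes.BNOf Cfsg.Agent.Nodes.RGDChev
open Cfsg.Agent.KFacts.RgdChevCoord Cfsg.Agent.BpExc.TowChev Cfsg.Agent.H129.TorusChar
open Cfsg.Agent.BpExc.Fr Cfsg.Agent.BpExc.LangFr Cfsg.Agent.BpExc.FamUntw Cfsg.Agent.BpExc.FamInst
open Cfsg.Agent.H942.E8Tab (e8T)

universe u

variable {F : Type u} [Field F] [Finite F] (p : ℕ) [Fact p.Prime] [CharP F p] {e : ℕ}

/-! ### Frobenius -/

include p in
theorem locFinK : LocFin (Kb F) := by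
  let _ : Algebra (ZMod p) F := ZMod.algebra F p
  have hFa : Algebra.IsAlgebraic (ZMod p) F := Algebra.IsAlgebraic.of_finite (ZMod p) F
  have hka : Algebra.IsAlgebraic (ZMod p) (AlgebraicClosure F) := Algebra.IsAlgebraic.trans (ZMod p) F _
  exact locFin_of_isAlgebraic p _

include p in
theorem ns8 : NS8 (Kb F) := H378.TorChar.nsysL e8T cs8 (locFinK p) p

theorem exists_exp : ∃ e : ℕ, 0 < e ∧ Nat.card F = p ^ e := by
  have := Fintype.ofFinite F
  obtain ⟨n, -, hn⟩ := FiniteField.card F p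
  exact ⟨n, n.2, by rw [Nat.card_eq_fintype_card, hn]⟩

/-- the Frobenius automorphism -/
noncomputable def sg (F : Type u) [Field F] (p : ℕ) [Fact p.Prime] [CharP F p] (e : ℕ) : MulAut (G8 (Kb F)) :=
  phi chevE8 (Kb F) p e

theorem sg_isFrob : IsFrob p e (sg F p e) := phi_isFrob p e

theorem sg_fr : Fr cs8 e8T.isCartan (TT chevE8 (Kb F)) (XX chevE8 8 (Kb F)) (sg F p e) (AddEquiv.refl _) :=
  phi_fr e8T cs8 p (locFinK p) e

variable {p}

theorem frq_eq (he : Nat.card F = p ^ e) (v : L8 (Kb F)) : frq v = fun i => iterateFrobenius (Kb F) p e (v i) := by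
  funext i
  rw [iterateFrobenius_def, ← he]
  rfl

theorem act_sg (he : Nat.card F = p ^ e) (g : G8 (Kb F)) (v : L8 (Kb F)) :
    act (sg F p e g) (frq v) = frq (act g v) := by
  rw [frq_eq he, frq_eq he]
  funext i
  unfold act
  rw [RingHom.map_mulVec]
  congr 1
  unfold mx sg
  rw [phi_coe]
  rfl

theorem frq_mp0 (v : L8 F) : frq (mp0 v) = mp0 v := by
  have := Fintype.ofFinite F
  funext i
  show algebraMap F (Kb F) (v i) ^ Nat.card F = algebraMap F (Kb F) (v i)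
  rw [← map_pow, Nat.card_eq_fintype_card, FiniteField.pow_card]

theorem exists_mp0 (he : Nat.card F = p ^ e) {x : L8 (Kb F)} (h : frq x = x) : ∃ v : L8 F, mp0 v = x := by
  have := Fintype.ofFinite F
  have h1 : ∀ i, ∃ a : F, algebraMap F (Kb F) a = x i := by
    intro i
    refine (BpExc.Emb.fix_iff_range (f := algebraMap F (Kb F)) (φ := iterateFrobenius (Kb F) p e) (fun t => ?_)
      (x i)).1 ?_
    · rw [iterateFrobenius_def, ← he, Nat.card_eq_fintype_card]
    · have h2 := congrFun h i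
      rwa [frq_eq he] at h2
  choose v hv using h1
  exact ⟨v, funext hv⟩

omit [Finite F] in
theorem mp0_injective : Function.Injective (mp0 : L8 F → L8 (Kb F)) := by
  intro a b h
  funext i
  exact (algebraMap F (Kb F)).injective (congrFun h i)

omit [Finite F] in
theorem mp0_zero : mp0 (0 : L8 F) = 0 := by
  funext i
  exact map_zero (algebraMap F (Kb F))

omit [Finite F] in
theorem act_emb0 (y : G8 F) (v : L8 F) : act (emb0 y) (mp0 v) = mp0 (act y v) := by
  funext i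
  unfold act mp0 mp
  rw [RingHom.map_mulVec]
  rfl

omit [Finite F] in
theorem emb0_injective : Function.Injective (emb0 : G8 F →* G8 (Kb F)) := GpExc.Field.emb_injective e8T.inList _

theorem sg_emb0 (he : Nat.card F = p ^ e) (y : G8 F) : sg F p e (emb0 y) = emb0 y :=
  H378.TorFin.phi_emb' e8T (algebraMap F (Kb F)) p he y

theorem exists_emb0 (he : Nat.card F = p ^ e) {x : G8 (Kb F)} (h : sg F p e x = x) : ∃ y : G8 F, emb0 y = x :=
  H378.TorFin.fix_mem e8T (algebraMap F (Kb F)) p he inv_E8 h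

theorem lv_frq (he : Nat.card F = p ^ e) (a : Q8) (v : L8 (Kb F)) : lv a (frq v) = lv a v ^ p ^ e := by
  rw [frq_eq he, ← iterateFrobenius_def]
  unfold lv
  rw [map_sum]
  exact Finset.sum_congr rfl fun i _ => by rw [map_mul, map_intCast]

theorem inT_frq {h : L8 (Kb F)} (hh : InT h) : InT (frq h) := by
  intro r
  show h (Sum.inr r) ^ Nat.card F = 0
  rw [hh r, zero_pow Nat.card_pos.ne']

theorem Phi0_frq (he : Nat.card F = p ^ e) (h : L8 (Kb F)) : Phi0 (frq h) = Phi0 h := by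
  ext a
  rw [mem_Phi0, mem_Phi0, lv_frq he, pow_eq_zero_iff (pow_pos (Fact.out : p.Prime).pos e).ne']

/-! ### the twisted embeddings -/

/-- the twisted embedding of the group -/
noncomputable def ee (g : G8 (Kb F)) : G8 F →* G8 (Kb F) := (MulAut.conj g).toMonoidHom.comp emb0

/-- the twisted embedding of the module -/
noncomputable def ev (g : G8 (Kb F)) (v : L8 F) : L8 (Kb F) := act g (mp0 v)

omit [Finite F] in
theorem ee_apply (g : G8 (Kb F)) (y : G8 F) : ee g y = g * emb0 y * g⁻¹ := rfl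

omit [Finite F] in
theorem ee_injective (g : G8 (Kb F)) : Function.Injective (ee g : G8 F →* G8 (Kb F)) :=
  (MulAut.conj g).injective.comp emb0_injective

omit [Finite F] in
theorem ev_injective (g : G8 (Kb F)) : Function.Injective (ev g : L8 F → L8 (Kb F)) :=
  (act_injective g).comp mp0_injective

omit [Finite F] in
theorem ev_zero (g : G8 (Kb F)) : ev g (0 : L8 F) = 0 := by
  unfold ev
  rw [mp0_zero, act_zero]

omit [Finite F] in
theorem act_ee (g : G8 (Kb F)) (y : G8 F) (v : L8 F) : act (ee g y) (ev g v) = ev g (act y v) := by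
  unfold ev
  rw [ee_apply, act_mul, act_mul, act_inv, act_emb0]

omit [Finite F] in
theorem ee_mem_stab (g : G8 (Kb F)) {y : G8 F} {v : L8 F} : ee g y ∈ stab (ev g v) ↔ y ∈ stab v := by
  rw [mem_stab, mem_stab, act_ee]
  exact (ev_injective g).eq_iff

omit [Finite F] in
theorem card_comap (g : G8 (Kb F)) {S : Subgroup (G8 (Kb F))} (hS : S ≤ (ee g : G8 F →* G8 (Kb F)).range) :
    Nat.card ↥(S.comap (ee g : G8 F →* G8 (Kb F))) = Nat.card ↥S := by
  rw [Nat.card_congr (Subgroup.equivMapOfInjective (S.comap (ee g : G8 F →* G8 (Kb F))) (ee g)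
    (ee_injective g)).toEquiv, Subgroup.map_comap_eq_self hS]

variable (p e) in
/-- a frame -/
structure IsFrame (g n : G8 (Kb F)) (w : W8) : Prop where
  rp : Rp cs8 (ns8 p) w n
  eq : g * (sg F p e g)⁻¹ = n

variable (p e) in
/-- the twisted Frobenius automorphism -/
noncomputable def tau (n : G8 (Kb F)) : MulAut (G8 (Kb F)) := MulAut.conj n * sg F p e

theorem tau_apply (n x : G8 (Kb F)) : tau p e n x = n * sg F p e x * n⁻¹ := rfl

theorem tau_isFrob (n : G8 (Kb F)) : IsFrob p e (tau p e n) := (sg_isFrob p).conj_mul n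

theorem tau_fr {n : G8 (Kb F)} {w : W8} (hn : Rp cs8 (ns8 p) w n) :
    Fr cs8 e8T.isCartan (TT chevE8 (Kb F)) (XX chevE8 8 (Kb F)) (tau p e n) (repAut cs8 e8T.isCartan w) :=
  (H720.TorusReal.fr_conj e8T cs8 (locFinK p) p hn).mul (sg_fr p)

section Frame

variable {g n : G8 (Kb F)} {w : W8} (he : Nat.card F = p ^ e) (fr : IsFrame p e g n w)

include he fr

theorem IsFrame.mem_range {x : G8 (Kb F)} : x ∈ (ee g : G8 F →* G8 (Kb F)).range ↔ tau p e n x = x := by
  rw [tau_apply, ← fr.eq]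
  constructor
  · rintro ⟨y, rfl⟩
    rw [ee_apply, map_mul, map_mul, map_inv, sg_emb0 he]
    group
  · intro h
    obtain ⟨y, hy⟩ := exists_emb0 he (x := g⁻¹ * x * g) (by
      rw [map_mul, map_mul, map_inv]
      calc (sg F p e g)⁻¹ * sg F p e x * sg F p e g
          = g⁻¹ * (g * (sg F p e g)⁻¹ * sg F p e x * (g * (sg F p e g)⁻¹)⁻¹) * g := by group
        _ = g⁻¹ * x * g := by rw [h])
    exact ⟨y, by rw [ee_apply, hy]; group⟩

theorem IsFrame.act_frq (v : L8 F) : act n (frq (ev g v)) = ev g v := by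
  unfold ev
  rw [← act_sg he, frq_mp0, ← act_mul, ← fr.eq, inv_mul_cancel_right]

theorem IsFrame.exists_ev {x : L8 (Kb F)} (h : act n (frq x) = x) : ∃ v : L8 F, ev g v = x := by
  obtain ⟨v, hv⟩ := exists_mp0 he (x := act g⁻¹ x) (by
    rw [← act_sg he, map_inv]
    apply act_injective g
    rw [← act_mul, fr.eq, h, act_inv'])
  exact ⟨v, by unfold ev; rw [hv, act_inv']⟩

theorem IsFrame.lv_w {v : L8 F} (hv : InT (ev g v)) (a : Q8) : lv (rp8 w a) (ev g v) = lv a (ev g v) ^ p ^ e := by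
  have h1 := lv_rp p (locFinK p) fr.rp (inT_frq hv) a
  rwa [fr.act_frq he, lv_frq he] at h1

theorem IsFrame.w_mem {v : L8 F} (hv : InT (ev g v)) {a : Q8} (ha : a ∈ Phi0 (ev g v)) : rp8 w a ∈ Phi0 (ev g v) :=
  ⟨ha.1.act w, by rw [fr.lv_w he hv, ha.2, zero_pow (pow_pos (Fact.out : p.Prime).pos e).ne']⟩

end Frame

/-! ### existence of frames -/

section

variable {K : Type u} [Field K]

theorem neg_mem_Phi0 {h : L8 K} {a : Q8} (ha : a ∈ Phi0 h) : -a ∈ Phi0 h :=
  ⟨ha.1.neg, by rw [lv_neg, ha.2, neg_zero]⟩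

variable [IsAlgClosed K] (p) [CharP K p] (hk : LocFin K) {hN : NS8 K}

include p hk in
theorem exists_refl {h : L8 K} {a : Q8} (ha : a ∈ Phi0 h) :
    ∃ w i, a = rp8 w (sr i) ∧ ∃ m ∈ M0 h, Rp cs8 hN (Nodes.SubComb.rfl' cs8 w i) m := by
  obtain ⟨w, i, h1, m, hm, hm'⟩ := Cfsg.Agent.H897.Cen.exists_rfl_Sup (tow e8T cs8 hk p (k := K))
    (by rw [TL_eq e8T hk, XL_eq e8T hk]; exact coordsL e8T cs8 hk p) ha.1 ha (neg_mem_Phi0 ha)
  rw [XL_eq e8T hk] at hm
  exact ⟨w, i, h1, m, hm, (H942.CB.rp_conv e8T cs8 hk p hN).1 hm'⟩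

include p hk in
/-- conjugation of `M0` -/
theorem conj_M0 {w : W8} {n : G8 K} (hn : Rp cs8 hN w n) {h : L8 K} (hh : InT h) {m : G8 K} (hm : m ∈ M0 h) :
    n * m * n⁻¹ ∈ M0 (act n h) := by
  have F := H720.TorusReal.fr_conj e8T cs8 hk p hn
  refine (F.mem_Sup (S := Phi0 h) (S' := Phi0 (act n h)) (fun a ha => ha.1) (fun a => ?_) m).2 hm
  rw [mem_Phi0, mem_Phi0, repAut_apply, lv_rp p hk hn hh]
  exact and_congr_left fun _ => F.root a

end

/-- **Existence of frames.** -/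
theorem exists_frame (hC : CONJ.{u}) (he0 : 0 < e) (he : Nat.card F = p ^ e) {v : L8 F} {g₀ : G8 (Kb F)}
    (hv : InT (ev g₀ v)) : ∃ (g n : G8 (Kb F)) (w : W8), IsFrame p e g n w ∧ ev g v = ev g₀ v ∧
      ∀ a ∈ Phi0 (ev g₀ v), 0 ≤ a → 0 ≤ rp8 w a := by
  obtain ⟨h, hh⟩ : ∃ h, h = ev g₀ v := ⟨_, rfl⟩
  rw [← hh] at hv ⊢
  have hk : LocFin (Kb F) := locFinK p
  have h1 : act (g₀ * (sg F p e g₀)⁻¹) (frq h) = h := by
    rw [hh]
    unfold ev
    rw [← act_sg he, frq_mp0, ← act_mul, inv_mul_cancel_right]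
  obtain ⟨m, hm, w₀, n₀, hn₀, h2, h3⟩ := hC (Kb F) p hk (ns8 p) _ _ _ (inT_frq hv) hv h1
  let V : Subgroup W8 :=
    { carrier := {x | ∃ k ∈ M0 h, Rp cs8 (ns8 p) x k}
      one_mem' := ⟨1, one_mem _, rp_one⟩
      mul_mem' := by
        rintro a b ⟨k, hk1, hk2⟩ ⟨k', hk3, hk4⟩
        exact ⟨k * k', mul_mem hk1 hk3, hk2.mul hk4⟩
      inv_mem' := by
        rintro a ⟨k, hk1, hk2⟩
        exact ⟨k⁻¹, inv_mem hk1, hk2.inv⟩ }
  obtain ⟨x, ⟨k, hk1, hk2⟩, hx⟩ := BpExc.TorCent.exists_adjust (cs := cs8) (h := e8T.isCartan) (Phi0 h) V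
    (fun a ha => by
      obtain ⟨w, i, h4, m', h5, h6⟩ := exists_refl p hk (hN := ns8 p) ha
      exact ⟨w, i, h4, m', h5, h6⟩) w₀
  have hn : Rp cs8 (ns8 p) (w₀ * x) (n₀ * k) := hn₀.mul hk2
  have hk3 : k ∈ M0 (frq h) := by
    unfold M0
    rw [Phi0_frq he]
    exact hk1
  have h4 : act (n₀ * k) (frq h) = h := by
    rw [act_mul, M0_le (inT_frq hv) hk3, h2]
  have h5 : n₀ * k⁻¹ * n₀⁻¹ ∈ M0 h := by
    have h6 := conj_M0 p hk hn₀ (inT_frq hv) (inv_mem hk3)
    rwa [h2] at h6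
  have h6 : ∀ a ∈ Phi0 h, repAut cs8 e8T.isCartan (w₀ * x) a ∈ Phi0 h := by
    intro a ha
    refine ⟨ha.1.act _, ?_⟩
    have h7 := lv_rp p hk hn (inT_frq hv) a
    rw [h4, lv_frq he, ha.2, zero_pow (pow_pos (Fact.out : p.Prime).pos e).ne'] at h7
    exact h7
  obtain ⟨y, hy, h7⟩ := lang_fr e8T cs8 he0 (tau_isFrob (n₀ * k)) (tau_fr hn) (S := Phi0 h) (fun a ha => ha.1) h6
    (mul_mem hm h5)
  refine ⟨y * g₀, n₀ * k, w₀ * x, ⟨hn, ?_⟩, ?_, hx⟩
  · rw [tau_apply] at h7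
    rw [map_mul]
    calc y * g₀ * (sg F p e y * sg F p e g₀)⁻¹ = y * (g₀ * (sg F p e g₀)⁻¹) * (sg F p e y)⁻¹ := by group
      _ = y * (m * (n₀ * k⁻¹ * n₀⁻¹)) * (n₀ * k) * (sg F p e y)⁻¹ := by rw [h3]; group
      _ = n₀ * k := by rw [h7]; group
  · have h8 : ev (y * g₀) v = act y h := by
      rw [hh]
      unfold ev
      rw [act_mul]
    rw [h8]
    exact M0_le hv hy

end Cfsg.Agent.E8A.Frm
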