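import Cfsg.Agent.E8A.Fix.KemOpt
import Cfsg.Agent.E8A.Fix.Frm

/-!
# `KEMPF` (helper41)

* `Rad lam` : the elements which move the filtration of `lam` by one; `Rad.pow` : they are `p`-elements;
* `par_end` : **parabolic endgame**: if `g * (sg g)⁻¹` lies in the parabolic subgroup of `lam` and `lam` takes a value `≥ 1` on a
  root, then there is a nontrivial rational `p`-group normalised by all rational elements of the conjugate parabolic subgroup;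
* `kempf : KEMPF`.
-/

set_option autoImplicit false
set_option maxRecDepth 100000

namespace Cfsg.Agent.E8A.Kem

open CoxeterSystem Cfsg Cfsg.Lie Matrix
open Cfsg.Agent.ChevalleyStructure Cfsg.Agent.ChevalleyStructure.Elts Cfsg.Agent.ChevalleyStructure.CoxeterGeom
  Cfsg.Agent.ChevalleyStructure.CoxeterGeomTypes
open Cfsg.Agent.Tits.Roots Cfsg.Agent.Nodes.Reps Cfsg.Agent.Nodes.BNOf Cfsg.Agent.Nodes.RGDChev
open Cfsg.Agent.KFacts.RgdChevCoord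
open Cfsg.Agent.BpExc.Fr Cfsg.Agent.BpExc.LangFr
open Cfsg.Agent.H942.E8Tab (e8T)
open Cfsg.Agent.H288.E8L (wt act8)

universe u

section Rad

variable {K : Type u} [Field K]

variable (K) in
/-- the stabilizer of the filtration -/
def St (lam : Q8 →+ ℝ) : Subgroup (G8 K) := ⨅ c : ℝ, stabL (LS K (Ge lam c))

theorem St.act {lam : Q8 →+ ℝ} {y : G8 K} (hy : y ∈ St K lam) (c : ℝ) {v : L8 K} (hv : v ∈ LS K (Ge lam c)) :
    act y v ∈ LS K (Ge lam c) := (Subgroup.mem_iInf.1 hy c).1 v hv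

theorem PL_le_St (lam : Q8 →+ ℝ) : PL K lam ≤ St K lam := fun _ hy =>
  Subgroup.mem_iInf.2 fun c => ⟨fun _ hv => pl_LS hy c hv, fun _ hv => pl_LS (inv_mem hy) c hv⟩

variable (K) in
/-- the elements which move the filtration by one -/
def Rad (lam : Q8 →+ ℝ) : Subgroup (G8 K) where
  carrier := {u | u ∈ St K lam ∧ ∀ c, ∀ v ∈ LS K (Ge lam c), act u v - v ∈ LS K (Ge lam (c + 1))}
  one_mem' := ⟨one_mem _, fun c v _ => by rw [act_one, sub_self]; exact zero_mem _⟩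
  mul_mem' := fun {a b} ha hb => ⟨mul_mem ha.1 hb.1, fun c v hv => by
    have e : act (a * b) v - v = (act a (act b v) - act b v) + (act b v - v) := by rw [act_mul]; abel
    rw [e]
    exact add_mem (ha.2 c _ (St.act hb.1 c hv)) (hb.2 c v hv)⟩
  inv_mem' := fun {a} ha => ⟨inv_mem ha.1, fun c v hv => by
    have e : act a⁻¹ v - v = -(act a (act a⁻¹ v) - act a⁻¹ v) := by rw [act_inv']; abel
    rw [e]
    exact neg_mem (ha.2 c _ (St.act (inv_mem ha.1) c hv))⟩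

theorem Rad.conj {lam : Q8 →+ ℝ} {y u : G8 K} (hy : y ∈ St K lam) (hu : u ∈ Rad K lam) : y * u * y⁻¹ ∈ Rad K lam := by
  refine ⟨mul_mem (mul_mem hy hu.1) (inv_mem hy), fun c v hv => ?_⟩
  have e : act (y * u * y⁻¹) v - v = act y (act u (act y⁻¹ v) - act y⁻¹ v) := by
    rw [act_mul, act_mul, act_sub, act_inv']
  rw [e]
  exact St.act hy _ (hu.2 c _ (St.act (inv_mem hy) c hv))

theorem xr_mem_Rad {lam : Q8 →+ ℝ} {r : Fin chevE8.nroots} (hr : 1 ≤ lam (vec chevE8 8 r)) (t : K) :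
    xr r t ∈ Rad K lam := by
  refine ⟨PL_le_St lam (sp_le_PL lam (xr_mem_Sup (S := SP lam) ⟨Frm.rt_vec r, by linarith⟩ t)), fun c v hv => ?_⟩
  refine act_xr_sub (fun a ha m hm => ?_) t hv
  have h1 := mem_Ge.1 ha
  have h2 : (1 : ℝ) ≤ (m : ℝ) := by exact_mod_cast hm
  rw [mem_Ge, map_add, map_zsmul, zsmul_eq_mul, Int.cast_natCast]
  nlinarith

theorem Rad.nil {lam : Q8 →+ ℝ} {u : G8 K} (hu : u ∈ Rad K lam) (c : ℝ) (N : ℕ) {v : L8 K} (hv : v ∈ LS K (Ge lam c)) :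
    (mx u - 1) ^ N *ᵥ v ∈ LS K (Ge lam (c + N)) := by
  induction N with
  | zero => rwa [pow_zero, Matrix.one_mulVec, Nat.cast_zero, add_zero]
  | succ N ih =>
    rw [pow_succ', ← Matrix.mulVec_mulVec, ← act_sub_self, Nat.cast_succ, ← add_assoc]
    exact hu.2 _ _ ih

theorem Rad.nilpotent {lam : Q8 →+ ℝ} {u : G8 K} (hu : u ∈ Rad K lam) : ∃ N : ℕ, (mx u - 1) ^ N = 0 := by
  obtain ⟨M, hM⟩ := (Set.finite_range fun i : chevE8.Idx => |lam (wt i)|).bddAbove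
  obtain ⟨N, hN⟩ := exists_nat_gt (2 * M)
  refine ⟨N, Matrix.ext fun i j => ?_⟩
  have hj : ee K j ∈ LS K (Ge lam (-M)) := ee_mem_LS (mem_Ge.2 (abs_le.1 (hM ⟨j, rfl⟩)).1)
  have h1 := LS_zero (Rad.nil hu _ N hj) (i := i) fun h => by
    have h2 := mem_Ge.1 h
    have h3 := (abs_le.1 (hM ⟨i, rfl⟩)).2
    linarith
  rwa [mulVec_ee] at h1

theorem mx_pow (u : G8 K) (n : ℕ) : mx (u ^ n) = mx u ^ n := by
  induction n with
  | zero => rw [pow_zero, pow_zero, mx_one]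
  | succ n ih => rw [pow_succ, pow_succ, mx_mul, ih]

theorem Rad.pow (p : ℕ) [Fact p.Prime] [CharP K p] {lam : Q8 →+ ℝ} {u : G8 K} (hu : u ∈ Rad K lam) :
    ∃ k : ℕ, u ^ p ^ k = 1 := by
  obtain ⟨N, hN⟩ := Rad.nilpotent hu
  have : Nonempty chevE8.Idx := ⟨Sum.inl (xi 0)⟩
  refine ⟨N, mx_injective ?_⟩
  have h1 := sub_pow_char_pow_of_commute p N (Commute.one_right (mx u))
  rw [pow_eq_zero_of_le (Nat.lt_pow_self (Fact.out : p.Prime).one_lt).le hN, one_pow] at h1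
  rw [mx_pow, mx_one]
  exact (sub_eq_zero.1 h1.symm)

end Rad

variable {F : Type u} [Field F] [Finite F] {p : ℕ} [Fact p.Prime] [CharP F p] {e : ℕ}

omit [Finite F] in
theorem sg_xr (r : Fin chevE8.nroots) (t : Kb F) : Frm.sg F p e (xr r t) = xr r (t ^ p ^ e) := by
  apply Subtype.ext
  rw [Frm.sg, BpExc.FamInst.phi_frob]
  exact LangThm.frob_xG e8T.inList p e r t

theorem sg_PL {lam : Q8 →+ ℝ} {y : G8 (Kb F)} (hy : y ∈ PL (Kb F) lam) : Frm.sg F p e y ∈ PL (Kb F) lam := by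
  obtain ⟨m, hm, t, ht, rfl⟩ := hy
  refine ⟨_, ?_, _, ((Frm.sg_fr p).tor t).2 ht, map_mul _ _ _⟩
  exact ((Frm.sg_fr p).mem_Sup (S := SP lam) (S' := SP lam) (fun _ ha => ha.1) (fun _ => Iff.rfl) m).2 hm

/-- a stable parabolic subgroup has a split frame -/
theorem exists_split (he0 : 0 < e) {lam : Q8 →+ ℝ} {g : G8 (Kb F)} (hg : g * (Frm.sg F p e g)⁻¹ ∈ PL (Kb F) lam) :
    ∃ z ∈ PL (Kb F) lam, ∃ t ∈ TT chevE8 (Kb F), Frm.IsFrame p e (z * g) t 1 := by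
  obtain ⟨m, hm, t, ht, e1⟩ := hg
  have hr : Rp cs8 (Frm.ns8 (F := F) p) 1 t := rp_of_mem ht
  obtain ⟨z, hz, e2⟩ := lang_fr e8T cs8 he0 (Frm.tau_isFrob t) (Frm.tau_fr hr) (S := SP lam) (fun _ ha => ha.1)
    (fun a ha => by
      show act8 1 a ∈ _
      rwa [act8_one]) hm
  refine ⟨z, sp_le_PL lam hz, t, ht, hr, ?_⟩
  rw [Frm.tau_apply] at e2
  rw [map_mul, _root_.mul_inv_rev, ← mul_assoc, mul_assoc z, e1, e2]
  group

theorem exists_fixed_xr (he0 : 0 < e) {t : G8 (Kb F)} (ht : t ∈ TT chevE8 (Kb F)) (r : Fin chevE8.nroots) :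
    ∃ c : Kb F, c ≠ 0 ∧ Frm.tau p e t (xr r c) = xr r c := by
  obtain ⟨χ, hχ, h⟩ := BNChev.diagonal_conj e8T.inList (Subgroup.mem_subgroupOf.1 ht) r.2
  have hq : 1 < p ^ e := Nat.one_lt_pow he0.ne' (Fact.out : p.Prime).one_lt
  obtain ⟨c, hc⟩ := IsAlgClosed.exists_pow_nat_eq χ⁻¹ (show 0 < p ^ e - 1 by omega)
  have hc0 : c ≠ 0 := fun h0 => by
    rw [h0, zero_pow (by omega)] at hc
    exact inv_ne_zero hχ hc.symm
  refine ⟨c, hc0, ?_⟩
  rw [Frm.tau_apply, sg_xr]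
  apply Subtype.ext
  have e1 : χ * c ^ p ^ e = c := by
    rw [show p ^ e = p ^ e - 1 + 1 by omega, pow_succ, hc, ← mul_assoc, mul_inv_cancel₀ hχ, one_mul]
  have h1 := h (c ^ p ^ e)
  rw [e1] at h1
  exact h1

/-- **parabolic endgame** -/
theorem par_end (he0 : 0 < e) (he : Nat.card F = p ^ e) {lam : Q8 →+ ℝ} {g : G8 (Kb F)}
    (hg : g * (Frm.sg F p e g)⁻¹ ∈ PL (Kb F) lam) {r : Fin chevE8.nroots} (hr : 1 ≤ lam (vec chevE8 8 r)) :
    ∃ R : Subgroup (G8 F), R ≠ ⊥ ∧ IsPGroup p ↥R ∧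
      ∀ h : G8 F, g * emb0 h * g⁻¹ ∈ St (Kb F) lam → ∀ x ∈ R, h * x * h⁻¹ ∈ R := by
  obtain ⟨z, hz, t, ht, fr⟩ := exists_split he0 hg
  refine ⟨(Rad (Kb F) lam).comap (Frm.ee (z * g)), ?_, ?_, ?_⟩
  · obtain ⟨c, hc, hfix⟩ := exists_fixed_xr (p := p) he0 ht r
    obtain ⟨y, hy⟩ := (fr.mem_range he).2 hfix
    intro hb
    have h1 : y ∈ (Rad (Kb F) lam).comap (Frm.ee (z * g) : G8 F →* G8 (Kb F)) := by
      rw [Subgroup.mem_comap, hy]
      exact xr_mem_Rad hr c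
    rw [hb, Subgroup.mem_bot] at h1
    rw [h1, map_one] at hy
    exact hc ((xr_eq_one_iff r c).1 hy.symm)
  · intro x
    obtain ⟨k, hk⟩ := Rad.pow p (Subgroup.mem_comap.1 x.2)
    refine ⟨k, Subtype.ext (Frm.ee_injective (z * g) ?_)⟩
    rw [Subgroup.coe_pow, map_pow, hk, Subgroup.coe_one, map_one]
  · intro h hh x hx
    rw [Subgroup.mem_comap, map_mul, map_mul, map_inv]
    refine Rad.conj ?_ (Subgroup.mem_comap.1 hx)
    have e1 : Frm.ee (z * g) h = z * (g * emb0 h * g⁻¹) * z⁻¹ := by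
      rw [Frm.ee_apply]
      group
    rw [e1]
    exact mul_mem (mul_mem (PL_le_St lam hz) hh) (inv_mem (PL_le_St lam hz))

omit [Finite F] in
theorem frq_ne {v : L8 (Kb F)} {i : chevE8.Idx} [Finite F] (h : v i ≠ 0) : frq v i ≠ 0 := pow_ne_zero _ h

/-- **KEMPF** -/
theorem kempf : KEMPF.{u} := by
  intro F _ _ p _ _ W hW hfr ⟨g₀, hg₀⟩
  obtain ⟨e, he0, he⟩ := Frm.exists_exp (F := F) p
  obtain ⟨g, lam, ho, hd⟩ := exists_opt hg₀
  have d₁ : Dest W ((Frm.sg F p e)⁻¹ g) lam := fun v hv i hi => by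
    have h1 := Frm.act_sg he ((Frm.sg F p e)⁻¹ g) v
    rw [MulAut.apply_inv_self] at h1
    refine ho.1 _ (hfr v hv) i ?_
    rw [h1]
    exact frq_ne hi
  have h1 : g * (Frm.sg F p e g)⁻¹ ∈ PL (Kb F) lam := by
    have := sg_PL (p := p) (e := e) (ho.rel hd d₁)
    rwa [map_mul, MulAut.apply_inv_self, map_inv] at this
  obtain ⟨r, hr⟩ : ∃ r : Fin chevE8.nroots, 1 ≤ lam (vec chevE8 8 r) := by
    obtain ⟨v, hv, hv0⟩ := (Submodule.ne_bot_iff W).1 hW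
    obtain ⟨i, hi⟩ := Function.ne_iff.1 (fun h => hv0 (act_eq_zero h) : act g v ≠ 0)
    have h2 := mem_Ge.1 (ho.1 v hv i hi)
    rcases i with i | r
    · rw [H288.E8L.wt_inl, map_zero] at h2
      linarith
    · exact ⟨r, h2⟩
  obtain ⟨R, hR, hp, hn⟩ := par_end he0 he h1 hr
  refine ⟨R, hR, hp, fun h hh => hn h (PL_le_St lam (ho.rel hd (g₂ := g * emb0 h) fun v hv => ?_))⟩
  rw [act_mul]
  exact ho.1 _ (hh v hv)

end Cfsg.Agent.E8A.Kem
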