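import Cfsg.Agent.E8A.Fix.Line
import Cfsg.Agent.E8A.Fix.Bor
import Cfsg.Agent.E8A.Fix.Kem
import Cfsg.Agent.E8A.Fix.TorRed

/-!
# LINE and FIX, unconditionally (helper43)
-/

set_option autoImplicit false

namespace Cfsg.Agent.E8A

universe u

/-- **LINE** -/
theorem line : LINE.{u} := line_of Bor.borel jord canon Kem.kempf Frm.torus Frm.red2

/-- **FIX** -/
theorem fix : FIX.{u} := fix_of line

end Cfsg.Agent.E8A
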