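import Cfsg.Agent.E8A.Fix.Iface
import Cfsg.Agent.H288.E8L.Brk
import Cfsg.Agent.H942.CB.E8Tor
import Cfsg.Agent.H126.Exc.Gen
import Cfsg.Agent.ChevalleyStructure.BruhatSplit
import Cfsg.Agent.S1095
import Cfsg.Agent.S1100

/-!
# The adjoint module of `E₈` over a field: basic tools, part 1 (helper43)

* `xr r t` : root elements; `ee K i` : basis vectors; `wt i` : weights (`H288.E8L.wt`); `rl v` : the toral part of `v`
  as an additive map on the root lattice (`rl_vec : rl v (vec r) = rv r v`);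
* `LS K A` : the vectors with weights in `A`; `inB_iff`, `inN_iff`, `inT_iff`;
* `xr_entry`, `act_xr_sub`, `act_xr_T`, `act_xr_apply`; `act_TT`; `sup_LS`, `sup_LS_sub` : groups generated by root groups;
* `RepK w n` : `n` represents `w`; `RepK.wt`, `RepK.LS`, `RepK.conj_XX`, `RepK.conj_Sup`; `bruhat`.
-/

set_option autoImplicit false
set_option maxRecDepth 100000

namespace Cfsg.Agent.E8A

open CoxeterSystem Cfsg Cfsg.Lie Cfsg.Lie.ChevalleyDatum Matrix
open Cfsg.Agent.ChevalleyStructure Cfsg.Agent.ChevalleyStructure.Elts Cfsg.Agent.ChevalleyStructure.CoxeterGeom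
  Cfsg.Agent.ChevalleyStructure.CoxeterGeomTypes Cfsg.Agent.ChevalleyStructure.RootVec
  Cfsg.Agent.ChevalleyStructure.RootVecTab Cfsg.Agent.ChevalleyStructure.Ring
open Cfsg.Agent.Tits.Roots Cfsg.Agent.Nodes.Reps Cfsg.Agent.Nodes.BNOf Cfsg.Agent.Nodes.RGDChev
  Cfsg.Agent.Nodes.NormalForm
open Cfsg.Agent.KFacts.RgdChevCoord Cfsg.Agent.H129.TorusChar
open Cfsg.Agent.H942.E8Tab (e8T)
open Cfsg.Agent.H942.CB (W8 cs8)
open Cfsg.Agent.H288.E8L (Q8 wt Rt act8 wt_inl wt_inr rt_vec vec_ne_zero exists_idx wt_inj)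

universe u v

variable {K : Type u} [Field K]

/-! ### indices and roots -/

theorem nroots8 : chevE8.nroots = 240 := rfl

theorem rank8 : chevE8.rank = 8 := rfl

/-- the index of a fundamental root -/
def ix (i : Fin chevE8.rank) : Fin 8 := Fin.cast rank8 i

theorem ix_val (i : Fin chevE8.rank) : (ix i).val = i.val := rfl

/-- the inverse of `ix` -/
def xi (i : Fin 8) : Fin chevE8.rank := Fin.cast rank8.symm i

theorem ix_xi (i : Fin 8) : ix (xi i) = i := rfl

theorem xi_ix (i : Fin chevE8.rank) : xi (ix i) = i := rfl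

theorem vec_injective {r s : Fin chevE8.nroots} (h : vec chevE8 8 r = vec chevE8 8 s) : r = s :=
  Fin.ext (vec_inj e8T r.2 s.2 h)

theorem isPos_iff (r : Fin chevE8.nroots) : chevE8.IsPosRoot r ↔ 120 ≤ r.val := by
  rw [isPosRoot_iff_index e8T.checked r.2]
  have h1 : chevE8.neg r + r + 1 = 240 := neg_add e8T.checked r.2
  omega

theorem isPos_iff_vec (r : Fin chevE8.nroots) : chevE8.IsPosRoot r ↔ 0 ≤ vec chevE8 8 r := by
  rw [isPosRoot_iff e8T.checked]
  exact ⟨fun h i => h.2 i i.2, fun h => ⟨r.2, fun i hi => h ⟨i, hi⟩⟩⟩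

theorem vec_nonneg_iff (r : Fin chevE8.nroots) : 0 ≤ vec chevE8 8 r ↔ 120 ≤ r.val :=
  (isPos_iff_vec r).symm.trans (isPos_iff r)

theorem vec_nonpos_iff (r : Fin chevE8.nroots) : vec chevE8 8 r ≤ 0 ↔ r.val < 120 := by
  rw [← (rt_vec r).not_nonneg_iff, vec_nonneg_iff]
  omega

theorem code_le_of (l : ℕ) : ∀ x y : ℕ, x < 64 ^ l → y < 64 ^ l → (∀ j < l, dig x j ≤ dig y j) → x ≤ y := by
  induction l with
  | zero => intro x y hx hy _; simp at hx; omega
  | succ l ih =>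
    intro x y hx hy h
    have h1 := ih (x / 64) (y / 64) (Nat.div_lt_of_lt_mul (by rw [pow_succ] at hx; omega))
      (Nat.div_lt_of_lt_mul (by rw [pow_succ] at hy; omega)) (fun j hj => by
        rw [← dig_succ, ← dig_succ]; exact h (j + 1) (by omega))
    have h2 := h 0 (by omega)
    rw [dig_zero, dig_zero] at h2
    omega

/-- the order of the indices refines the order of the roots -/
theorem le_of_vec_le {r s : Fin chevE8.nroots} (h : vec chevE8 8 r ≤ vec chevE8 8 s) : r.val ≤ s.val := by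
  by_contra hc
  have h1 := code_strictMono e8T.checked (not_le.1 hc) r.2
  have h2 : code chevE8 r ≤ code chevE8 s := by
    refine code_le_of chevE8.rank _ _ (code_lt _) (code_lt _) fun j hj => ?_
    have hj' : j < 8 := hj
    have h3 := h ⟨7 - j, by omega⟩
    rw [vec_apply, vec_apply, rt_of_lt r.2 (by show 7 - j < 8; omega), rt_of_lt s.2 (by show 7 - j < 8; omega)] at h3
    have h4 : chevE8.rank - 1 - (7 - j) = j := by rw [rank8]; omega
    have h5 : (dig (code chevE8 r) (chevE8.rank - 1 - (7 - j)) : ℤ) - 8 ≤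
      (dig (code chevE8 s) (chevE8.rank - 1 - (7 - j)) : ℤ) - 8 := h3
    rw [h4] at h5
    omega
  omega

/-! ### root elements, basis vectors -/

/-- the root element `x_r(t)` -/
def xr (r : Fin chevE8.nroots) (t : K) : G8 K := ⟨xG e8T.inList r t, xG_mem_group _ _ _⟩

theorem mx_xr (r : Fin chevE8.nroots) (t : K) : mx (xr r t) = chevE8.x K r t := rfl

theorem xr_add (r : Fin chevE8.nroots) (s t : K) : xr r s * xr r t = xr r (s + t) := Subtype.ext (xG_add e8T.inList _ _ _)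

theorem xr_zero (r : Fin chevE8.nroots) : xr r (0 : K) = 1 := Subtype.ext (xG_zero e8T.inList _)

theorem xr_inv (r : Fin chevE8.nroots) (t : K) : (xr r t)⁻¹ = xr r (-t) := Subtype.ext (xG_inv e8T.inList _ _)

theorem xr_eq_one_iff (r : Fin chevE8.nroots) (t : K) : xr r t = 1 ↔ t = 0 := by
  rw [← xG_eq_one_iff e8T.inList r.2 t]
  exact Subtype.ext_iff

theorem xr_eq_xc (r : Fin chevE8.nroots) (t : K) : xr r t = xc e8T (vec chevE8 8 r) t :=
  Subtype.ext (coe_xc e8T r.2 t).symm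

theorem mem_XX_iff {r : Fin chevE8.nroots} {g : G8 K} : g ∈ XX chevE8 8 K (vec chevE8 8 r) ↔ ∃ t, g = xr r t := by
  rw [Subgroup.mem_subgroupOf, XV_vec e8T K r.2, mem_rootSubgroup_iff e8T.inList]
  exact ⟨fun ⟨t, h⟩ => ⟨t, Subtype.ext h⟩, fun ⟨t, h⟩ => ⟨t, congrArg Subtype.val h⟩⟩

theorem xr_mem_XX (r : Fin chevE8.nroots) (t : K) : xr r t ∈ XX chevE8 8 K (vec chevE8 8 r) := mem_XX_iff.2 ⟨t, rfl⟩

theorem xr_mem_Sup {S : Set Q8} {r : Fin chevE8.nroots} (h : vec chevE8 8 r ∈ S) (t : K) :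
    xr r t ∈ RGD.Sup (XX chevE8 8 K) S := RGD.le_Sup h (xr_mem_XX r t)

/-- a subgroup which contains the root elements of a set of roots -/
theorem sup_le_of {S : Set Q8} (hS : ∀ a ∈ S, Rt a) {P : Subgroup (G8 K)}
    (h : ∀ r : Fin chevE8.nroots, vec chevE8 8 r ∈ S → ∀ t : K, xr r t ∈ P) : RGD.Sup (XX chevE8 8 K) S ≤ P := by
  refine RGD.Sup_le fun a ha g hg => ?_
  obtain ⟨r, rfl⟩ := exists_idx (hS a ha)
  obtain ⟨t, rfl⟩ := mem_XX_iff.1 hg
  exact h r ha t

/-- a subgroup which contains all root elements -/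
theorem eq_top_of_xr {P : Subgroup (G8 K)} (h : ∀ (r : Fin chevE8.nroots) (t : K), xr r t ∈ P) : P = ⊤ := by
  rw [eq_top_iff]
  intro g _
  have h1 : chevE8.group K ≤ P.map (chevE8.group K).subtype :=
    (group_le_iff e8T.inList _).2 fun r hr t => ⟨xr ⟨r, hr⟩ t, h _ _, rfl⟩
  obtain ⟨y, hy, e⟩ := h1 g.2
  rw [← Subtype.ext e]
  exact hy

variable (K) in
/-- the basis vectors -/
def ee (i : chevE8.Idx) : L8 K := Pi.single i 1

theorem ee_apply (i j : chevE8.Idx) : ee K i j = if j = i then 1 else 0 := by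
  unfold ee
  rw [Pi.single_apply]

theorem ee_self (i : chevE8.Idx) : ee K i i = 1 := by rw [ee_apply, if_pos rfl]

theorem ee_ne {i j : chevE8.Idx} (h : j ≠ i) : ee K i j = 0 := by rw [ee_apply, if_neg h]

theorem act_apply (g : G8 K) (v : L8 K) (i : chevE8.Idx) : act g v i = ∑ j, mx g i j * v j := rfl

theorem mulVec_ee (A : Matrix chevE8.Idx chevE8.Idx K) (j i : chevE8.Idx) : (A *ᵥ ee K j) i = A i j := by
  unfold ee
  rw [Matrix.mulVec_single_one, Matrix.col_apply]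

theorem act_ee (g : G8 K) (j i : chevE8.Idx) : act g (ee K j) i = mx g i j := mulVec_ee _ _ _

theorem act_sub (g : G8 K) (v w : L8 K) : act g (v - w) = act g v - act g w := Matrix.mulVec_sub _ _ _

theorem act_injective (g : G8 K) : Function.Injective (act g) := fun v w h => by
  rw [← act_inv g v, h, act_inv]

theorem act_eq_zero {g : G8 K} {v : L8 K} (h : act g v = 0) : v = 0 := act_injective g (h.trans (act_zero g).symm)

theorem mx_mul (g h : G8 K) : mx (g * h) = mx g * mx h := rfl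

theorem mx_one : mx (1 : G8 K) = 1 := rfl

theorem mx_mul_inv (g : G8 K) : mx g * mx g⁻¹ = 1 := by rw [← mx_mul, mul_inv_cancel, mx_one]

theorem mx_inv_mul (g : G8 K) : mx g⁻¹ * mx g = 1 := by rw [← mx_mul, inv_mul_cancel, mx_one]

theorem mx_injective : Function.Injective (mx : G8 K → _) := fun _ _ h => Subtype.ext (Units.ext h)

theorem exists_ne_of_mulVec {A : Matrix chevE8.Idx chevE8.Idx K} {v : L8 K} {i : chevE8.Idx} (h : (A *ᵥ v) i ≠ 0) :
    ∃ j, A i j ≠ 0 ∧ v j ≠ 0 := by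
  obtain ⟨j, -, hj⟩ := Finset.exists_ne_zero_of_sum_ne_zero (s := Finset.univ) (f := fun j => A i j * v j) h
  exact ⟨j, left_ne_zero_of_mul hj, right_ne_zero_of_mul hj⟩

/-! ### the toral part -/

/-- the toral part of `v` as an additive map on the root lattice -/
def rl (v : L8 K) : Q8 →+ K where
  toFun a := ∑ i : Fin chevE8.rank, ((pairing (cartanOf chevE8 8) (ix i) a : ℤ) : K) * v (Sum.inl i)
  map_zero' := by simp [pairing]
  map_add' a b := by
    rw [← Finset.sum_add_distrib]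
    refine Finset.sum_congr rfl fun i _ => ?_
    rw [pairing_add, Int.cast_add, add_mul]

theorem rl_apply (v : L8 K) (a : Q8) :
    rl v a = ∑ i : Fin chevE8.rank, ((pairing (cartanOf chevE8 8) (ix i) a : ℤ) : K) * v (Sum.inl i) := rfl

theorem rv_def (r : Fin chevE8.nroots) (v : L8 K) :
    rv r v = ∑ i : Fin chevE8.rank, ((chevE8.cartan i r : ℤ) : K) * v (Sum.inl i) := rfl

theorem rl_vec (v : L8 K) (r : Fin chevE8.nroots) : rl v (vec chevE8 8 r) = rv r v := by
  rw [rl_apply, rv_def]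
  refine Finset.sum_congr rfl fun i _ => ?_
  rw [pairing_vec e8T (ix i) r.2, ix_val]

theorem rl_congr {v w : L8 K} (h : ∀ i, v (Sum.inl i) = w (Sum.inl i)) : rl v = rl w := by
  refine AddMonoidHom.ext fun a => ?_
  rw [rl_apply, rl_apply]
  exact Finset.sum_congr rfl fun i _ => by rw [h]

theorem rl_add (v w : L8 K) (a : Q8) : rl (v + w) a = rl v a + rl w a := by
  rw [rl_apply, rl_apply, rl_apply, ← Finset.sum_add_distrib]
  exact Finset.sum_congr rfl fun i _ => by rw [Pi.add_apply, mul_add]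

theorem rl_smul (c : K) (v : L8 K) (a : Q8) : rl (c • v) a = c * rl v a := by
  rw [rl_apply, rl_apply, Finset.mul_sum]
  exact Finset.sum_congr rfl fun i _ => by rw [Pi.smul_apply, smul_eq_mul]; ring

theorem rl_neg (v : L8 K) (a : Q8) : rl (-v) a = -rl v a := by
  rw [← neg_one_smul K v, rl_smul]; ring

theorem rl_sub (v w : L8 K) (a : Q8) : rl (v - w) a = rl v a - rl w a := by
  rw [sub_eq_add_neg, rl_add, rl_neg, sub_eq_add_neg]

theorem tp_inl (v : L8 K) (i : Fin chevE8.rank) : tp v (Sum.inl i) = v (Sum.inl i) := rfl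

theorem tp_inr (v : L8 K) (r : Fin chevE8.nroots) : tp v (Sum.inr r) = 0 := rfl

theorem inT_tp (v : L8 K) : InT (tp v) := fun _ => rfl

theorem tp_of_inT {v : L8 K} (h : InT v) : tp v = v := by
  funext i
  rcases i with i | r
  · rfl
  · exact (h r).symm

theorem rl_tp (v : L8 K) : rl (tp v) = rl v := rl_congr fun _ => rfl

theorem rv_tp (r : Fin chevE8.nroots) (v : L8 K) : rv r (tp v) = rv r v := rfl

theorem tp_add (v w : L8 K) : tp (v + w) = tp v + tp w := by
  funext i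
  rcases i with i | r
  · rfl
  · exact (add_zero (0 : K)).symm

theorem tp_smul (c : K) (v : L8 K) : tp (c • v) = c • tp v := by
  funext i
  rcases i with i | r
  · rfl
  · exact (mul_zero c).symm

theorem tp_neg (v : L8 K) : tp (-v) = -tp v := by rw [← neg_one_smul K v, tp_smul, neg_one_smul]

theorem additive_ext {f g : Q8 →+ K} (h : ∀ i, f (sr i) = g (sr i)) : f = g := by
  refine AddMonoidHom.ext fun a => ?_
  rw [IsMC.eq_sum_sr a, map_sum, map_sum]
  exact Finset.sum_congr rfl fun i _ => by rw [map_zsmul, map_zsmul, h]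

theorem rl_sr (v : L8 K) (j : Fin 8) :
    rl v (sr j) = ∑ i : Fin 8, ((cartanOf chevE8 8 i j : ℤ) : K) * v (Sum.inl (xi i)) := by
  rw [rl_apply]
  refine Finset.sum_congr rfl fun i _ => ?_
  congr 2
  unfold pairing
  rw [Finset.sum_eq_single j]
  · rw [sr_self, mul_one]; rfl
  · intro k _ hk
    rw [sr_ne hk, mul_zero]
  · intro hj
    exact absurd (Finset.mem_univ j) hj

/-- the inverse of the Cartan matrix -/
def B8 : Fin 8 → Fin 8 → ℤ := ![![4, 5, 7, 10, 8, 6, 4, 2], ![5, 8, 10, 15, 12, 9, 6, 3], ![7, 10, 14, 20, 16, 12, 8, 4],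
  ![10, 15, 20, 30, 24, 18, 12, 6], ![8, 12, 16, 24, 20, 15, 10, 5], ![6, 9, 12, 18, 15, 12, 8, 4],
  ![4, 6, 8, 12, 10, 8, 6, 3], ![2, 3, 4, 6, 5, 4, 3, 2]]

theorem B8_left : ∀ m i : Fin 8, ∑ j, B8 m j * cartanOf chevE8 8 j i = if m = i then 1 else 0 := invC_E8

theorem B8_right : ∀ m i : Fin 8, ∑ j, cartanOf chevE8 8 m j * B8 j i = if m = i then 1 else 0 := by decide +kernel

/-- the toral part is determined by the values of the roots -/
theorem inl_eq_of_rl (v : L8 K) (i : Fin 8) : v (Sum.inl (xi i)) = ∑ j, rl v (sr j) * ((B8 j i : ℤ) : K) := by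
  have h1 : ∀ j, rl v (sr j) * ((B8 j i : ℤ) : K) =
      ∑ m : Fin 8, ((cartanOf chevE8 8 m j * B8 j i : ℤ) : K) * v (Sum.inl (xi m)) := by
    intro j
    rw [rl_sr, Finset.sum_mul]
    exact Finset.sum_congr rfl fun m _ => by push_cast; ring
  simp_rw [h1]
  rw [Finset.sum_comm]
  have h2 : ∀ m : Fin 8, ∑ j, ((cartanOf chevE8 8 m j * B8 j i : ℤ) : K) * v (Sum.inl (xi m)) =
      if m = i then v (Sum.inl (xi m)) else 0 := by
    intro m
    rw [← Finset.sum_mul, ← Int.cast_sum, B8_right]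
    split_ifs <;> simp
  simp_rw [h2]
  rw [Finset.sum_ite_eq' Finset.univ i, if_pos (Finset.mem_univ _)]

theorem tp_eq_of_rl {v w : L8 K} (h : ∀ i, rl v (sr i) = rl w (sr i)) : tp v = tp w := by
  funext i
  rcases i with i | r
  · rw [tp_inl, tp_inl, ← xi_ix i, inl_eq_of_rl v, inl_eq_of_rl w]
    exact Finset.sum_congr rfl fun j _ => by rw [h]
  · rfl

theorem inT_ext {v w : L8 K} (hv : InT v) (hw : InT w) (h : ∀ i, rl v (sr i) = rl w (sr i)) : v = w := by
  rw [← tp_of_inT hv, ← tp_of_inT hw]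
  exact tp_eq_of_rl h

/-- every additive map on the root lattice comes from the Cartan subalgebra -/
theorem exists_rl (f : Q8 →+ K) : ∃ h : L8 K, InT h ∧ rl h = f := by
  refine ⟨Sum.elim (fun i => ∑ m, ((B8 m (ix i) : ℤ) : K) * f (sr m)) (fun _ => 0), fun _ => rfl,
    additive_ext fun j => ?_⟩
  rw [rl_sr]
  have h1 : ∀ i : Fin 8, ((cartanOf chevE8 8 i j : ℤ) : K) * ∑ m, ((B8 m i : ℤ) : K) * f (sr m) =
      ∑ m, ((B8 m i * cartanOf chevE8 8 i j : ℤ) : K) * f (sr m) := by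
    intro i
    rw [Finset.mul_sum]
    exact Finset.sum_congr rfl fun m _ => by push_cast; ring
  show ∑ i : Fin 8, ((cartanOf chevE8 8 i j : ℤ) : K) * ∑ m, ((B8 m i : ℤ) : K) * f (sr m) = _
  simp_rw [h1]
  rw [Finset.sum_comm]
  have h2 : ∀ m : Fin 8, ∑ i, ((B8 m i * cartanOf chevE8 8 i j : ℤ) : K) * f (sr m) =
      if m = j then f (sr m) else 0 := by
    intro m
    rw [← Finset.sum_mul, ← Int.cast_sum, B8_left]
    split_ifs <;> simp
  simp_rw [h2]
  rw [Finset.sum_ite_eq' Finset.univ j, if_pos (Finset.mem_univ _)]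

/-! ### supports -/

variable (K) in
/-- the vectors whose weights lie in `A` -/
def LS (A : Set Q8) : Submodule K (L8 K) where
  carrier := {v | ∀ i, v i ≠ 0 → wt i ∈ A}
  zero_mem' := fun _ h => absurd rfl h
  add_mem' := fun {v w} hv hw i h => by
    by_cases h1 : v i = 0
    · refine hw i fun h2 => h ?_
      rw [Pi.add_apply, h1, h2, add_zero]
    · exact hv i h1
  smul_mem' := fun c v hv i h => hv i (right_ne_zero_of_mul h)

theorem mem_LS {A : Set Q8} {v : L8 K} : v ∈ LS K A ↔ ∀ i, v i ≠ 0 → wt i ∈ A := Iff.rfl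

theorem LS_mono {A A' : Set Q8} (h : A ⊆ A') : LS K A ≤ LS K A' := fun _ hv i hi => h (hv i hi)

theorem LS_zero {A : Set Q8} {v : L8 K} (hv : v ∈ LS K A) {i : chevE8.Idx} (hi : wt i ∉ A) : v i = 0 := by
  by_contra h
  exact hi (hv i h)

theorem ee_mem_LS {A : Set Q8} {i : chevE8.Idx} (h : wt i ∈ A) : ee K i ∈ LS K A := by
  intro j hj
  by_cases e : j = i
  · rw [e]; exact h
  · exact absurd (ee_ne e) hj

theorem eq_zero_of_LS {A A' : Set Q8} {v : L8 K} (h : v ∈ LS K A) (h' : v ∈ LS K A') (hd : ∀ a ∈ A, a ∉ A') : v = 0 := by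
  funext i
  by_contra hi
  exact hd _ (h i hi) (h' i hi)

theorem inB_iff {v : L8 K} : InB v ↔ v ∈ LS K {a | 0 ≤ a} := by
  constructor
  · intro h i hi
    rcases i with i | r
    · exact le_refl (0 : Q8)
    · refine (vec_nonneg_iff r).2 ?_
      by_contra hc
      exact hi (h r (by omega))
  · intro h r hr
    refine LS_zero h fun h1 => ?_
    have := (vec_nonneg_iff r).1 h1
    omega

theorem inN_iff {v : L8 K} : InN v ↔ v ∈ LS K {a | 0 ≤ a ∧ a ≠ 0} := by
  constructor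
  · rintro ⟨h1, h2⟩ i hi
    refine ⟨inB_iff.1 h1 i hi, ?_⟩
    rcases i with i | r
    · exact absurd (h2 i) hi
    · exact vec_ne_zero r
  · intro h
    exact ⟨inB_iff.2 (LS_mono (fun a ha => ha.1) h), fun i => LS_zero h fun h1 => h1.2 rfl⟩

theorem inT_iff {v : L8 K} : InT v ↔ v ∈ LS K {0} := by
  constructor
  · intro h i hi
    rcases i with i | r
    · rfl
    · exact absurd (h r) hi
  · intro h r
    exact LS_zero h fun h1 => vec_ne_zero r h1

/-- a matrix whose entries respect a relation between the weights -/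
theorem mulVec_LS {A A' : Set Q8} {M : Matrix chevE8.Idx chevE8.Idx K}
    (h : ∀ i j, M i j ≠ 0 → wt j ∈ A → wt i ∈ A') {v : L8 K} (hv : v ∈ LS K A) : M *ᵥ v ∈ LS K A' := by
  intro i hi
  obtain ⟨j, h1, h2⟩ := exists_ne_of_mulVec hi
  exact h i j h1 (hv j h2)

/-! ### the action of the root elements -/

open Polynomial in
theorem xr_entry (r : Fin chevE8.nroots) (i k : chevE8.Idx) : ∃ (c : ℤ) (m : ℕ),
    (c ≠ 0 → wt i = wt k + (m : ℤ) • vec chevE8 8 r) ∧ (m = 0 → c = if i = k then 1 else 0) ∧ (i = k → m = 0) ∧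
    ∀ (R : Type v) [CommRing R] (t : R), xR chevE8 R r t i k = (c : R) * t ^ m := by
  obtain ⟨c, m, h1, h2, h3, h4⟩ := Cfsg.Agent.H288.E8L.entry r i k
  refine ⟨c, m, h1, h2, h3, fun R _ t => ?_⟩
  have h5 : xR chevE8 ℤ[X] r.val X i k = (c : ℤ[X]) * X ^ m := by
    rw [← h4 ℤ[X] X]
    unfold xR
    rw [dif_pos r.2]
  rw [xR_apply_eq_eval₂, h5, eval₂_mul, eval₂_pow, eval₂_X, ← C_eq_intCast, eval₂_C]
  rfl

theorem xr_sub_entry (r : Fin chevE8.nroots) (t : K) {i k : chevE8.Idx} (h : (mx (xr r t) - 1) i k ≠ 0) :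
    ∃ m : ℕ, 1 ≤ m ∧ wt i = wt k + (m : ℤ) • vec chevE8 8 r := by
  obtain ⟨c, m, h1, h2, h3, h4⟩ := xr_entry.{u} r i k
  have h5 : mx (xr r t) i k = (c : K) * t ^ m := h4 K t
  rw [Matrix.sub_apply, h5, Matrix.one_apply] at h
  by_cases hm : m = 0
  · exfalso
    apply h
    rw [h2 hm, hm]
    split_ifs <;> simp
  · refine ⟨m, Nat.one_le_iff_ne_zero.2 hm, h1 ?_⟩
    rintro rfl
    apply h
    rw [if_neg fun e => hm (h3 e)]
    simp

theorem act_sub_self (g : G8 K) (v : L8 K) : act g v - v = (mx g - 1) *ᵥ v := by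
  rw [Matrix.sub_mulVec, Matrix.one_mulVec]
  rfl

theorem act_xr_sub {A A' : Set Q8} {r : Fin chevE8.nroots}
    (h : ∀ a ∈ A, ∀ m : ℕ, 1 ≤ m → a + (m : ℤ) • vec chevE8 8 r ∈ A') (t : K) {v : L8 K} (hv : v ∈ LS K A) :
    act (xr r t) v - v ∈ LS K A' := by
  rw [act_sub_self]
  refine mulVec_LS (fun i j hij hj => ?_) hv
  obtain ⟨m, hm, e⟩ := xr_sub_entry r t hij
  rw [e]
  exact h _ hj m hm

theorem add_nsmul_mem {A : Set Q8} {b : Q8} (h : ∀ a ∈ A, a + b ∈ A) {a : Q8} (ha : a ∈ A) (m : ℕ) :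
    a + (m : ℤ) • b ∈ A := by
  induction m with
  | zero => simpa using ha
  | succ m ih =>
    have e : a + ((m + 1 : ℕ) : ℤ) • b = a + (m : ℤ) • b + b := by
      push_cast
      rw [add_smul, one_smul, add_assoc]
    rw [e]
    exact h _ ih

theorem act_xr_LS {A : Set Q8} {r : Fin chevE8.nroots} (h : ∀ a ∈ A, a + vec chevE8 8 r ∈ A) (t : K) {v : L8 K}
    (hv : v ∈ LS K A) : act (xr r t) v ∈ LS K A := by
  have h1 := act_xr_sub (A' := A) (fun a ha m _ => add_nsmul_mem h ha m) t hv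
  have h2 := add_mem h1 hv
  rwa [sub_add_cancel] at h2

/-- the action on the Cartan subalgebra -/
theorem act_xr_T (r : Fin chevE8.nroots) (t : K) {h : L8 K} (hh : InT h) :
    act (xr r t) h = h - (rv r h * t) • ee K (Sum.inr r) := by
  funext i
  rw [act_apply, Fintype.sum_sum_type, Pi.sub_apply, Pi.smul_apply, smul_eq_mul]
  have h0 : ∑ s : Fin chevE8.nroots, mx (xr r t) i (Sum.inr s) * h (Sum.inr s) = 0 :=
    Finset.sum_eq_zero fun s _ => by rw [hh s, mul_zero]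
  rw [h0, add_zero]
  rcases i with i | s
  · rw [ee_ne (by simp), mul_zero, sub_zero, Finset.sum_eq_single i]
    · rw [mx_xr, NBlock.x_inl_inl r.2, if_pos rfl, one_mul]
    · intro j _ hj
      rw [mx_xr, NBlock.x_inl_inl r.2, if_neg (Ne.symm hj), zero_mul]
    · intro hi
      exact absurd (Finset.mem_univ i) hi
  · rw [hh s, zero_sub, ee_apply, rv_def]
    by_cases e : s = r
    · rw [if_pos (congrArg Sum.inr e), mul_one, Finset.sum_mul, ← Finset.sum_neg_distrib]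
      refine Finset.sum_congr rfl fun j _ => ?_
      rw [mx_xr, NBlock.x_inr_inl r.2, if_pos e]
      ring
    · rw [if_neg fun e' => e (Sum.inr.inj e'), mul_zero, neg_zero]
      refine Finset.sum_eq_zero fun j _ => ?_
      rw [mx_xr, NBlock.x_inr_inl r.2, if_neg e, zero_mul]

/-- the stabilizer of a subspace -/
def stabL (W : Submodule K (L8 K)) : Subgroup (G8 K) where
  carrier := {g | (∀ v ∈ W, act g v ∈ W) ∧ ∀ v ∈ W, act g⁻¹ v ∈ W}
  one_mem' := ⟨fun v hv => by rwa [act_one], fun v hv => by rwa [inv_one, act_one]⟩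
  mul_mem' := fun {a b} ha hb => ⟨fun v hv => by rw [act_mul]; exact ha.1 _ (hb.1 v hv),
    fun v hv => by rw [_root_.mul_inv_rev, act_mul]; exact hb.2 _ (ha.2 v hv)⟩
  inv_mem' := fun {a} ha => ⟨ha.2, by rw [inv_inv]; exact ha.1⟩

theorem mem_stabL {W : Submodule K (L8 K)} {g : G8 K} :
    g ∈ stabL W ↔ (∀ v ∈ W, act g v ∈ W) ∧ ∀ v ∈ W, act g⁻¹ v ∈ W := Iff.rfl

/-- groups generated by root groups preserve `LS A` -/
theorem sup_LS {S A : Set Q8} (hS : ∀ a ∈ S, Rt a) (h : ∀ a ∈ A, ∀ b ∈ S, a + b ∈ A) {u : G8 K}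
    (hu : u ∈ RGD.Sup (XX chevE8 8 K) S) {v : L8 K} (hv : v ∈ LS K A) : act u v ∈ LS K A := by
  have h1 : RGD.Sup (XX chevE8 8 K) S ≤ stabL (LS K A) := sup_le_of hS fun r hr t =>
    ⟨fun v hv => act_xr_LS (fun a ha => h a ha _ hr) t hv,
      fun v hv => by rw [xr_inv]; exact act_xr_LS (fun a ha => h a ha _ hr) _ hv⟩
  exact (h1 hu).1 v hv

/-- groups generated by root groups move `LS A` into `LS A'` -/
theorem sup_LS_sub {S A A' : Set Q8} (hS : ∀ a ∈ S, Rt a) (h : ∀ a ∈ A, ∀ b ∈ S, a + b ∈ A')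
    (h' : ∀ a ∈ A', ∀ b ∈ S, a + b ∈ A') {u : G8 K} (hu : u ∈ RGD.Sup (XX chevE8 8 K) S) {v : L8 K}
    (hv : v ∈ LS K A) : act u v - v ∈ LS K A' := by
  let P : Subgroup (G8 K) :=
    { carrier := {g | g ∈ stabL (LS K A') ∧ act g v - v ∈ LS K A'}
      one_mem' := ⟨one_mem _, by rw [act_one, sub_self]; exact zero_mem _⟩
      mul_mem' := fun {a b} ha hb => ⟨mul_mem ha.1 hb.1, by
        have e : act (a * b) v - v = act a (act b v - v) + (act a v - v) := by
          rw [act_mul, act_sub]; abel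
        rw [e]
        exact add_mem (ha.1.1 _ hb.2) ha.2⟩
      inv_mem' := fun {a} ha => ⟨inv_mem ha.1, by
        have e : act a⁻¹ v - v = -act a⁻¹ (act a v - v) := by
          rw [act_sub, act_inv]; abel
        rw [e]
        exact neg_mem (ha.1.2 _ ha.2)⟩ }
  have h1 : RGD.Sup (XX chevE8 8 K) S ≤ P := sup_le_of hS fun r hr t =>
    ⟨⟨fun v hv => act_xr_LS (fun a ha => h' a ha _ hr) t hv,
      fun v hv => by rw [xr_inv]; exact act_xr_LS (fun a ha => h' a ha _ hr) _ hv⟩,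
      act_xr_sub (fun a ha m hm => by
        obtain ⟨m, rfl⟩ := Nat.exists_eq_add_of_le hm
        have e : a + ((1 + m : ℕ) : ℤ) • vec chevE8 8 r = a + vec chevE8 8 r + (m : ℤ) • vec chevE8 8 r := by
          push_cast
          rw [add_smul, one_smul, add_assoc]
        rw [e]
        exact add_nsmul_mem (fun a ha => h' a ha _ hr) (h a ha _ hr) m) t hv⟩
  exact (h1 hu).2

/-! ### the torus -/

theorem mx_TT {t : G8 K} (ht : t ∈ TT chevE8 K) : mx t = Matrix.diagonal fun i => cX e8T t (wt i) := by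
  have h := Cfsg.Agent.H942.CB.TT_diag' e8T ht
  show ((t : GL chevE8.Idx K) : Matrix chevE8.Idx chevE8.Idx K) = _
  rw [h]
  congr 1
  funext i
  rcases i with i | s
  · exact (isMC_cX e8T ht).zero.symm
  · rfl

theorem act_TT {t : G8 K} (ht : t ∈ TT chevE8 K) (v : L8 K) (i : chevE8.Idx) : act t v i = cX e8T t (wt i) * v i := by
  unfold act
  rw [mx_TT ht, Matrix.mulVec_diagonal]

theorem act_TT_LS {t : G8 K} (ht : t ∈ TT chevE8 K) {A : Set Q8} {v : L8 K} (hv : v ∈ LS K A) : act t v ∈ LS K A :=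
  fun i hi => hv i fun h => hi (by rw [act_TT ht, h, mul_zero])

theorem act_TT_T {t : G8 K} (ht : t ∈ TT chevE8 K) {h : L8 K} (hh : InT h) : act t h = h := by
  funext i
  rw [act_TT ht]
  rcases i with i | r
  · rw [wt_inl, (isMC_cX e8T ht).zero, one_mul]
  · rw [hh r, mul_zero]

/-! ### representatives of the Weyl group -/

variable (K) in
theorem nsysK : NSys CoxeterMatrix.E₈ (TT chevE8 K) (nc e8T K) where
  norm i := by
    rw [Subgroup.mem_normalizer_iff]
    intro t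
    exact Subgroup.mem_normalizer_iff.1 ((nsys (K := K) e8T).norm i) (t : GL chevE8.Idx K)
  rel i j := (nsys (K := K) e8T).rel i j

/-- `n` represents `w` -/
abbrev RepK (w : W8) (n : G8 K) : Prop := Rp cs8 (nsysK K) w n

theorem repK_ind {P : W8 → G8 K → Prop} (hT : ∀ t ∈ TT chevE8 K, P 1 t)
    (hs : ∀ i w n, RepK w n → P w n → P (cs8.simple i * w) (nc e8T K i * n)) : ∀ w n, RepK w n → P w n := by
  intro w
  induction w using cs8.simple_induction_left with
  | one => exact fun n hn => hT n hn.mem_of_one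
  | mul_simple_left w i ih =>
    intro n hn
    have h1 : RepK w ((nc e8T K i)⁻¹ * n) := by
      have h2 := (rp_simple cs8 (nsysK K) i).inv.mul hn
      rwa [inv_mul_cancel_left] at h2
    have h3 := hs i w _ h1 (ih _ h1)
    rwa [mul_inv_cancel_left] at h3

theorem act8_mul (v w : W8) (a : Q8) : act8 (v * w) a = act8 v (act8 w a) := by
  show rep cs8 e8T.isCartan (v * w) a = _
  rw [map_mul]
  rfl

theorem act8_one (a : Q8) : act8 1 a = a := by
  show rep cs8 e8T.isCartan 1 a = _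
  rw [map_one]
  rfl

theorem act8_zero (w : W8) : act8 w 0 = 0 := map_zero (rep cs8 e8T.isCartan w)

theorem act8_add (w : W8) (a b : Q8) : act8 w (a + b) = act8 w a + act8 w b := map_add (rep cs8 e8T.isCartan w) a b

theorem act8_neg (w : W8) (a : Q8) : act8 w (-a) = -act8 w a := map_neg (rep cs8 e8T.isCartan w) a

theorem act8_inv_act (w : W8) (a : Q8) : act8 w⁻¹ (act8 w a) = a := rep_inv_apply cs8 e8T.isCartan w a

theorem act8_act_inv (w : W8) (a : Q8) : act8 w (act8 w⁻¹ a) = a := rep_apply_inv cs8 e8T.isCartan w a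

theorem nc_wt (i : Fin 8) {a b : chevE8.Idx} (h : mx (nc e8T K i) a b ≠ 0) : wt a = act8 (cs8.simple i) (wt b) := by
  obtain ⟨η, -, -, -, -, e⟩ := Cfsg.Agent.S1095.result (F := K) chevE8 e8T.inList i i.2
  have e1 : mx (nc e8T K i) = chevE8.nMat K (chevE8.simple i) 1 := coe_nG _ _ _
  rw [e1, e, Matrix.of_apply] at h
  rcases a with a | a <;> rcases b with b | b
  · rw [wt_inl, wt_inl, act8_zero]
  · exact absurd rfl h
  · exact absurd rfl h
  · have h1 : (a : ℕ) = chevE8.reflectRoot i b := by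
      by_contra hc
      exact h (if_neg hc)
    rw [wt_inr, wt_inr, h1]
    exact (rep_vec e8T cs8 i b.2).symm

theorem RepK.wt {w : W8} {n : G8 K} (hn : RepK w n) {a b : chevE8.Idx} (h : mx n a b ≠ 0) : wt a = act8 w (wt b) := by
  refine repK_ind (P := fun w n => ∀ a b, mx n a b ≠ 0 → H288.E8L.wt a = act8 w (H288.E8L.wt b)) ?_ ?_ w n hn a b h
  · intro t ht a b h
    rw [mx_TT ht] at h
    rw [act8_one]
    by_contra hc
    exact h (Matrix.diagonal_apply_ne _ fun e => hc (by rw [e]))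
  · intro i w n _ ih a b h
    rw [mx_mul, Matrix.mul_apply] at h
    obtain ⟨c, -, hc⟩ := Finset.exists_ne_zero_of_sum_ne_zero h
    rw [act8_mul, ← ih c b (right_ne_zero_of_mul hc)]
    exact nc_wt i (left_ne_zero_of_mul hc)

theorem RepK.LS {w : W8} {n : G8 K} (hn : RepK w n) {A A' : Set Q8} (h : ∀ a ∈ A, act8 w a ∈ A') {v : L8 K}
    (hv : v ∈ LS K A) : act n v ∈ LS K A' :=
  mulVec_LS (fun i j hij hj => by rw [RepK.wt hn hij]; exact h _ hj) hv

theorem RepK.inT {w : W8} {n : G8 K} (hn : RepK w n) {h : L8 K} (hh : InT h) : InT (act n h) :=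
  inT_iff.2 (RepK.LS hn (fun a ha => by rw [Set.mem_singleton_iff.1 ha]; exact act8_zero w) (inT_iff.1 hh))

theorem RepK.conj_XX {w : W8} {n : G8 K} (hn : RepK w n) {a : Q8} (ha : Rt a) {x : G8 K} (hx : x ∈ XX chevE8 8 K a) :
    n * x * n⁻¹ ∈ XX chevE8 8 K (act8 w a) := by
  refine repK_ind (P := fun w n => n * x * n⁻¹ ∈ XX chevE8 8 K (act8 w a)) ?_ ?_ w n hn
  · intro t ht
    obtain ⟨r, rfl⟩ := exists_idx ha
    rw [act8_one, Subgroup.mem_subgroupOf, ← cj_tor e8T ht r.2]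
    exact conj_mem_cj.2 hx
  · intro i w n _ ih
    obtain ⟨r, hr⟩ := exists_idx (ha.act w)
    have e : nc e8T K i * n * x * (nc e8T K i * n)⁻¹ = nc e8T K i * (n * x * n⁻¹) * (nc e8T K i)⁻¹ := by group
    have hr' : act8 w a = vec chevE8 8 r := hr.symm
    rw [e, act8_mul, hr']
    rw [hr'] at ih
    have e2 : act8 (cs8.simple i) (vec chevE8 8 r) = vec chevE8 8 (chevE8.reflectRoot i r) := rep_vec e8T cs8 i r.2
    rw [e2, Subgroup.mem_subgroupOf, ← cj_nn e8T i r.2]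
    exact conj_mem_cj.2 ih

theorem RepK.conj_Sup {w : W8} {n : G8 K} (hn : RepK w n) {S S' : Set Q8} (hS : ∀ a ∈ S, Rt a)
    (h : ∀ a ∈ S, act8 w a ∈ S') {u : G8 K} (hu : u ∈ RGD.Sup (XX chevE8 8 K) S) :
    n * u * n⁻¹ ∈ RGD.Sup (XX chevE8 8 K) S' := by
  have h1 : RGD.Sup (XX chevE8 8 K) S ≤ (RGD.Sup (XX chevE8 8 K) S').comap (MulAut.conj n).toMonoidHom :=
    RGD.Sup_le fun a ha x hx => RGD.le_Sup (h a ha) (RepK.conj_XX hn (hS a ha) hx)
  exact h1 hu

theorem exists_repK {n : G8 K} (hn : (n : GL chevE8.Idx K) ∈ chevE8.monomialSubgroup K) : ∃ w, RepK w n := by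
  have h1 : chevE8.monomialSubgroup K ≤ (NN cs8 (nsysK K)).map (chevE8.group K).subtype := by
    rw [NPerm.monomial_eq e8T.inList K]
    refine sup_le ((Subgroup.closure_le _).2 ?_) fun t ht => ?_
    · rintro _ ⟨i, hi, rfl⟩
      exact ⟨nc e8T K ⟨i, hi⟩, ⟨_, rp_simple cs8 (nsysK K) _⟩, rfl⟩
    · exact ⟨⟨t, diagonal_le_group e8T.inList K ht⟩, ⟨1, rp_of_mem ht⟩, rfl⟩
  obtain ⟨y, hy, e⟩ := h1 hn
  rw [← Subtype.ext e]
  exact hy

/-- the positive roots -/
abbrev Pos8 : Set Q8 := RGD.Pos cs8 e8T.isCartan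

variable (K) in
/-- the group `U` -/
abbrev U8 : Subgroup (G8 K) := RGD.Sup (XX chevE8 8 K) Pos8

theorem mem_U8 {u : G8 K} : u ∈ U8 K ↔ (u : GL chevE8.Idx K) ∈ chevE8.posUnipotent K :=
  Cfsg.Agent.H126.Exc.mem_upos e8T

/-- **Bruhat decomposition** -/
theorem bruhat (g : G8 K) : ∃ u ∈ U8 K, ∃ w n, RepK w n ∧
    ∃ u' ∈ RGD.Sup (XX chevE8 8 K) (NW cs8 e8T.isCartan w), g = u * n * u' := by
  obtain ⟨b, hb, n, hn, u', hu', e⟩ := (Cfsg.Agent.S1100.result (F := K) chevE8 e8T.inList).1 g g.2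
  have hnG := monomial_le_group e8T.inList K hn
  have huG := posUnipotent_le_group e8T.inList K (BruhatSplit.Um_le n hu')
  have hbG : b ∈ chevE8.group K := by
    have e1 : b = g * u'⁻¹ * n⁻¹ := by rw [e]; group
    rw [e1]
    exact mul_mem (mul_mem g.2 (inv_mem huG)) (inv_mem hnG)
  obtain ⟨w, hw⟩ := exists_repK (n := ⟨n, hnG⟩) hn
  obtain ⟨u, hu, t, ht, e2⟩ := Cfsg.Agent.H126.Exc.borel_form e8T (y := ⟨b, hbG⟩) hb
  refine ⟨u, mem_U8.2 hu, w, t * ⟨n, hnG⟩, ?_, ⟨u', huG⟩, ?_, ?_⟩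
  · have h1 := (rp_of_mem (cs := cs8) (hN := nsysK K) ht).mul hw
    rwa [one_mul] at h1
  · have h1 : BruhatSplit.Um K chevE8 n ≤
        (RGD.Sup (XX chevE8 8 K) (NW cs8 e8T.isCartan w)).map (chevE8.group K).subtype := by
      refine (Subgroup.closure_le _).2 ?_
      rintro x ⟨r, t, hr, hle, hx⟩
      refine ⟨xr ⟨r, hr.1⟩ t, xr_mem_Sup (S := NW cs8 e8T.isCartan w)
        ⟨rt_vec _, (isPos_iff_vec ⟨r, hr.1⟩).1 hr, ?_⟩ t, Units.ext hx.symm⟩
      obtain ⟨s, hs⟩ := exists_idx ((rt_vec ⟨r, hr.1⟩).act w)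
      rw [← ((rt_vec ⟨r, hr.1⟩).act w).not_nonneg_iff]
      intro h0
      have h2 := RepK.conj_XX hw (rt_vec ⟨r, hr.1⟩) (xr_mem_XX _ (1 : K))
      have h3 : (⟨n, hnG⟩ * xr ⟨r, hr.1⟩ (1 : K) * (⟨n, hnG⟩ : G8 K)⁻¹ : G8 K) ∈ U8 K :=
        RGD.le_Sup (S := Pos8) ⟨(rt_vec ⟨r, hr.1⟩).act w, h0⟩ h2
      have h4 := BruhatSplit.eq_one_of_pos_of_neg e8T.inList (mem_U8.1 h3)
        (hle ⟨_, xG_mem_rootSubgroup e8T.inList r (1 : K), rfl⟩)
      have h5 : xG e8T.inList r (1 : K) = 1 := by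
        have h6 : n * xG e8T.inList r (1 : K) * n⁻¹ = 1 := h4
        rwa [mul_inv_eq_one, mul_eq_left] at h6
      exact one_ne_zero ((xG_eq_one_iff e8T.inList hr.1 (1 : K)).1 h5)
    obtain ⟨y, hy, e3⟩ := h1 hu'
    rw [← Subtype.ext (a2 := (⟨u', huG⟩ : G8 K)) e3]
    exact hy
  · apply Subtype.ext
    have e3 : b = (u : GL chevE8.Idx K) * t := congrArg Subtype.val e2
    show (g : GL chevE8.Idx K) = u * (t * n) * u'
    rw [e, e3, mul_assoc (u : GL chevE8.Idx K)]

end Cfsg.Agent.E8A
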