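import Cfsg.Agent.E8A.Defs

/-!
# A maximal subgroup of `E₈(q)` which stabilizes a line of the adjoint module: the boxes (helper13)

See `notes/E8A/fix.md` for the proofs.
-/

set_option autoImplicit false

namespace Cfsg.Agent.E8A

open Cfsg Cfsg.Lie Module
open Cfsg.Agent.H952.F4 (MaxAlt)

universe u

/-- **BOREL**: every vector is conjugate into the Borel subalgebra. -/
def BOREL : Prop := ∀ (K : Type u) [Field K] [IsAlgClosed K] (v : L8 K), ∃ g : G8 K, InB (act g v)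

/-- **JORD**: Jordan form inside the Borel subalgebra. -/
def JORD : Prop := ∀ (K : Type u) [Field K] (v : L8 K), InB v → ∃ g : G8 K, Jor (act g v)

/-- **CANON**: the toral part of a vector in Jordan form is canonical. -/
def CANON : Prop := ∀ (K : Type u) [Field K] (x x' : L8 K) (y : G8 K), Jor x → Jor x' → act y x = x' →
  act y (tp x) = tp x'

/-- **KEMPF**: a rational subspace inside the nilradical of a Borel subalgebra has a canonical `p`-subgroup. -/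
def KEMPF : Prop := ∀ (F : Type u) [Field F] [Finite F] (p : ℕ) [Fact p.Prime] [CharP F p]
  (W : Submodule (Kb F) (L8 (Kb F))), W ≠ ⊥ → (∀ w ∈ W, frq w ∈ W) → (∃ g : G8 (Kb F), ∀ w ∈ W, InN (act g w)) →
  ∃ R : Subgroup (G8 F), R ≠ ⊥ ∧ IsPGroup p ↥R ∧
    ∀ h : G8 F, (∀ w ∈ W, act (emb0 h) w ∈ W) → ∀ x ∈ R, h * x * h⁻¹ ∈ R

/-- **TORUS**: the stabilizer of a semisimple vector contains a maximal torus. -/
def TORUS : Prop := ∀ (F : Type u) [Field F] [Finite F] (p : ℕ) [Fact p.Prime] [CharP F p] (v : L8 F),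
  (∃ g : G8 (Kb F), InT (act g (mp0 v))) →
  ∃ S : Subgroup (G8 F), S ≤ stab v ∧ (∀ x ∈ S, ∀ y ∈ S, x * y = y * x) ∧ (Nat.card F - 1) ^ 8 ≤ Nat.card ↥S

/-- **RED2**: semisimple vectors over the field with two elements. -/
def RED2 : Prop := ∀ (F : Type u) [Field F] [Finite F], Nat.card F = 2 → ∀ (v : L8 F), v ≠ 0 →
  (∃ g : G8 (Kb F), InT (act g (mp0 v))) →
  (∃ Z : Subgroup (G8 F), Z ≠ ⊥ ∧ Z ≤ stab v ∧ (∀ x ∈ Z, ∀ y ∈ Z, x * y = y * x) ∧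
    ∀ h ∈ stab v, ∀ x ∈ Z, h * x * h⁻¹ ∈ Z) ∨
  31 ∣ Nat.card ↥(stab v) ∨ 127 ∣ Nat.card ↥(stab v) ∨
  ∃ v' : L8 F, v' ≠ 0 ∧ stab v ≤ stab v' ∧ 2 ^ 24 ∣ Nat.card ↥(stab v')

/-- **LINE**: the general result (for other projects too): a maximal subgroup which stabilizes a line, acting by signs. -/
def LINE : Prop := ∀ (F : Type u) [Field F] [Finite F] (p : ℕ) [Fact p.Prime] [CharP F p] (H : Subgroup (G8 F)),
  IsCoatom H → ∀ v : L8 F, v ≠ 0 → (∀ h ∈ H, act h v = v ∨ act h v = -v) →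
  (∃ R : Subgroup (G8 F), R ≠ ⊥ ∧ R ≤ H ∧ (IsPGroup p ↥R ∨ ∀ x ∈ R, ∀ y ∈ R, x * y = y * x) ∧
    ∀ h ∈ H, ∀ x ∈ R, h * x * h⁻¹ ∈ R) ∨
  (Nat.card F ≠ 2 ∧ ∃ S : Subgroup (G8 F), S ≤ H ∧ (∀ x ∈ S, ∀ y ∈ S, x * y = y * x) ∧
    (Nat.card F - 1) ^ 8 ≤ Nat.card ↥S) ∨
  (Nat.card F = 2 ∧ (31 ∣ Nat.card ↥H ∨ 127 ∣ Nat.card ↥H ∨ 2 ^ 24 ∣ Nat.card ↥H))

/-- **FIX**: the alternating group has no fixed vector. -/
def FIX : Prop := ∀ (F : Type u) [Field F] [Finite F] (H : Subgroup (G8 F)) (n : ℕ)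
  (φ : ↥(alternatingGroup (Fin n)) →* G8 F), MaxAlt H n φ → 5 ≤ n → n ≤ 18 → (Nat.card F = 3 → n ≤ 13) →
  ∀ v : L8 F, (∀ a, act (φ a) v = v) → v = 0

end Cfsg.Agent.E8A
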