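import Cfsg.Agent.E8A.Fix.Basic
import Cfsg.Agent.E8A.Fix.FrmTor

/-!
# Optimal cocharacters (helper41)

`lam : Q8 →+ ℝ` a real cocharacter.

* `nrm` : an invariant positive definite quadratic form; `Dm` : dominance; `Ge lam c` : the weights `a` with `c ≤ lam a`;
* `Dest W g lam` : `g W` has only weights `a` with `1 ≤ lam a`; `Opt W g lam` : and the norm is minimal;
* `exists_opt` : a dominant optimal pair exists;
* `PL lam` : the parabolic subgroup; `Opt.rel` : two optimal pairs with the same dominant `lam` differ by an element of `PL lam`.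
-/

set_option autoImplicit false
set_option maxRecDepth 100000

namespace Cfsg.Agent.E8A.Kem

open CoxeterSystem Cfsg Cfsg.Lie Matrix
open Cfsg.Agent.ChevalleyStructure Cfsg.Agent.ChevalleyStructure.Elts Cfsg.Agent.ChevalleyStructure.CoxeterGeom
  Cfsg.Agent.ChevalleyStructure.CoxeterGeomTypes
open Cfsg.Agent.Tits.Roots Cfsg.Agent.Nodes.Reps Cfsg.Agent.Nodes.BNOf Cfsg.Agent.Nodes.RGDChev
  Cfsg.Agent.Nodes.NormalForm
open Cfsg.Agent.KFacts.RgdChevCoord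
open Cfsg.Agent.H942.E8Tab (e8T)
open Cfsg.Agent.H288.E8L (wt act8)

universe u

/-! ### cocharacters -/

/-- the translate of a cocharacter -/
noncomputable def cw (lam : Q8 →+ ℝ) (w : W8) : Q8 →+ ℝ := lam.comp (rp8 w).toAddMonoidHom

theorem cw_apply (lam : Q8 →+ ℝ) (w : W8) (a : Q8) : cw lam w a = lam (act8 w a) := rfl

/-- the norm -/
noncomputable def nrm (lam : Q8 →+ ℝ) : ℝ :=
  haveI : Fintype W8 := Fintype.ofFinite W8
  ∑ w : W8, ∑ i : Fin 8, lam (act8 w (sr i)) ^ 2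

theorem nrm_cw (lam : Q8 →+ ℝ) (v : W8) : nrm (cw lam v) = nrm lam := by
  let _ : Fintype W8 := Fintype.ofFinite W8
  show ∑ w : W8, ∑ i : Fin 8, cw lam v (act8 w (sr i)) ^ 2 = ∑ w : W8, ∑ i : Fin 8, lam (act8 w (sr i)) ^ 2
  rw [← Equiv.sum_comp (Equiv.mulLeft v) fun w => ∑ i : Fin 8, lam (act8 w (sr i)) ^ 2]
  refine Finset.sum_congr rfl fun w _ => Finset.sum_congr rfl fun i _ => ?_
  rw [cw_apply, Equiv.coe_mulLeft, act8_mul]

theorem sq_le_nrm (lam : Q8 →+ ℝ) (i : Fin 8) : lam (sr i) ^ 2 ≤ nrm lam := by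
  let _ : Fintype W8 := Fintype.ofFinite W8
  show _ ≤ ∑ w : W8, ∑ i : Fin 8, lam (act8 w (sr i)) ^ 2
  refine le_trans ?_ (Finset.single_le_sum (f := fun w : W8 => ∑ i : Fin 8, lam (act8 w (sr i)) ^ 2)
    (fun w _ => Finset.sum_nonneg fun _ _ => sq_nonneg _) (Finset.mem_univ 1))
  refine le_trans ?_ (Finset.single_le_sum (f := fun i : Fin 8 => lam (act8 1 (sr i)) ^ 2)
    (fun _ _ => sq_nonneg _) (Finset.mem_univ i))
  rw [act8_one]

theorem nrm_mid (l₁ l₂ : Q8 →+ ℝ) :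
    nrm ((1 / 2 : ℝ) • (l₁ + l₂)) = (nrm l₁ + nrm l₂) / 2 - nrm (l₁ - l₂) / 4 := by
  let _ : Fintype W8 := Fintype.ofFinite W8
  show ∑ w : W8, ∑ i : Fin 8, ((1 / 2 : ℝ) • (l₁ + l₂)) (act8 w (sr i)) ^ 2 =
    (∑ w : W8, ∑ i : Fin 8, l₁ (act8 w (sr i)) ^ 2 + ∑ w : W8, ∑ i : Fin 8, l₂ (act8 w (sr i)) ^ 2) / 2 -
      (∑ w : W8, ∑ i : Fin 8, (l₁ - l₂) (act8 w (sr i)) ^ 2) / 4
  rw [← Finset.sum_add_distrib, Finset.sum_div, Finset.sum_div, ← Finset.sum_sub_distrib]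
  refine Finset.sum_congr rfl fun w _ => ?_
  rw [← Finset.sum_add_distrib, Finset.sum_div, Finset.sum_div, ← Finset.sum_sub_distrib]
  refine Finset.sum_congr rfl fun i _ => ?_
  rw [AddMonoidHom.smul_apply, AddMonoidHom.add_apply, AddMonoidHom.sub_apply, smul_eq_mul]
  ring

theorem eq_of_nrm {l₁ l₂ : Q8 →+ ℝ} (h : nrm (l₁ - l₂) ≤ 0) : l₁ = l₂ := by
  refine Frm.hom_ext fun i => ?_
  have h1 := (sq_le_nrm (l₁ - l₂) i).trans h
  rw [AddMonoidHom.sub_apply] at h1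
  have h2 : l₁ (sr i) - l₂ (sr i) = 0 := pow_eq_zero_iff (two_ne_zero) |>.1 (le_antisymm h1 (sq_nonneg _))
  exact sub_eq_zero.1 h2

/-- the cocharacter with given values on the fundamental roots -/
noncomputable def mk (x : Fin 8 → ℝ) : Q8 →+ ℝ :=
  AddMonoidHom.mk' (fun a => ∑ i, (a i : ℝ) * x i) fun a b => by
    rw [← Finset.sum_add_distrib]
    refine Finset.sum_congr rfl fun i _ => ?_
    rw [Pi.add_apply, Int.cast_add, add_mul]

theorem mk_apply (x : Fin 8 → ℝ) (a : Q8) : mk x a = ∑ i, (a i : ℝ) * x i := rfl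

theorem mk_sr (x : Fin 8 → ℝ) (i : Fin 8) : mk x (sr i) = x i := by
  rw [mk_apply, Finset.sum_eq_single i]
  · rw [sr_self, Int.cast_one, one_mul]
  · intro j _ hj
    rw [sr_ne hj, Int.cast_zero, zero_mul]
  · intro h
    exact absurd (Finset.mem_univ i) h

theorem mk_eq (lam : Q8 →+ ℝ) : mk (fun i => lam (sr i)) = lam := Frm.hom_ext fun i => mk_sr _ i

theorem continuous_mk (a : Q8) : Continuous fun x : Fin 8 → ℝ => mk x a := by
  simp only [mk_apply]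
  fun_prop

theorem continuous_nrm : Continuous fun x : Fin 8 → ℝ => nrm (mk x) := by
  let _ : Fintype W8 := Fintype.ofFinite W8
  show Continuous fun x : Fin 8 → ℝ => ∑ w : W8, ∑ i : Fin 8, mk x (act8 w (sr i)) ^ 2
  exact continuous_finsetSum _ fun w _ => continuous_finsetSum _ fun i _ => (continuous_mk _).pow 2

/-- dominance -/
def Dm (lam : Q8 →+ ℝ) : Prop := ∀ i, 0 ≤ lam (sr i)

theorem Dm.nonneg {lam : Q8 →+ ℝ} (h : Dm lam) {a : Q8} (ha : 0 ≤ a) : 0 ≤ lam a := by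
  rw [← mk_eq lam, mk_apply]
  exact Finset.sum_nonneg fun i _ => mul_nonneg (Int.cast_nonneg_iff.2 (ha i)) (h i)

theorem Dm.nonpos {lam : Q8 →+ ℝ} (h : Dm lam) {a : Q8} (ha : a ≤ 0) : lam a ≤ 0 := by
  have := h.nonneg (neg_nonneg.2 ha)
  rw [map_neg] at this
  exact neg_nonneg.1 this

/-- half the sum of the positive roots -/
def rho : Q8 := ![46, 68, 91, 135, 110, 84, 57, 29]

theorem pairing_rho : ∀ i : Fin 8, pairing (cartanOf chevE8 8) i rho = 1 := by decide +kernel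

theorem act8_simple (i : Fin 8) (a : Q8) : act8 (cs8.simple i) a = a - pairing (cartanOf chevE8 8) i a • sr i :=
  rep_simple_eq cs8 e8T.isCartan i a

theorem exists_dm (lam : Q8 →+ ℝ) : ∃ w, Dm (cw lam w) := by
  obtain ⟨w, hw⟩ := Finite.exists_max fun w : W8 => lam (act8 w rho)
  refine ⟨w, fun i => ?_⟩
  have h := hw (w * cs8.simple i)
  rw [act8_mul, act8_simple, pairing_rho, one_smul, ← cw_apply, ← cw_apply, map_sub] at h
  linarith

/-- the weights above a level -/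
def Ge (lam : Q8 →+ ℝ) (c : ℝ) : Set Q8 := {a | c ≤ lam a}

theorem mem_Ge {lam : Q8 →+ ℝ} {c : ℝ} {a : Q8} : a ∈ Ge lam c ↔ c ≤ lam a := Iff.rfl

/-- the roots of the parabolic subgroup -/
def SP (lam : Q8 →+ ℝ) : Set Q8 := {a | Rt a ∧ 0 ≤ lam a}

variable {K : Type u} [Field K]

theorem sp_LS {lam : Q8 →+ ℝ} {m : G8 K} (hm : m ∈ RGD.Sup (XX chevE8 8 K) (SP lam)) (c : ℝ) {v : L8 K}
    (hv : v ∈ LS K (Ge lam c)) : act m v ∈ LS K (Ge lam c) := by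
  refine sup_LS (S := SP lam) (fun _ ha => ha.1) (fun a ha b hb => ?_) hm hv
  rw [mem_Ge, map_add]
  have h1 := mem_Ge.1 ha
  have h2 := hb.2
  linarith

theorem Dm.U_le {lam : Q8 →+ ℝ} (h : Dm lam) : U8 K ≤ RGD.Sup (XX chevE8 8 K) (SP lam) :=
  RGD.Sup_mono fun _ ha => ⟨ha.1, h.nonneg ha.2⟩

theorem rep_LS {lam : Q8 →+ ℝ} {w : W8} {n : G8 K} (hn : RepK w n) (c : ℝ) {v : L8 K} (hv : v ∈ LS K (Ge lam c)) :
    act n⁻¹ v ∈ LS K (Ge (cw lam w) c) := by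
  refine RepK.LS (w := w⁻¹) (Rp.inv hn) (fun a ha => ?_) hv
  rw [mem_Ge, cw_apply, act8_act_inv]
  exact ha

/-! ### optimal pairs -/

/-- destabilizing pairs -/
def Dest (W : Submodule K (L8 K)) (g : G8 K) (lam : Q8 →+ ℝ) : Prop := ∀ v ∈ W, act g v ∈ LS K (Ge lam 1)

/-- optimal pairs -/
def Opt (W : Submodule K (L8 K)) (g : G8 K) (lam : Q8 →+ ℝ) : Prop :=
  Dest W g lam ∧ ∀ g' lam', Dest W g' lam' → nrm lam ≤ nrm lam'

theorem dest_of_inN {W : Submodule K (L8 K)} {g : G8 K} (hg : ∀ v ∈ W, InN (act g v)) : Dest W g (mk fun _ => 1) := by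
  intro v hv
  refine LS_mono (fun a ha => ?_) (inN_iff.1 (hg v hv))
  obtain ⟨i, hi⟩ : ∃ i, a i ≠ 0 := by
    by_contra h
    push Not at h
    exact ha.2 (funext h)
  have h1 : (1 : ℤ) ≤ a i := by
    have : (0 : ℤ) ≤ a i := ha.1 i
    omega
  rw [mem_Ge, mk_apply]
  refine le_trans ?_ (Finset.single_le_sum (f := fun j => (a j : ℝ) * 1)
    (fun j _ => mul_nonneg (Int.cast_nonneg_iff.2 (ha.1 j)) zero_le_one) (Finset.mem_univ i))
  rw [mul_one]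
  exact_mod_cast h1

theorem isClosed_dest (W : Submodule K (L8 K)) : IsClosed {x : Fin 8 → ℝ | ∃ g, Dest W g (mk x)} := by
  have e : {x : Fin 8 → ℝ | ∃ g, Dest W g (mk x)} =
      ⋃ S ∈ {S : Set chevE8.Idx | ∃ g : G8 K, ∀ v ∈ W, ∀ i, act g v i ≠ 0 → i ∈ S},
        ⋂ i ∈ S, {x : Fin 8 → ℝ | 1 ≤ mk x (wt i)} := by
    ext x
    simp only [Set.mem_ofPred_eq, Set.mem_iUnion, Set.mem_iInter]
    constructor
    · rintro ⟨g, hg⟩
      exact ⟨{i | 1 ≤ mk x (wt i)}, ⟨g, fun v hv i hi => hg v hv i hi⟩, fun i hi => hi⟩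
    · rintro ⟨S, ⟨g, hg⟩, hx⟩
      exact ⟨g, fun v hv i hi => hx i (hg v hv i hi)⟩
  rw [e]
  exact (Set.toFinite _).isClosed_biUnion fun S _ =>
    isClosed_biInter fun i _ => isClosed_le continuous_const (continuous_mk _)

theorem exists_opt' {W : Submodule K (L8 K)} {g₀ : G8 K} {x₀ : Fin 8 → ℝ} (h₀ : Dest W g₀ (mk x₀)) :
    ∃ g lam, Opt W g lam := by
  set c := nrm (mk x₀) with hc
  set C : Set (Fin 8 → ℝ) := {x | ∃ g, Dest W g (mk x)} ∩ {x | nrm (mk x) ≤ c} with hC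
  have hcl : IsClosed C := (isClosed_dest W).inter (isClosed_le continuous_nrm continuous_const)
  have hsub : C ⊆ Set.Icc (fun _ => -(c + 1)) (fun _ => c + 1) := by
    rintro x ⟨-, hx⟩
    have h1 : ∀ i, x i ^ 2 ≤ c := fun i => by
      have := sq_le_nrm (mk x) i
      rw [mk_sr] at this
      exact this.trans hx
    constructor
    · intro i
      show -(c + 1) ≤ x i
      nlinarith [h1 i, sq_nonneg (x i + 1), sq_nonneg (x i)]
    · intro i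
      show x i ≤ c + 1
      nlinarith [h1 i, sq_nonneg (x i - 1), sq_nonneg (x i)]
  have hcp : IsCompact C := isCompact_Icc.of_isClosed_subset hcl hsub
  obtain ⟨x, ⟨⟨g, hg⟩, hx⟩, hmin⟩ := hcp.exists_isMinOn ⟨x₀, ⟨g₀, h₀⟩, hc.ge⟩ continuous_nrm.continuousOn
  refine ⟨g, mk x, hg, fun g' lam' h' => ?_⟩
  by_cases hl : nrm lam' ≤ c
  · have h2 : (fun i => lam' (sr i)) ∈ C := ⟨⟨g', by rwa [mk_eq]⟩, by show nrm (mk _) ≤ c; rwa [mk_eq]⟩
    have h3 : nrm (mk x) ≤ nrm (mk fun i => lam' (sr i)) := hmin h2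
    rwa [mk_eq] at h3
  · exact le_trans hx (not_le.1 hl).le

theorem Opt.of_dest {W : Submodule K (L8 K)} {g g' : G8 K} {lam lam' : Q8 →+ ℝ} (h : Opt W g lam) (h' : Dest W g' lam')
    (e : nrm lam' = nrm lam) : Opt W g' lam' := ⟨h', fun g'' lam'' h'' => e ▸ h.2 g'' lam'' h''⟩

theorem Dest.rep {W : Submodule K (L8 K)} {g : G8 K} {lam : Q8 →+ ℝ} (h : Dest W g lam) {w : W8} {n : G8 K}
    (hn : RepK w n) : Dest W (n⁻¹ * g) (cw lam w) := fun v hv => by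
  rw [act_mul]
  exact rep_LS hn 1 (h v hv)

theorem Dest.sp {W : Submodule K (L8 K)} {g : G8 K} {lam : Q8 →+ ℝ} (h : Dest W g lam) {m : G8 K}
    (hm : m ∈ RGD.Sup (XX chevE8 8 K) (SP lam)) : Dest W (m * g) lam := fun v hv => by
  rw [act_mul]
  exact sp_LS hm 1 (h v hv)

theorem exists_opt {W : Submodule K (L8 K)} {g₀ : G8 K} (h₀ : ∀ v ∈ W, InN (act g₀ v)) :
    ∃ g lam, Opt W g lam ∧ Dm lam := by
  obtain ⟨g, lam, h⟩ := exists_opt' (dest_of_inN h₀)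
  obtain ⟨w, hw⟩ := exists_dm lam
  obtain ⟨n, hn⟩ := exists_rp cs8 (nsysK K) w
  exact ⟨n⁻¹ * g, cw lam w, h.of_dest (h.1.rep hn) (nrm_cw lam w), hw⟩

theorem Opt.unique {W : Submodule K (L8 K)} {g : G8 K} {l₁ l₂ : Q8 →+ ℝ} (h₁ : Opt W g l₁) (h₂ : Opt W g l₂) : l₁ = l₂ := by
  have hm : Dest W g ((1 / 2 : ℝ) • (l₁ + l₂)) := fun v hv i hi => by
    have e₁ := mem_Ge.1 (h₁.1 v hv i hi)
    have e₂ := mem_Ge.1 (h₂.1 v hv i hi)
    rw [mem_Ge, AddMonoidHom.smul_apply, AddMonoidHom.add_apply, smul_eq_mul]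
    linarith
  have e₁ := h₁.2 _ _ hm
  have e₂ := h₂.2 _ _ hm
  rw [nrm_mid] at e₁ e₂
  exact eq_of_nrm (by linarith)

/-! ### the parabolic subgroup -/

theorem conj_sp {lam : Q8 →+ ℝ} {t m : G8 K} (ht : t ∈ TT chevE8 K) (hm : m ∈ RGD.Sup (XX chevE8 8 K) (SP lam)) :
    t * m * t⁻¹ ∈ RGD.Sup (XX chevE8 8 K) (SP lam) :=
  RepK.conj_Sup (w := 1) (rp_of_mem ht) (fun _ ha => ha.1) (fun a ha => by rwa [act8_one]) hm

variable (K) in
/-- the parabolic subgroup of a cocharacter -/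
def PL (lam : Q8 →+ ℝ) : Subgroup (G8 K) where
  carrier := {y | ∃ m ∈ RGD.Sup (XX chevE8 8 K) (SP lam), ∃ t ∈ TT chevE8 K, y = m * t}
  one_mem' := ⟨1, one_mem _, 1, one_mem _, (one_mul _).symm⟩
  mul_mem' := by
    rintro _ _ ⟨m, hm, t, ht, rfl⟩ ⟨m', hm', t', ht', rfl⟩
    exact ⟨m * (t * m' * t⁻¹), mul_mem hm (conj_sp ht hm'), t * t', mul_mem ht ht', by group⟩
  inv_mem' := by
    rintro _ ⟨m, hm, t, ht, rfl⟩
    exact ⟨t⁻¹ * m⁻¹ * t⁻¹⁻¹, conj_sp (inv_mem ht) (inv_mem hm), t⁻¹, inv_mem ht, by group⟩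

theorem mem_PL {lam : Q8 →+ ℝ} {y : G8 K} :
    y ∈ PL K lam ↔ ∃ m ∈ RGD.Sup (XX chevE8 8 K) (SP lam), ∃ t ∈ TT chevE8 K, y = m * t := Iff.rfl

theorem sp_le_PL (lam : Q8 →+ ℝ) : RGD.Sup (XX chevE8 8 K) (SP lam) ≤ PL K lam :=
  fun m hm => ⟨m, hm, 1, one_mem _, (mul_one _).symm⟩

theorem TT_le_PL (lam : Q8 →+ ℝ) : TT chevE8 K ≤ PL K lam :=
  fun t ht => ⟨1, one_mem _, t, ht, (one_mul _).symm⟩

theorem pl_LS {lam : Q8 →+ ℝ} {y : G8 K} (hy : y ∈ PL K lam) (c : ℝ) {v : L8 K} (hv : v ∈ LS K (Ge lam c)) :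
    act y v ∈ LS K (Ge lam c) := by
  obtain ⟨m, hm, t, ht, rfl⟩ := hy
  rw [act_mul]
  exact sp_LS hm c (act_TT_LS ht hv)

theorem nc_mem {S : Set Q8} {i : Fin 8} (h : sr i ∈ S) (h' : -sr i ∈ S) : nc e8T K i ∈ RGD.Sup (XX chevE8 8 K) S := by
  have h1 : ∀ t : K, (⟨xG e8T.inList (chevE8.simple i) t, xG_mem_group _ _ _⟩ : G8 K) ∈ RGD.Sup (XX chevE8 8 K) S :=
    fun t => RGD.le_Sup h (by
      rw [Subgroup.mem_subgroupOf, XV_sr e8T]
      exact xG_mem_rootSubgroup e8T.inList _ _)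
  have h2 : ∀ t : K, (⟨xG e8T.inList (chevE8.neg (chevE8.simple i)) t, xG_mem_group _ _ _⟩ : G8 K) ∈
      RGD.Sup (XX chevE8 8 K) S :=
    fun t => RGD.le_Sup h' (by
      rw [Subgroup.mem_subgroupOf, XV_neg_sr e8T]
      exact xG_mem_rootSubgroup e8T.inList _ _)
  have e : nc e8T K i = (⟨xG e8T.inList (chevE8.simple i) 1, xG_mem_group _ _ _⟩ : G8 K) *
      (⟨xG e8T.inList (chevE8.neg (chevE8.simple i)) (-1⁻¹), xG_mem_group _ _ _⟩ *
        ⟨xG e8T.inList (chevE8.simple i) 1, xG_mem_group _ _ _⟩) := Subtype.ext (nG_def e8T.inList _ _)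
  rw [e]
  exact mul_mem (h1 _) (mul_mem (h2 _) (h1 _))

theorem rep_mem_PL {lam : Q8 →+ ℝ} (hd : Dm lam) : ∀ (k : ℕ) (w : W8) (n : G8 K), cs8.length w = k → RepK w n →
    cw lam w = lam → n ∈ PL K lam := by
  intro k
  induction k using Nat.strong_induction_on with
  | _ k ih =>
    intro w n hk hn hw
    by_cases h1 : w = 1
    · subst h1
      exact TT_le_PL lam (Rp.mem_of_one hn)
    · obtain ⟨i, hi⟩ := cs8.exists_rightDescent_of_ne_one h1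
      have hneg : act8 w (sr i) ≤ 0 := nonpos_of_lt cs8 e8T.isCartan w i hi
      have h0 : lam (sr i) = 0 := by
        refine le_antisymm ?_ (hd i)
        rw [← hw, cw_apply]
        exact hd.nonpos hneg
      have hw' : cw lam (w * cs8.simple i) = lam := by
        refine AddMonoidHom.ext fun a => ?_
        rw [cw_apply, act8_mul, ← cw_apply, hw, act8_simple, map_sub, map_zsmul, h0, smul_zero, sub_zero]
      have hn' : RepK (w * cs8.simple i) (n * nc e8T K i) := Rp.mul hn (rp_simple cs8 (nsysK K) i)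
      have h2 := ih _ (hk ▸ hi) _ _ rfl hn' hw'
      have h3 : nc e8T K i ∈ PL K lam := sp_le_PL lam (nc_mem ⟨isRoot_sr cs8 e8T.isCartan i, h0.ge⟩
        ⟨(isRoot_sr cs8 e8T.isCartan i).neg, by rw [map_neg, h0, neg_zero]⟩)
      simpa using mul_mem h2 (inv_mem h3)

/-- **the parabolic subgroup is canonical** -/
theorem Opt.rel {W : Submodule K (L8 K)} {g₁ g₂ : G8 K} {lam : Q8 →+ ℝ} (hd : Dm lam) (h₁ : Opt W g₁ lam)
    (h₂ : Dest W g₂ lam) : g₂ * g₁⁻¹ ∈ PL K lam := by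
  obtain ⟨u, hu, w, n, hn, u', hu', e⟩ := bruhat (g₂ * g₁⁻¹)
  have hu1 : u ∈ RGD.Sup (XX chevE8 8 K) (SP lam) := hd.U_le hu
  have hu2 : u' ∈ RGD.Sup (XX chevE8 8 K) (SP lam) :=
    RGD.Sup_mono (S' := SP lam) (fun _ ha => ⟨ha.1, hd.nonneg ha.2.1⟩) hu'
  have d₁ : Dest W (u' * g₁) lam := h₁.1.sp hu2
  have d₂ : Dest W (n⁻¹ * (u⁻¹ * g₂)) (cw lam w) := (h₂.sp (inv_mem hu1)).rep hn
  have e' : n⁻¹ * (u⁻¹ * g₂) = u' * g₁ := by
    rw [show g₂ = u * n * u' * g₁ by rw [← e]; group]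
    group
  rw [e'] at d₂
  have hw : cw lam w = lam := (h₁.of_dest d₂ (nrm_cw lam w)).unique (h₁.of_dest d₁ rfl)
  rw [e]
  exact mul_mem (mul_mem (sp_le_PL lam hu1) (rep_mem_PL hd _ w n rfl hn hw)) (sp_le_PL lam hu2)

end Cfsg.Agent.E8A.Kem
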