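import Cfsg.Agent.E8A.Fix.RedCnt

/-!
# The box RED2 (helper44)

* `surj_of_bot` : if no fixed point of the twisted torus kills the set `S`, then `w - q` is onto modulo the span of `S`;
* `Zs`, `Zs_conj` : the fixed points of the centre of `T M0`;
* `exists_theta` : an additive polynomial reducing the values to a set with at most four elements;
* `card_unip` : the fixed points in the unipotent group of the positive roots vanishing at `h`;
* `red2_of : CONJ → RED2`.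
-/

set_option autoImplicit false
set_option linter.unusedSectionVars false
set_option maxRecDepth 20000

namespace Cfsg.Agent.E8A.Frm

open Cfsg Cfsg.Lie CoxeterSystem
open Cfsg.Agent.ChevalleyStructure
open Cfsg.Agent.ChevalleyStructure.CoxeterGeom Cfsg.Agent.ChevalleyStructure.CoxeterGeomTypes
open Cfsg.Agent.Tits.Roots Cfsg.Agent.Nodes.Reps Cfsg.Agent.Nodes.BNOf Cfsg.Agent.Nodes.RGDChev
open Cfsg.Agent.KFacts.RgdChevCoord Cfsg.Agent.BpExc.TowChev Cfsg.Agent.H129.TorusChar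
open Cfsg.Agent.BpExc.Fr
open Cfsg.Agent.H378.TorDual
open Cfsg.Agent.H942.E8Tab (e8T)

universe u

/-! ### additive polynomials in characteristic two -/

section Two

variable {K : Type u} [Field K] [CharP K 2]

/-- `x ↦ x ^ 2 ^ k + x` -/
noncomputable def psi (K : Type u) [Field K] [CharP K 2] (k : ℕ) : K →+ K :=
  (iterateFrobenius K 2 k).toAddMonoidHom + AddMonoidHom.id K

theorem psi_apply (k : ℕ) (x : K) : psi K k x = x ^ 2 ^ k + x := by
  show iterateFrobenius K 2 k x + x = _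
  rw [iterateFrobenius_def]

theorem psi_sq (k : ℕ) (x : K) : psi K k (x ^ 2) = psi K k x ^ 2 := by
  rw [psi_apply, psi_apply, CharTwo.add_sq, ← pow_mul, ← pow_mul, mul_comm]

theorem psi_psi (k : ℕ) (x : K) : psi K k (psi K k x) = psi K (k + k) x := by
  rw [psi_apply k x, map_add, psi_apply, psi_apply, psi_apply, ← pow_mul, ← pow_add, add_assoc,
    CharTwo.add_cancel_left]

/-- `θ` commutes with squaring and does not kill the values of `lam` -/
def Good (lam : Q8 →+ K) (θ : K →+ K) : Prop := (∀ x, θ (x ^ 2) = θ x ^ 2) ∧ ∃ a, θ (lam a) ≠ 0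

theorem good_step {lam : Q8 →+ K} {k : ℕ} (h : ∃ θ, Good lam θ ∧ ∀ a, psi K (k + k) (θ (lam a)) = 0) :
    ∃ θ, Good lam θ ∧ ∀ a, psi K k (θ (lam a)) = 0 := by
  obtain ⟨θ, h1, h2⟩ := h
  by_cases h3 : ∀ a, psi K k (θ (lam a)) = 0
  · exact ⟨θ, h1, h3⟩
  · push Not at h3
    refine ⟨(psi K k).comp θ, ⟨fun x => ?_, h3⟩, fun a => ?_⟩
    · show psi K k (θ (x ^ 2)) = psi K k (θ x) ^ 2
      rw [h1.1, psi_sq]
    · show psi K k (psi K k (θ (lam a))) = 0
      rw [psi_psi, h2]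

open Polynomial in
theorem exists_theta {lam : Q8 →+ K} (h0 : ∃ a, lam a ≠ 0) (h : ∀ a, lam a ^ 2 ^ 24 = lam a) :
    ∃ θ, Good lam θ ∧ ∃ S : Finset K, S.card ≤ 4 ∧ ∀ a, θ (lam a) ∈ S := by
  classical
  have h1 : ∃ θ, Good lam θ ∧ ∀ a, psi K (12 + 12) (θ (lam a)) = 0 :=
    ⟨AddMonoidHom.id K, ⟨fun _ => rfl, h0⟩, fun a => by
      rw [psi_apply]
      show lam a ^ 2 ^ 24 + lam a = 0
      rw [h, CharTwo.add_self_eq_zero]⟩
  obtain ⟨θ, h2, h3⟩ := good_step (k := 3) (good_step (k := 6) (good_step (k := 12) h1))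
  let ρ : K →+ K := psi K 2 + (iterateFrobenius K 2 1).toAddMonoidHom
  have hρ : ∀ x, ρ x = x ^ 4 + x + x ^ 2 := by
    intro x
    show psi K 2 x + iterateFrobenius K 2 1 x = _
    rw [psi_apply, iterateFrobenius_def]
    norm_num
  by_cases h4 : ∀ a, ρ (θ (lam a)) = 0
  · have hd : (X ^ 4 + X + X ^ 2 : K[X]).natDegree = 4 := by compute_degree!
    have hne : (X ^ 4 + X + X ^ 2 : K[X]) ≠ 0 := by
      intro h5
      rw [h5, natDegree_zero] at hd
      omega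
    refine ⟨θ, h2, (X ^ 4 + X + X ^ 2 : K[X]).roots.toFinset, ?_, fun a => ?_⟩
    · refine (Multiset.toFinset_card_le _).trans ?_
      exact (card_roots' (X ^ 4 + X + X ^ 2 : K[X])).trans hd.le
    · rw [Multiset.mem_toFinset, mem_roots hne, IsRoot.def]
      have h5 := h4 a
      rw [hρ] at h5
      simpa using h5
  · push Not at h4
    refine ⟨ρ.comp θ, ⟨fun x => ?_, h4⟩, {0, 1}, Finset.card_le_two.trans (by norm_num), fun a => ?_⟩
    · show ρ (θ (x ^ 2)) = ρ (θ x) ^ 2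
      rw [h2.1, hρ, hρ, CharTwo.add_sq, CharTwo.add_sq]
      ring
    · show ρ (θ (lam a)) ∈ ({0, 1} : Finset K)
      have h5 := h3 a
      rw [psi_apply] at h5
      have h6 : (2 : K) = 0 := CharTwo.two_eq_zero
      have h7 : ρ (θ (lam a)) * (ρ (θ (lam a)) - 1) = 0 := by
        rw [mul_sub, mul_one, ← sq, hρ, CharTwo.add_sq, CharTwo.add_sq]
        linear_combination h5 - θ (lam a) * h6
      rw [Finset.mem_insert, Finset.mem_singleton]
      exact (mul_eq_zero.1 h7).imp id sub_eq_zero.1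

end Two

/-! ### the centre -/

variable {F : Type u} [Field F] [Finite F] {p : ℕ} [Fact p.Prime] [CharP F p] {e : ℕ}

theorem surj_of_bot (he0 : 0 < e) {n : G8 (Kb F)} {w : W8} (hn : Rp cs8 (ns8 p) w n) (S : Set Q8)
    (hZ : ∀ t ∈ Tw p e n, (∀ a ∈ S, cX e8T t a = 1) → t = 1) (x : Q8) :
    ∃ y, x - (rp8 w - ((p ^ e : ℕ) : ℤ) • (1 : Module.End ℤ Q8)) y ∈ Submodule.span ℤ S := by
  obtain ⟨f, hf⟩ : ∃ f, f = rp8 w - ((p ^ e : ℕ) : ℤ) • (1 : Module.End ℤ Q8) := ⟨_, rfl⟩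
  have hd : ((LinearMap.det f : ℤ) : Kb F) ≠ 0 := by
    rw [hf]
    exact H378.TorFin.det_rep_ne_zero cs8 p he0 e8T.isCartan w
  rw [← hf]
  have hd0 : LinearMap.det f ≠ 0 := by
    intro h
    rw [h, Int.cast_zero] at hd
    exact hd rfl
  let U : Submodule ℤ Q8 := Submodule.span ℤ S ⊔ LinearMap.range f
  by_contra hcon
  have hx : x ∉ U := by
    intro hx
    obtain ⟨a, ha, _, ⟨y, rfl⟩, h⟩ := Submodule.mem_sup.1 hx
    exact hcon ⟨y, by rw [← h, add_sub_cancel_right]; exact ha⟩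
  have := finite_co hd0
  have hfin : Finite (Q8 ⧸ U) := Finite.of_surjective _ (Submodule.factor_surjective (le_sup_right : _ ≤ U))
  have hexp : Monoid.exponent (Multiplicative (Q8 ⧸ U)) ∣ (LinearMap.det f).natAbs := by
    refine Monoid.exponent_dvd_of_forall_pow_eq_one fun y => ?_
    obtain ⟨z, hz⟩ := U.mkQ_surjective (Multiplicative.toAdd y)
    have h1 : (LinearMap.det f).natAbs • z ∈ LinearMap.range f := by
      rw [← Submodule.Quotient.mk_eq_zero, ← Submodule.mkQ_apply, map_nsmul, ← card_co hd0]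
      exact card_nsmul_eq_zero'
    apply Multiplicative.toAdd.injective
    rw [toAdd_pow, ← hz, ← map_nsmul, toAdd_one, Submodule.mkQ_apply, Submodule.Quotient.mk_eq_zero]
    exact Submodule.mem_sup_right h1
  have hne : NeZero ((Monoid.exponent (Multiplicative (Q8 ⧸ U)) : ℕ) : Kb F) := by
    refine ⟨fun h => hd ?_⟩
    obtain ⟨c, hc⟩ := hexp
    have h1 : (((LinearMap.det f).natAbs : ℕ) : Kb F) = 0 := by rw [hc, Nat.cast_mul, h, zero_mul]
    rcases Int.natAbs_eq (LinearMap.det f) with h2 | h2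
    · rw [h2, Int.cast_natCast, h1]
    · rw [h2, Int.cast_neg, Int.cast_natCast, h1, neg_zero]
  have h1 : Multiplicative.ofAdd (U.mkQ x) ≠ 1 := by
    intro h
    rw [ofAdd_eq_one, Submodule.mkQ_apply, Submodule.Quotient.mk_eq_zero] at h
    exact hx h
  obtain ⟨ψ, hψ⟩ := CommGroup.exists_apply_ne_one_of_hasEnoughRootsOfUnity (Multiplicative (Q8 ⧸ U)) (Kb F) h1
  have hφ : IsMC (fun y : Q8 => ((ψ (Multiplicative.ofAdd (U.mkQ y)) : (Kb F)ˣ) : Kb F)) :=
    ⟨by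
      show ((ψ (Multiplicative.ofAdd (U.mkQ 0)) : (Kb F)ˣ) : Kb F) = 1
      rw [map_zero, ofAdd_zero, map_one, Units.val_one],
    fun y z => by
      show ((ψ (Multiplicative.ofAdd (U.mkQ (y + z))) : (Kb F)ˣ) : Kb F) = _
      rw [map_add, ofAdd_add, map_mul, Units.val_mul]⟩
  obtain ⟨t, ht, htφ⟩ := exists_cX e8T invB8 one_ne_zero hφ fun i => ⟨_, pow_one _⟩
  have hU : ∀ y ∈ U, cX e8T t y = 1 := by
    intro y hy
    rw [htφ]
    show ((ψ (Multiplicative.ofAdd (U.mkQ y)) : (Kb F)ˣ) : Kb F) = 1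
    rw [Submodule.mkQ_apply, (Submodule.Quotient.mk_eq_zero U).2 hy, ofAdd_zero, map_one, Units.val_one]
  have h2 : t ∈ Tw p e n := by
    refine ⟨ht, (H129.TorusMain.tau_iff e8T cs8 (locFinK p) (sg_isFrob p) (sg_fr p) hn ht).2 fun y => ?_⟩
    have h3 := hU (f y) (Submodule.mem_sup_right ⟨y, rfl⟩)
    have h4 : f y = rp8 w y - (p ^ e) • y := by
      rw [hf, ← natCast_zsmul]
      rfl
    rw [h4, (isMC_cX e8T ht).sub, (isMC_cX e8T ht).nsmul,
      div_eq_one_iff_eq (pow_ne_zero _ ((isMC_cX e8T ht).ne_zero y))] at h3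
    exact h3
  have h3 := hZ t h2 fun a ha => hU a (Submodule.mem_sup_left (Submodule.subset_span ha))
  apply hψ
  apply Units.ext
  have h4 := htφ x
  rw [h3, cX_one] at h4
  exact h4.symm

variable (p e) in
/-- the fixed points in the torus killing `S` -/
def Zs (n : G8 (Kb F)) (S : Set Q8) : Subgroup (G8 (Kb F)) where
  carrier := {t | t ∈ Tw p e n ∧ ∀ a ∈ S, cX e8T t a = 1}
  one_mem' := ⟨one_mem _, fun a _ => cX_one e8T a⟩
  mul_mem' := by
    rintro s t ⟨h1, h2⟩ ⟨h3, h4⟩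
    exact ⟨mul_mem h1 h3, fun a ha => by rw [cX_mul e8T h1.1 h3.1, h2 a ha, h4 a ha, one_mul]⟩
  inv_mem' := by
    rintro s ⟨h1, h2⟩
    refine ⟨inv_mem h1, fun a ha => ?_⟩
    have h3 := cX_mul e8T h1.1 (inv_mem h1.1) a
    rw [mul_inv_cancel, cX_one, h2 a ha, one_mul] at h3
    exact h3.symm

section

variable {g n : G8 (Kb F)} {w : W8} (hC : CONJ.{u}) (he : Nat.card F = p ^ e) (fr : IsFrame p e g n w)

include hC he fr

theorem IsFrame.Zs_conj {v : L8 F} (hv : InT (ev g v)) {y : G8 F} (hy : y ∈ stab v) {x : G8 F}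
    (hx : x ∈ (Zs p e n (Phi0 (ev g v))).comap (ee g : G8 F →* G8 (Kb F))) :
    y * x * y⁻¹ ∈ (Zs p e n (Phi0 (ev g v))).comap (ee g : G8 F →* G8 (Kb F)) := by
  have hk : LocFin (Kb F) := locFinK p
  obtain ⟨m, hm, w', n', hn', h1, h2⟩ := hC (Kb F) p hk (ns8 p) _ _ _ hv hv ((ee_mem_stab g).2 hy)
  obtain ⟨⟨h3, -⟩, h4⟩ := hx
  have h5 := rp_TT hn' h3
  have h6 : ∀ a ∈ Phi0 (ev g v), cX e8T (n' * ee g x * n'⁻¹) a = 1 := by
    intro a ha
    have h7 := cX_rp e8T cs8 hk p hn' h3 (rp8 w'⁻¹ a)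
    rw [rep_apply_inv] at h7
    rw [h7]
    refine h4 _ ⟨ha.1.act _, ?_⟩
    have h8 := lv_rp p hk hn' hv (rp8 w'⁻¹ a)
    rw [rep_apply_inv, h1] at h8
    rw [← h8]
    exact ha.2
  have h7 := H942.CB.Sup_comm e8T cs8 hk p h5 (S := Phi0 (ev g v)) (fun a ha => ⟨ha.1, h6 a ha⟩) hm
  have h8 : ee g (y * x * y⁻¹) = n' * ee g x * n'⁻¹ := by
    rw [map_mul, map_mul, map_inv, h2]
    calc m * n' * ee g x * (m * n')⁻¹ = m * (n' * ee g x * n'⁻¹) * m⁻¹ := by group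
      _ = _ := by rw [h7]; group
  refine ⟨⟨?_, (fr.mem_range he).1 ⟨_, rfl⟩⟩, ?_⟩
  · rw [h8]; exact h5
  · rw [h8]; exact h6

omit he fr in
variable (p) in
include p in
theorem stab_le_of_theta {v v' : L8 F} (hv : InT (ev g v)) (hv' : InT (ev g v')) {θ : Kb F →+ Kb F}
    (hθ : ∀ a, lv a (ev g v') = θ (lv a (ev g v))) : stab v ≤ stab v' := by
  intro y hy
  have hk : LocFin (Kb F) := locFinK p
  obtain ⟨m, hm, w', n', hn', h1, h2⟩ := hC (Kb F) p hk (ns8 p) _ _ _ hv hv ((ee_mem_stab g).2 hy)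
  rw [← ee_mem_stab g, h2]
  refine mul_mem (Sup_le_stab hv' (fun a ha => ⟨ha.1, by rw [hθ, ha.2, map_zero]⟩) hm) ?_
  rw [mem_stab]
  refine inT_ext (inT_rp p hn' hv') hv' fun i => ?_
  have h3 := lv_rp p hk hn' hv' (rp8 w'⁻¹ (sr i))
  have h4 := lv_rp p hk hn' hv (rp8 w'⁻¹ (sr i))
  rw [rep_apply_inv] at h3 h4
  rw [h1] at h4
  rw [h3, hθ, hθ, h4]

end

/-! ### the unipotent group -/

theorem pow_eq_one_of_pos {K : Type u} [Field K] [CharP K p] (hk : LocFin K) {x : G8 K}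
    (hx : x ∈ RGD.Sup (XX chevE8 8 K) (RGD.Pos cs8 e8T.isCartan)) : ∃ k : ℕ, x ^ p ^ k = 1 := by
  have H := tow e8T cs8 hk p (k := K)
  rw [← XL_eq e8T hk] at hx
  obtain ⟨j, hj⟩ := H.mem_Sup.1 hx
  obtain ⟨k, h⟩ := (H.rgd j).isPGroup_Upos ⟨x, hj⟩
  exact ⟨k, congrArg Subtype.val h⟩

theorem card_unip (hC : CONJ.{u}) (he0 : 0 < e) (he : Nat.card F = p ^ e) {v : L8 F} {g₀ : G8 (Kb F)}
    (hv : InT (ev g₀ v)) : (p ^ e) ^ (PhP (lvH (ev g₀ v))).ncard ∣ Nat.card ↥(stab v) := by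
  classical
  have hk : LocFin (Kb F) := locFinK p
  obtain ⟨g, n, w, fr, h1, h2⟩ := exists_frame hC he0 he hv
  rw [← h1] at hv h2 ⊢
  have hS : PhP (lvH (ev g v)) ⊆ RGD.Pos cs8 e8T.isCartan := fun a ha => ⟨ha.1.1, ha.2⟩
  have hc : Nodes.Unique.Closed cs8 e8T.isCartan (PhP (lvH (ev g v))) := by
    refine H942.CB.closed_of_add fm8 hS fun x hx y hy hxy => ⟨⟨hxy, ?_⟩, add_nonneg hx.2 hy.2⟩
    rw [map_add, hx.1.2, hy.1.2, add_zero]
  obtain ⟨s, hs1, hs2⟩ := H942.CB.lemU e8T cs8 hk fm8 he0 (tau_isFrob n) (tau_fr fr.rp) _ (PhP (lvH (ev g v))) rfl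
    hS hc fun a ha => ⟨fr.w_mem he hv ha.1, h2 a ha.1 ha.2⟩
  let R : Subgroup (G8 F) := (RGD.Sup (XX chevE8 8 (Kb F)) (PhP (lvH (ev g v)))).comap (ee g)
  have hR : R ≤ stab v := comap_le_stab (Sup_le_stab hv fun a ha => ha.1)
  have hP : IsPGroup p R := by
    intro x
    obtain ⟨k, hk'⟩ := pow_eq_one_of_pos (p := p) hk (RGD.Sup_mono hS x.2)
    refine ⟨k, Subtype.ext (ee_injective g ?_)⟩
    rw [Subgroup.coe_pow, map_pow, hk', Subgroup.coe_one, map_one]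
  obtain ⟨k, hk'⟩ := IsPGroup.iff_card.1 hP
  have h3 : s.card ≤ Nat.card R := by
    have h4 : ∀ y : s, ∃ x : R, ee g (x : G8 F) = y := by
      rintro ⟨y, hy⟩
      obtain ⟨x, hx⟩ := (fr.mem_range he).2 (hs2 y hy).2
      exact ⟨⟨x, by
        show ee g x ∈ RGD.Sup (XX chevE8 8 (Kb F)) (PhP (lvH (ev g v)))
        rw [hx]; exact (hs2 y hy).1⟩, hx⟩
    choose j hj using h4
    have h5 : Function.Injective j := fun a b hab => Subtype.ext (by rw [← hj, ← hj, hab])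
    have h6 := Nat.card_le_card_of_injective j h5
    rwa [Nat.card_eq_fintype_card, Fintype.card_coe] at h6
  refine Dvd.dvd.trans ?_ (Subgroup.card_dvd_of_le hR)
  rw [hs1, hk', ← pow_mul] at h3
  rw [hk', ← pow_mul]
  exact pow_dvd_pow p ((Nat.pow_le_pow_iff_right (Fact.out : p.Prime).one_lt).1 h3)

/-- **RED2** -/
theorem red2_of (hC : CONJ.{u}) : RED2.{u} := by
  intro F _ _ hF v hv0 ⟨g₀, hg₀⟩
  have := Fintype.ofFinite F
  have : CharP F 2 := charP_of_card_eq_prime (by rw [← Nat.card_eq_fintype_card, hF])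
  have he : Nat.card F = 2 ^ 1 := hF
  have hk : LocFin (Kb F) := locFinK 2
  obtain ⟨g, n, w, fr, h1, h2⟩ := exists_frame hC one_pos he (v := v) (g₀ := g₀) hg₀
  have hv : InT (ev g v) := by rw [h1]; exact hg₀
  rw [← h1] at h2
  have hTw : Tw 2 1 n ≤ TT chevE8 (Kb F) := fun _ ht => ht.1
  have hZT : Zs 2 1 n (Phi0 (ev g v)) ≤ TT chevE8 (Kb F) := fun _ ht => ht.1.1
  by_cases hZ : (Zs 2 1 n (Phi0 (ev g v))).comap (ee g : G8 F →* G8 (Kb F)) = ⊥
  swap
  · exact Or.inl ⟨_, hZ, comap_le_stab (hZT.trans (TT_le hv)), fun x hx y hy => comap_comm hZT hx hy,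
      fun y hy x hx => fr.Zs_conj hC he hv hy hx⟩
  right
  have h3 := surj_of_bot one_pos fr.rp (Phi0 (ev g v)) (fun t ht ht' => by
    obtain ⟨x, rfl⟩ := fr.Tw_le he ht
    have h4 : x ∈ (Zs 2 1 n (Phi0 (ev g v))).comap (ee g : G8 F →* G8 (Kb F)) := ⟨ht, ht'⟩
    rw [hZ, Subgroup.mem_bot] at h4
    rw [h4, map_one])
  have h4 : (LinearMap.det (f2 w)).natAbs ∣ Nat.card ↥(stab v) := by
    have h5 := Subgroup.card_dvd_of_le (comap_le_stab (hTw.trans (TT_le hv)))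
    rwa [card_comap g (fr.Tw_le he), card_Tw one_pos fr.rp] at h5
  rcases lat (μ := lvH (ev g v)) (w := w) (fun a ha => ⟨fr.w_mem he hv ha.1, h2 a ha.1 ha.2⟩) h3 with h5 | h5 | h5
  · exact Or.inl (h5.trans h4)
  · exact Or.inr (Or.inl (h5.trans h4))
  refine Or.inr (Or.inr ?_)
  have h6 : ∀ (m : ℕ) (a : Q8), lv ((rp8 w ^ m) a) (ev g v) = lv a (ev g v) ^ 2 ^ m := by
    intro m a
    induction m with
    | zero => rw [pow_zero, pow_zero, pow_one, Module.End.one_apply]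
    | succ m ih => rw [pow_succ', Module.End.mul_apply, fr.lv_w he hv, ih, ← pow_mul, ← pow_add]
  have h7 : ∃ a, lvH (ev g v) a ≠ 0 := by
    by_contra hcon
    push Not at hcon
    apply hv0
    apply ev_injective g
    rw [ev_zero]
    refine inT_ext hv (fun _ => rfl) fun i => ?_
    rw [← lvH_apply, hcon]
    unfold lv
    exact (Finset.sum_eq_zero fun j _ => mul_zero _).symm
  obtain ⟨θ, ⟨h8, a₀, h9⟩, S, hS, h10⟩ := exists_theta h7 fun a => by
    have h11 := h6 24 a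
    rw [h5] at h11
    exact h11.symm
  obtain ⟨h', hh', h11⟩ := exists_inT (θ.comp (lvH (ev g v)))
  have h12 : act n (frq h') = h' := by
    refine inT_ext (inT_rp 2 fr.rp (inT_frq hh')) hh' fun i => ?_
    have h13 := lv_rp 2 hk fr.rp (inT_frq hh') (rp8 w⁻¹ (sr i))
    have h14 := fr.lv_w he hv (rp8 w⁻¹ (sr i))
    rw [rep_apply_inv] at h13 h14
    rw [h13, lv_frq he, h11, h11]
    show θ (lv _ _) ^ 2 = θ (lv _ _)
    rw [h14, ← h8]
    rfl
  obtain ⟨v', rfl⟩ := fr.exists_ev he h12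
  refine ⟨v', fun h0 => h9 ?_, stab_le_of_theta 2 hC hv hh' h11, ?_⟩
  · have h13 := h11 a₀
    rw [h0, ev_zero] at h13
    refine Eq.trans h13.symm ?_
    unfold lv
    exact Finset.sum_eq_zero fun j _ => mul_zero _
  · refine Dvd.dvd.trans ?_ (card_unip hC one_pos he hh')
    rw [pow_one]
    refine pow_dvd_pow 2 (ncard_PhP _ S hS fun a => ?_)
    rw [lvH_apply, h11]
    exact h10 a

end Cfsg.Agent.E8A.Frm
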