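import Cfsg.Agent.E8A.Fix.RedLat

/-!
# An additive map on the root lattice with at most four values in characteristic two kills 24 positive roots (helper44)
-/

set_option autoImplicit false
set_option linter.unusedSectionVars false
set_option maxRecDepth 100000

namespace Cfsg.Agent.E8A.Frm

open Cfsg Cfsg.Lie CoxeterSystem
open Cfsg.Agent.Tits.Roots Cfsg.Agent.Nodes.RGDChev
open Cfsg.Agent.H942.E8Tab (e8T)

universe u

/-- the indices of the positive roots -/
def posIdx : Finset (Fin chevE8.nroots) := Finset.univ.filter fun r => 120 ≤ r.val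

theorem card_posIdx : posIdx.card = 120 := by decide +kernel

theorem vec_nonneg : ∀ r ∈ posIdx, ∀ i, 0 ≤ vec chevE8 8 r i := by decide +kernel

theorem cnt56 : ∀ c0 c1 c2 c3 c4 c5 c6 c7 : ZMod 2, 56 ≤ (posIdx.filter fun r : Fin chevE8.nroots =>
    ((vec chevE8 8 r 0 : ℤ) : ZMod 2) * c0 + ((vec chevE8 8 r 1 : ℤ) : ZMod 2) * c1 +
    ((vec chevE8 8 r 2 : ℤ) : ZMod 2) * c2 + ((vec chevE8 8 r 3 : ℤ) : ZMod 2) * c3 +
    ((vec chevE8 8 r 4 : ℤ) : ZMod 2) * c4 + ((vec chevE8 8 r 5 : ℤ) : ZMod 2) * c5 +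
    ((vec chevE8 8 r 6 : ℤ) : ZMod 2) * c6 + ((vec chevE8 8 r 7 : ℤ) : ZMod 2) * c7 = 0).card := by
  decide +kernel

theorem cnt_hom (f : Q8 →+ ZMod 2) : 56 ≤ (posIdx.filter fun r : Fin chevE8.nroots => f (vec chevE8 8 r) = 0).card := by
  have h1 : ∀ x : Q8, f x = (x 0 : ZMod 2) * f (sr 0) + (x 1 : ZMod 2) * f (sr 1) + (x 2 : ZMod 2) * f (sr 2) +
      (x 3 : ZMod 2) * f (sr 3) + (x 4 : ZMod 2) * f (sr 4) + (x 5 : ZMod 2) * f (sr 5) +
      (x 6 : ZMod 2) * f (sr 6) + (x 7 : ZMod 2) * f (sr 7) := by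
    intro x
    conv_lhs => rw [H129.TorusChar.IsMC.eq_sum_sr x, map_sum, Fin.sum_univ_eight]
    simp only [map_zsmul]
    simp only [zsmul_eq_mul]
  have h2 := cnt56 (f (sr 0)) (f (sr 1)) (f (sr 2)) (f (sr 3)) (f (sr 4)) (f (sr 5)) (f (sr 6)) (f (sr 7))
  refine h2.trans (le_of_eq ?_)
  congr 1
  refine Finset.filter_congr fun r _ => ?_
  rw [h1 (vec chevE8 8 r)]

theorem cnt_two (f g : Q8 →+ ZMod 2) :
    24 ≤ (posIdx.filter fun r : Fin chevE8.nroots => f (vec chevE8 8 r) = 0 ∧ g (vec chevE8 8 r) = 0).card := by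
  have h1 := cnt_hom f
  have h2 := cnt_hom g
  have h3 := cnt_hom (f + g)
  have key : ∀ a b : ZMod 2, ((if a = 0 then 1 else 0) + (if b = 0 then 1 else 0) + (if a + b = 0 then 1 else 0) : ℕ) =
      1 + 2 * (if a = 0 ∧ b = 0 then 1 else 0) := by decide
  rw [Finset.card_filter] at h1 h2 h3 ⊢
  have h4 : ∑ r ∈ posIdx, ((if f (vec chevE8 8 r) = 0 then 1 else 0) + (if g (vec chevE8 8 r) = 0 then 1 else 0) +
      (if (f + g) (vec chevE8 8 r) = 0 then 1 else 0) : ℕ) =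
      ∑ r ∈ posIdx, (1 + 2 * (if f (vec chevE8 8 r) = 0 ∧ g (vec chevE8 8 r) = 0 then 1 else 0)) :=
    Finset.sum_congr rfl fun r _ => key _ _
  rw [Finset.sum_add_distrib, Finset.sum_add_distrib, Finset.sum_add_distrib, ← Finset.mul_sum, Finset.sum_const,
    card_posIdx, smul_eq_mul] at h4
  omega

theorem exists_two {K : Type u} [Field K] [CharP K 2] (μ : Q8 →+ K) (S : Finset K) (hS : S.card ≤ 4)
    (hμ : ∀ a, μ a ∈ S) : ∃ f g : Q8 →+ ZMod 2, ∀ a, f a = 0 → g a = 0 → μ a = 0 := by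
  classical
  let _ : Algebra (ZMod 2) K := ZMod.algebra K 2
  let A : Submodule (ZMod 2) K := AddSubgroup.toZModSubmodule 2 μ.range
  have hA : ∀ a, μ a ∈ A := fun a => ⟨a, rfl⟩
  let j : A → S := fun x => ⟨x.1, by obtain ⟨_, a, rfl⟩ := x; exact hμ a⟩
  have hj : Function.Injective j := fun x y h => Subtype.ext (congrArg (fun z : S => (z : K)) h)
  have : Finite A := Finite.of_injective j hj
  have h1 : Nat.card A ≤ 4 := by
    refine (Nat.card_le_card_of_injective j hj).trans ?_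
    rw [Nat.card_eq_fintype_card, Fintype.card_coe]
    exact hS
  have : Module.Finite (ZMod 2) A := Module.Finite.of_finite
  rw [Module.natCard_eq_pow_finrank (K := ZMod 2), Nat.card_zmod] at h1
  have h2 : Module.finrank (ZMod 2) A ≤ 2 := by
    by_contra hcon
    have h3 := Nat.pow_le_pow_right (n := 2) (by norm_num) (show 3 ≤ Module.finrank (ZMod 2) A by omega)
    omega
  let b := Module.finBasis (ZMod 2) A
  let μ' : Q8 →+ A := μ.codRestrict A hA
  let φ : ℕ → (Q8 →+ ZMod 2) := fun i =>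
    if h : i < Module.finrank (ZMod 2) A then (b.coord ⟨i, h⟩).toAddMonoidHom.comp μ' else 0
  refine ⟨φ 0, φ 1, fun a h0 h1 => ?_⟩
  have h3 : μ' a = 0 := by
    rw [← b.forall_coord_eq_zero_iff]
    rintro ⟨i, hi⟩
    have h4 : φ i a = b.coord ⟨i, hi⟩ (μ' a) := by
      show (if h : i < Module.finrank (ZMod 2) A then (b.coord ⟨i, h⟩).toAddMonoidHom.comp μ' else 0) a = _
      rw [dif_pos hi]
      rfl
    rw [← h4]
    have h5 : i = 0 ∨ i = 1 := by omega
    rcases h5 with rfl | rfl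
    · exact h0
    · exact h1
  exact congrArg Subtype.val h3

theorem finite_PhP {A : Type*} [AddCommGroup A] (μ : Q8 →+ A) : (PhP μ).Finite :=
  (Nodes.BNOf.RGD.finite_roots (cs := cs8) (h := e8T.isCartan)).subset fun _ hx => hx.1.1

/-- **The count.** -/
theorem ncard_PhP {K : Type u} [Field K] [CharP K 2] (μ : Q8 →+ K) (S : Finset K) (hS : S.card ≤ 4)
    (hμ : ∀ a, μ a ∈ S) : 24 ≤ (PhP μ).ncard := by
  classical
  obtain ⟨f, g, h⟩ := exists_two μ S hS hμ
  refine (cnt_two f g).trans ?_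
  rw [← Set.ncard_coe_finset]
  refine Set.ncard_le_ncard_of_injOn (fun r : Fin chevE8.nroots => vec chevE8 8 r) (fun r hr => ?_)
    (fun r _ s _ hrs => Fin.ext (vec_inj e8T r.2 s.2 hrs)) (finite_PhP μ)
  rw [Finset.mem_coe, Finset.mem_filter] at hr
  exact ⟨⟨rt_vec r, h _ hr.2.1 hr.2.2⟩, vec_nonneg r hr.1⟩

end Cfsg.Agent.E8A.Frm
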