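import Cfsg.Agent.E8A.Fix.Tor
import Cfsg.Agent.H897.T5Conn

/-!
# The lattice part of RED2 (helper44)

`μ : Q8 →+ A`, `Ph μ` the roots killed by `μ`, `w` an element of the Weyl group permuting the positive roots in `Ph μ`,
such that `w - 2` is onto modulo the span of `Ph μ`. Then `31` or `127` divides `det (w - 2)`, or `w ^ 24 = 1` (`lat`).
-/

set_option autoImplicit false
set_option linter.unusedSectionVars false
set_option maxRecDepth 20000

namespace Cfsg.Agent.E8A.Frm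

open Cfsg Cfsg.Lie CoxeterSystem
open Cfsg.Agent.ChevalleyStructure
open Cfsg.Agent.ChevalleyStructure.CoxeterGeom Cfsg.Agent.ChevalleyStructure.CoxeterGeomTypes
open Cfsg.Agent.Tits.Roots Cfsg.Agent.Nodes.Reps Cfsg.Agent.Nodes.BNOf Cfsg.Agent.Nodes.RGDChev
open Cfsg.Agent.H378.TorDual
open Cfsg.Agent.H897.T5Lat (Frm bf bf_apply)
open Cfsg.Agent.H942.E8Tab (e8T)

/-- the invariant form -/
noncomputable abbrev B0 : LinearMap.BilinForm ℤ Q8 := bf (cartanOf chevE8 8)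

set_option backward.isDefEq.respectTransparency false in
theorem n8' : ∀ i j : Fin 8, CoxeterMatrix.E₈ i j ≠ 4 ∧ CoxeterMatrix.E₈ i j ≠ 6 := by decide

theorem fm8 : Frm cs8 e8T.isCartan B0 :=
  H897.T5Conn.Par.frm (cs := cs8) (h := e8T.isCartan) (i0 := 1) (par := ![2, 1, 3, 1, 3, 4, 5, 6]) (n := 8)
    ⟨by decide +kernel, rfl, by decide +kernel⟩ (fun i j => (n8' i j).1) (fun i j => (n8' i j).2)

/-- the map `w - 2` -/
noncomputable abbrev f2 (w : W8) : Module.End ℤ Q8 := rp8 w - (2 : ℤ) • (1 : Module.End ℤ Q8)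

theorem f2_apply (w : W8) (y : Q8) : f2 w y = rp8 w y - (2 : ℤ) • y := rfl

theorem norm_f2 (w : W8) (y : Q8) : B0 (f2 w y) (f2 w y) = B0 y y + 2 * B0 (rp8 w y - y) (rp8 w y - y) := by
  have h1 := fm8.norm_sub_smul (rp8 w y) y 2
  have h2 := fm8.norm_sub_smul (rp8 w y) y 1
  rw [one_smul] at h2
  rw [f2_apply, h1, h2, fm8.inv]
  ring

theorem det_f2 (w : W8) : LinearMap.det (f2 w) ≠ 0 := by
  have h := le_det (orderOf_pos w).ne' (rp8_pow w) (q := 2) (by norm_num)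
  intro h0
  have h1 : ((2 : ℕ) : ℤ) = 2 := rfl
  rw [h1, h0] at h
  norm_num at h

/-- a root in the image of `w - 2` is fixed by `w` -/
theorem fix_of_range {w : W8} {a y : Q8} (ha : Rt a) (h : f2 w y = a) : rp8 w a = a := by
  have h1 := norm_f2 w y
  rw [h, fm8.self ha] at h1
  have hy : y ≠ 0 := by
    rintro rfl
    rw [map_zero] at h
    exact ha.ne_zero h.symm
  have h2 := fm8.pos y hy
  have h3 := fm8.nonneg (rp8 w y - y)
  have h4 : rp8 w y - y = 0 := fm8.eq_zero (by omega)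
  rw [sub_eq_zero] at h4
  rw [← h, f2_apply, map_sub, map_smul, h4, h4]

theorem fix_of_period {w : W8} {a : Q8} (ha : Rt a) {c l : ℕ} (hc : (rp8 w ^ c) a = a) (hl : l + 1 = 2 ^ c)
    (hp : l.Prime) (hd : ¬ l ∣ (LinearMap.det (f2 w)).natAbs) : rp8 w a = a := by
  have hcm : Commute (rp8 w) ((2 : ℤ) • (1 : Module.End ℤ Q8)) := (Commute.one_right _).smul_right _
  have h1 := DFunLike.congr_fun (hcm.mul_geom_sum₂ c) a
  rw [Module.End.mul_apply, LinearMap.sub_apply (rp8 w ^ c), hc, _root_.smul_pow, one_pow, LinearMap.smul_apply,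
    Module.End.one_apply] at h1
  have h2 : a - (2 : ℤ) ^ c • a = -(l • a) := by
    have h3 : (2 : ℤ) ^ c = (l : ℤ) + 1 := by exact_mod_cast hl.symm
    rw [h3, add_smul, one_smul, natCast_zsmul]
    abel
  rw [h2] at h1
  have := finite_co (det_f2 w)
  have h3 : l • (LinearMap.range (f2 w)).mkQ a = 0 := by
    rw [← map_nsmul, Submodule.mkQ_apply, Submodule.Quotient.mk_eq_zero, ← neg_mem_iff]
    exact ⟨_, h1⟩
  have h4 : addOrderOf ((LinearMap.range (f2 w)).mkQ a) ∣ (LinearMap.det (f2 w)).natAbs := by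
    rw [← card_co (det_f2 w)]
    exact addOrderOf_dvd_natCard _
  have h5 := addOrderOf_dvd_of_nsmul_eq_zero h3
  have h6 : addOrderOf ((LinearMap.range (f2 w)).mkQ a) = 1 := by
    rcases (Nat.dvd_prime hp).1 h5 with h7 | h7
    · exact h7
    · rw [h7] at h4
      exact absurd h4 hd
  rw [AddMonoid.addOrderOf_eq_one_iff, Submodule.mkQ_apply, Submodule.Quotient.mk_eq_zero] at h6
  obtain ⟨y, hy⟩ := h6
  exact fix_of_range ha hy

section

variable {A : Type*} [AddCommGroup A] (μ : Q8 →+ A)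

/-- the roots killed by `μ` -/
def Ph : Set Q8 := {a | Rt a ∧ μ a = 0}

/-- the positive ones -/
def PhP : Set Q8 := {a | a ∈ Ph μ ∧ 0 ≤ a}

/-- the simple ones -/
def PhS : Set Q8 := {a | a ∈ PhP μ ∧ ∀ b ∈ PhP μ, ∀ c ∈ PhP μ, a ≠ b + c}

variable {μ}

theorem Ph_neg {a : Q8} (ha : a ∈ Ph μ) : -a ∈ Ph μ := ⟨ha.1.neg, by rw [map_neg, ha.2, neg_zero]⟩

theorem PhS_le {a b : Q8} (ha : a ∈ PhS μ) (hb : b ∈ PhS μ) (hab : a ≠ b) : B0 a b ≤ 0 := by
  by_contra hcon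
  have h1 := H942.CB.form_le fm8 ha.1.1.1 hb.1.1.1 hab
  have h2 : B0 a b = 1 := by omega
  have h3 := Nodes.Coroot.isRoot_refl cs8 e8T.isCartan ha.1.1.1 hb.1.1.1
  rw [← fm8.cpr a b hb.1.1.1, h2, one_smul] at h3
  have h4 : a - b ∈ Ph μ := ⟨h3, by rw [map_sub, ha.1.1.2, hb.1.1.2, sub_zero]⟩
  rcases h3.pos_or_neg with h5 | h5
  · exact ha.2 _ ⟨h4, h5⟩ _ hb.1 (by abel)
  · exact hb.2 _ ⟨Ph_neg h4, neg_nonneg.2 h5⟩ _ ha.1 (by abel)

theorem PhS_indep : LinearIndependent ℤ (fun a : PhS μ => (a : Q8)) := by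
  refine LinearMap.BilinForm.linearIndependent_of_pairwise_le_zero B0 (fun x hx => fm8.pos x hx)
    (Nodes.Slope.htHom.toIntLinearMap) _ (fun a => ?_) (fun a b hab => ?_)
  · exact RGD.ht_pos a.2.1.1.1 a.2.1.2
  · exact PhS_le a.2 b.2 fun h => hab (Subtype.ext h)

theorem fix_PhP {u : Module.End ℤ Q8} (hu : ∀ a ∈ PhS μ, u a = a) :
    ∀ (n : ℕ) (a : Q8), a ∈ PhP μ → ht a ≤ n → u a = a := by
  intro n
  induction n with
  | zero =>
    intro a ha h
    have := RGD.ht_pos ha.1.1 ha.2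
    omega
  | succ n ih =>
    intro a ha h
    by_cases hs : a ∈ PhS μ
    · exact hu a hs
    · have h1 : ∃ b ∈ PhP μ, ∃ c ∈ PhP μ, a = b + c := by
        by_contra hcon
        push Not at hcon
        exact hs ⟨ha, hcon⟩
      obtain ⟨b, hb, c, hc, rfl⟩ := h1
      have h2 := RGD.ht_pos hb.1.1 hb.2
      have h3 := RGD.ht_pos hc.1.1 hc.2
      rw [RGD.ht_add] at h
      rw [map_add, ih b hb (by omega), ih c hc (by omega)]

theorem fix_span {u : Module.End ℤ Q8} (hu : ∀ a ∈ PhS μ, u a = a) {x : Q8} (hx : x ∈ Submodule.span ℤ (Ph μ)) :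
    u x = x := by
  have h1 : ∀ a ∈ PhP μ, u a = a := fun a ha => fix_PhP hu (ht a).toNat a ha (Int.self_le_toNat _)
  induction hx using Submodule.span_induction with
  | mem a ha =>
    rcases ha.1.pos_or_neg with h2 | h2
    · exact h1 a ⟨ha, h2⟩
    · have h3 := h1 _ ⟨Ph_neg ha, neg_nonneg.2 h2⟩
      rwa [map_neg, neg_inj] at h3
  | zero => exact map_zero u
  | add x y _ _ hx hy => rw [map_add, hx, hy]
  | smul c x _ hx => rw [map_smul, hx]

variable {w : W8} (hw : ∀ a ∈ PhP μ, rp8 w a ∈ PhP μ)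

include hw

theorem pow_PhP (m : ℕ) {a : Q8} (ha : a ∈ PhP μ) : (rp8 w ^ m) a ∈ PhP μ := by
  induction m with
  | zero => rwa [pow_zero, Module.End.one_apply]
  | succ m ih => rw [pow_succ', Module.End.mul_apply]; exact hw _ ih

theorem w_PhS {a : Q8} (ha : a ∈ PhS μ) : rp8 w a ∈ PhS μ := by
  refine ⟨hw a ha.1, fun b hb c hc h => ?_⟩
  obtain ⟨m, hm⟩ : ∃ m, orderOf w = m + 1 := ⟨orderOf w - 1, by have := orderOf_pos w; omega⟩
  have h1 := rp8_pow w
  rw [hm, pow_succ] at h1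
  refine ha.2 _ (pow_PhP hw m hb) _ (pow_PhP hw m hc) ?_
  rw [← map_add, ← h, ← Module.End.mul_apply, h1, Module.End.one_apply]

theorem pow_PhS (m : ℕ) {a : Q8} (ha : a ∈ PhS μ) : (rp8 w ^ m) a ∈ PhS μ := by
  induction m with
  | zero => rwa [pow_zero, Module.End.one_apply]
  | succ m ih => rw [pow_succ', Module.End.mul_apply]; exact w_PhS hw ih

theorem exists_period {a : Q8} (ha : a ∈ PhS μ) : ∃ c, 1 ≤ c ∧ c ≤ 8 ∧ (rp8 w ^ c) a = a := by
  let f : Fin 9 → PhS μ := fun i => ⟨(rp8 w ^ (i : ℕ)) a, pow_PhS hw i ha⟩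
  have h1 : ¬ Function.Injective f := by
    intro hf
    have h2 := ((PhS_indep (μ := μ)).comp f hf).fintype_card_le_finrank
    rw [Module.finrank_fin_fun, Fintype.card_fin] at h2
    omega
  have key : ∀ i j : Fin 9, i < j → f i = f j → ∃ c, 1 ≤ c ∧ c ≤ 8 ∧ (rp8 w ^ c) a = a := by
    intro i j hij h
    have h2 : (rp8 w ^ (i : ℕ)) a = (rp8 w ^ (j : ℕ)) a := congrArg Subtype.val h
    have hij' : (i : ℕ) < j := hij
    have hj := j.2
    refine ⟨j - i, by omega, by omega, ?_⟩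
    have h3 : (j : ℕ) = i + (j - i) := by omega
    rw [h3, pow_add, Module.End.mul_apply, ← map_pow] at h2
    have h4 := congrArg (rp8 (w ^ (i : ℕ))⁻¹) h2
    rw [rep_inv_apply, rep_inv_apply] at h4
    exact h4.symm
  unfold Function.Injective at h1
  push Not at h1
  obtain ⟨i, j, h, hne⟩ := h1
  rcases lt_or_gt_of_ne hne with h2 | h2
  · exact key i j h2 h
  · exact key j i h2 h.symm

omit hw in
theorem pow_mul_fix {u : Module.End ℤ Q8} {a : Q8} (h : u a = a) (m : ℕ) : (u ^ m) a = a := by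
  induction m with
  | zero => rw [pow_zero, Module.End.one_apply]
  | succ m ih => rw [pow_succ, Module.End.mul_apply, h, ih]

theorem fix24 (h31 : ¬ 31 ∣ (LinearMap.det (f2 w)).natAbs) (h127 : ¬ 127 ∣ (LinearMap.det (f2 w)).natAbs) {a : Q8}
    (ha : a ∈ PhS μ) : (rp8 w ^ 24) a = a := by
  obtain ⟨c, h1, h2, h3⟩ := exists_period hw ha
  have key : ∀ d, c * d = 24 → (rp8 w ^ 24) a = a := by
    intro d hd
    rw [← hd, pow_mul]
    exact pow_mul_fix h3 d
  interval_cases c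
  · exact key 24 rfl
  · exact key 12 rfl
  · exact key 8 rfl
  · exact key 6 rfl
  · exact pow_mul_fix (fix_of_period ha.1.1.1 h3 (l := 31) rfl (by norm_num) h31) 24
  · exact key 4 rfl
  · exact pow_mul_fix (fix_of_period ha.1.1.1 h3 (l := 127) rfl (by norm_num) h127) 24
  · exact key 3 rfl

/-- **The lattice lemma.** -/
theorem lat (hs : ∀ x, ∃ y, x - f2 w y ∈ Submodule.span ℤ (Ph μ)) :
    31 ∣ (LinearMap.det (f2 w)).natAbs ∨ 127 ∣ (LinearMap.det (f2 w)).natAbs ∨ ∀ x, (rp8 w ^ 24) x = x := by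
  by_cases h31 : 31 ∣ (LinearMap.det (f2 w)).natAbs
  · exact Or.inl h31
  by_cases h127 : 127 ∣ (LinearMap.det (f2 w)).natAbs
  · exact Or.inr (Or.inl h127)
  refine Or.inr (Or.inr ?_)
  have h1 : ∀ x ∈ Submodule.span ℤ (Ph μ), (rp8 w ^ 24) x = x := fun x hx =>
    fix_span (fun a ha => fix24 hw h31 h127 ha) hx
  have hcm : ∀ y, (rp8 w ^ 24) (rp8 w y) = rp8 w ((rp8 w ^ 24) y) := by
    intro y
    rw [← Module.End.mul_apply, ← Module.End.mul_apply, ← pow_succ, ← pow_succ']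
  have h2 : ∀ x, ∃ y, (rp8 w ^ 24) x - x = f2 w ((rp8 w ^ 24) y - y) := by
    intro x
    obtain ⟨y, hy⟩ := hs x
    refine ⟨y, ?_⟩
    have h3 := h1 _ hy
    rw [map_sub, f2_apply, map_sub, map_smul, hcm] at h3
    rw [f2_apply, map_sub, smul_sub]
    have h4 : (rp8 w ^ 24) x = x - (rp8 w y - (2 : ℤ) • y) + (rp8 w ((rp8 w ^ 24) y) - (2 : ℤ) • (rp8 w ^ 24) y) :=
      sub_eq_iff_eq_add.1 h3
    rw [h4]
    abel
  by_contra hcon
  push Not at hcon
  have hex : ∃ n : ℕ, ∃ x, (rp8 w ^ 24) x - x ≠ 0 ∧ B0 ((rp8 w ^ 24) x - x) ((rp8 w ^ 24) x - x) = n := by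
    obtain ⟨x, hx⟩ := hcon
    exact ⟨_, x, sub_ne_zero.2 hx, (Int.toNat_of_nonneg (fm8.nonneg _)).symm⟩
  classical
  obtain ⟨x, hx, hn⟩ := Nat.find_spec hex
  obtain ⟨y, hy⟩ := h2 x
  obtain ⟨z, hz⟩ : ∃ z, z = (rp8 w ^ 24) y - y := ⟨_, rfl⟩
  have hz0 : z ≠ 0 := by
    intro h0
    rw [← hz, h0, map_zero] at hy
    exact hx hy
  have h3 : Nat.find hex ≤ (B0 z z).toNat :=
    Nat.find_min' hex ⟨y, by rw [← hz]; exact hz0, by rw [← hz]; exact (Int.toNat_of_nonneg (fm8.nonneg _)).symm⟩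
  have h4 := norm_f2 w z
  rw [← hz] at hy
  rw [← hy, hn] at h4
  have h5 := fm8.nonneg z
  have h6 : rp8 w z - z = 0 := fm8.eq_zero (by omega)
  rw [sub_eq_zero] at h6
  have h7 : (rp8 w ^ 24) z = z := pow_mul_fix h6 24
  have h8 : B0 z ((rp8 w ^ 24) y) = B0 z y := by
    have h9 := fm8.inv (w ^ 24) z y
    rwa [map_pow, h7] at h9
  apply hz0
  apply fm8.eq_zero
  nth_rewrite 2 [hz]
  rw [map_sub, h8, sub_self]

end

end Cfsg.Agent.E8A.Frm
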