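import Cfsg.Agent.E8A.Fix.Iface
import Cfsg.Agent.E8A.Fix.Frm

/-!
# The box TORUS (helper44)

* `le_det` : `(q - 1) ^ l ≤ |det (w - q)|` for `w` of finite order;
* `IsFrame.card_tw` : the order of the twisted torus;
* `torus_of : CONJ → TORUS`.
-/

set_option autoImplicit false
set_option linter.unusedSectionVars false
set_option maxRecDepth 20000

namespace Cfsg.Agent.E8A.Frm

open Cfsg Cfsg.Lie CoxeterSystem Matrix
open Cfsg.Agent.ChevalleyStructure Cfsg.Agent.ChevalleyStructure.Elts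
open Cfsg.Agent.ChevalleyStructure.CoxeterGeom Cfsg.Agent.ChevalleyStructure.CoxeterGeomTypes
open Cfsg.Agent.Tits.Roots Cfsg.Agent.Nodes.Reps Cfsg.Agent.Nodes.BNOf Cfsg.Agent.Nodes.RGDChev
open Cfsg.Agent.KFacts.RgdChevCoord Cfsg.Agent.BpExc.TowChev
open Cfsg.Agent.BpExc.FamUntw Cfsg.Agent.BpExc.FamInst
open Cfsg.Agent.H378.TorDual Cfsg.Agent.H378.TorChar
open Cfsg.Agent.H942.E8Tab (e8T)

universe u

theorem pow_le_prod {c : ℝ} (hc : 0 ≤ c) (s : Multiset ℂ) (hs : ∀ z ∈ s, c ≤ ‖z‖) : c ^ s.card ≤ ‖s.prod‖ := by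
  induction s using Multiset.induction_on with
  | empty => simp
  | cons a s ih =>
    rw [Multiset.card_cons, Multiset.prod_cons, norm_mul, pow_succ']
    exact mul_le_mul (hs a (Multiset.mem_cons_self a s)) (ih fun z hz => hs z (Multiset.mem_cons_of_mem hz))
      (pow_nonneg hc _) (norm_nonneg _)

/-- the determinant of `w - q` -/
theorem le_det {l : ℕ} {w : Module.End ℤ (Fin l → ℤ)} {N : ℕ} (hN : N ≠ 0) (hw : w ^ N = 1) {q : ℕ} (hq : 1 ≤ q) :
    (q - 1) ^ l ≤ (LinearMap.det (w - (q : ℤ) • (1 : Module.End ℤ (Fin l → ℤ)))).natAbs := by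
  let B : Matrix (Fin l) (Fin l) ℂ := (Int.castRingHom ℂ).mapMatrix (LinearMap.toMatrixAlgEquiv' w)
  have hB : B ^ N = 1 := by
    show ((Int.castRingHom ℂ).mapMatrix (LinearMap.toMatrixAlgEquiv' w)) ^ N = 1
    rw [← map_pow, ← map_pow, hw, map_one, map_one]
  have h1 : ((LinearMap.det (w - (q : ℤ) • (1 : Module.End ℤ (Fin l → ℤ))) : ℤ) : ℂ) = (B - (q : ℂ) • 1).det := by
    rw [← LinearMap.det_toMatrix']
    show (Int.castRingHom ℂ) _ = _
    rw [RingHom.map_det]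
    congr 1
    ext i j
    simp [B, Matrix.one_apply, LinearMap.toMatrixAlgEquiv'_apply, LinearMap.toMatrix'_apply, Pi.single_apply]
  have h2 : ∀ z ∈ (B - (q : ℂ) • 1).charpoly.roots, ((q : ℝ) - 1) ≤ ‖z‖ := by
    intro z hz
    have h3 := (Polynomial.mem_roots (Matrix.charpoly_monic _).ne_zero).1 hz
    rw [Polynomial.IsRoot.def, Matrix.eval_charpoly] at h3
    obtain ⟨v, hv, h4⟩ := Matrix.exists_mulVec_eq_zero_iff.2 h3
    have h5 : B *ᵥ v = (z + q) • v := by
      rw [Matrix.sub_mulVec, Matrix.sub_mulVec, Matrix.smul_mulVec, Matrix.one_mulVec, sub_eq_zero,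
        eq_sub_iff_add_eq] at h4
      rw [← h4, add_smul]
      congr 1
      funext i
      rw [Matrix.scalar_apply, Matrix.mulVec_diagonal]
      rfl
    have h6 : ∀ m : ℕ, (B ^ m) *ᵥ v = (z + q) ^ m • v := by
      intro m
      induction m with
      | zero => rw [pow_zero, pow_zero, Matrix.one_mulVec, one_smul]
      | succ m ih => rw [pow_succ', ← Matrix.mulVec_mulVec, ih, Matrix.mulVec_smul, h5, smul_smul, pow_succ]
    have h7 := h6 N
    rw [hB, Matrix.one_mulVec] at h7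
    have h8 : (z + q) ^ N = 1 := by
      by_contra h9
      apply hv
      have h10 : ((z + q) ^ N - 1) • v = 0 := by rw [sub_smul, ← h7, one_smul, sub_self]
      exact (smul_eq_zero.1 h10).resolve_left (sub_ne_zero.2 h9)
    have h9 : ‖z + q‖ = 1 := by
      have h10 := congrArg norm h8
      rw [norm_pow, norm_one] at h10
      exact (pow_eq_one_iff_of_nonneg (norm_nonneg _) hN).1 h10
    have h10 := norm_sub_le (z + q) z
    rw [add_sub_cancel_left, h9, Complex.norm_natCast] at h10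
    linarith
  have hq' : (0 : ℝ) ≤ (q : ℝ) - 1 := by
    have : (1 : ℝ) ≤ q := by exact_mod_cast hq
    linarith
  have h3 := pow_le_prod hq' _ h2
  rw [IsAlgClosed.card_roots_eq_natDegree, Matrix.charpoly_natDegree_eq_dim, Fintype.card_fin,
    ← Matrix.det_eq_prod_roots_charpoly, ← h1, Complex.norm_intCast, ← Int.cast_abs, Int.abs_eq_natAbs,
    Int.cast_natCast, ← Nat.cast_one (R := ℝ), ← Nat.cast_sub hq, ← Nat.cast_pow] at h3
  exact_mod_cast h3

theorem rp8_pow (w : W8) : rp8 w ^ orderOf w = 1 := by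
  show rep cs8 e8T.isCartan w ^ orderOf w = 1
  rw [← map_pow, pow_orderOf_eq_one, map_one]

variable {F : Type u} [Field F] [Finite F] {p : ℕ} [Fact p.Prime] [CharP F p] {e : ℕ}

variable (p e) in
/-- the twisted torus -/
noncomputable def Tw (n : G8 (Kb F)) : Subgroup (G8 (Kb F)) := TwT chevE8 (Kb F) p e n

theorem mem_Tw {n t : G8 (Kb F)} : t ∈ Tw p e n ↔ t ∈ TT chevE8 (Kb F) ∧ tau p e n t = t := Iff.rfl

theorem card_Tw (he0 : 0 < e) {n : G8 (Kb F)} {w : W8} (hn : Rp cs8 (ns8 p) w n) :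
    Nat.card ↥(Tw p e n) = (LinearMap.det (rp8 w - ((p ^ e : ℕ) : ℤ) • (1 : Module.End ℤ Q8))).natAbs := by
  obtain ⟨φ, -⟩ := twEquiv e8T cs8 p (locFinK p) inv_E8 one_ne_zero hn (m := e)
  rw [← card_kerOf (Kb F) (H378.TorFin.det_rep_ne_zero cs8 p he0 e8T.isCartan w)]
  exact Nat.card_congr φ.toEquiv

section

variable {g n : G8 (Kb F)} {w : W8} (he : Nat.card F = p ^ e) (fr : IsFrame p e g n w)

include he fr

theorem IsFrame.Tw_le : Tw p e n ≤ (ee g : G8 F →* G8 (Kb F)).range := fun _ ht => (fr.mem_range he).2 ht.2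

omit he fr in
theorem comap_comm {S : Subgroup (G8 (Kb F))} (hS : S ≤ TT chevE8 (Kb F)) {x y : G8 F}
    (hx : x ∈ S.comap (ee g : G8 F →* G8 (Kb F))) (hy : y ∈ S.comap (ee g : G8 F →* G8 (Kb F))) : x * y = y * x := by
  apply ee_injective g
  rw [map_mul, map_mul]
  exact H720.TorusReal.TT_comm e8T (hS hx) (hS hy)

omit he fr in
theorem comap_le_stab {v : L8 F} {S : Subgroup (G8 (Kb F))} (hS : S ≤ stab (ev g v)) :
    S.comap (ee g : G8 F →* G8 (Kb F)) ≤ stab v := fun _ hx => (ee_mem_stab g).1 (hS hx)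

end

/-- **TORUS** -/
theorem torus_of (hC : CONJ.{u}) : TORUS.{u} := by
  intro F _ _ p _ _ v ⟨g₀, hg₀⟩
  obtain ⟨e, he0, he⟩ := exists_exp (F := F) p
  obtain ⟨g, n, w, fr, h1, -⟩ := exists_frame hC he0 he (v := v) (g₀ := g₀) hg₀
  have h2 : InT (ev g v) := by rw [h1]; exact hg₀
  have h3 : Tw p e n ≤ TT chevE8 (Kb F) := fun _ ht => ht.1
  refine ⟨(Tw p e n).comap (ee g), comap_le_stab (h3.trans (TT_le h2)), fun x hx y hy => comap_comm h3 hx hy, ?_⟩
  rw [card_comap g (fr.Tw_le he), card_Tw he0 fr.rp, he]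
  exact le_det (orderOf_pos w).ne' (rp8_pow w) (pow_pos (Fact.out : p.Prime).pos e)

end Cfsg.Agent.E8A.Frm
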